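import Groth.Prelude.Def_AlgSt2
import Groth.Agent.H7.Stk.Base
import Groth.Agent.H7.Stk.Rel
import Groth.Agent.H7.Stk.Congr

/-! Morphisms representable by algebraic spaces: faithfulness, stacks. -/

set_option autoImplicit false
set_option backward.isDefEq.respectTransparency false
set_option backward.isDefEq.respectTransparency.types false

universe w v v₂ u₂ u

open CategoryTheory CategoryTheory.Functor AlgebraicGeometry FibCat Opposite
open Groth.Agent.LeadFibCat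

namespace Groth.Agent.H7.AlgSt

open Groth.Agent.H7.Stk.Glue Groth.Agent.H7.Stk.Congr

variable {S : Scheme.{u}}

theorem thin_of_rep {𝒳 : BasedCategory.{v, w} (Over S)} (h : _root_.AlgSt.RepByAlgSp 𝒳) : Thin 𝒳.p := by
  obtain ⟨F, e, he⟩ := h
  obtain ⟨G, hG, -⟩ := equiv_inv he
  exact thin_of_equiv G hG (thin_ofPsh _)

theorem isFibGrpd_of_rep {𝒳 : BasedCategory.{v, w} (Over S)} (h : _root_.AlgSt.RepByAlgSp 𝒳) : IsFibGrpd 𝒳.p := by
  obtain ⟨F, e, he⟩ := h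
  exact isFibGrpd_of_equiv he (_root_.Stk.isFibGrpd_ofPsh _)

variable {𝒳 𝒴 : _root_.AlgSt.Cat S}

/-- thin fibre products with slices force faithfulness -/
theorem faithful_of_thin_fp (h𝒳 : IsFibGrpd 𝒳.p) (h𝒴 : IsFibGrpd 𝒴.p) (f : 𝒳 ⥤ᵇ 𝒴)
    (hf : ∀ (U : Over S) (y : overCat U ⥤ᵇ 𝒴), Thin (fp y f).p) :
    ∀ {a b : 𝒳.obj} (φ φ' : a ⟶ b), f.map φ = f.map φ' → φ = φ' := by
  refine faithful_of_vert (isFibered_of_isFibGrpd h𝒳) (fun φ _ => h𝒴.isStronglyCartesian _) ?_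
  intro a b φ φ' hφ hφ' e
  obtain ⟨G, i, hi⟩ := over_ess h𝒴 (f.obj b) (pobj f b)
  haveI : IsIso (f.map φ) := isIso_of_vert h𝒴 hφ.map
  let o : (overCat (𝒳.p.obj b)).obj := Over.mk (𝟙 _)
  let wa : (fp G f).obj := fpMk o a (i ≪≫ (asIso (f.map φ)).symm) (hi.comp (Vert.symm (e := asIso (f.map φ)) hφ.map))
  let wb : (fp G f).obj := fpMk o b i hi
  have hw : ∀ χ : a ⟶ b, f.map χ = f.map φ →
      G.map (𝟙 o) ≫ wb.obj.iso.hom = wa.obj.iso.hom ≫ f.map χ := fun χ hχ => by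
    show G.map (𝟙 o) ≫ i.hom = (i.hom ≫ inv (f.map φ)) ≫ f.map χ
    rw [hχ, Category.assoc, IsIso.inv_hom_id, Category.comp_id, G.toFunctor.map_id]
    exact Category.id_comp _
  let Φ : wa ⟶ wb := fpHom (𝟙 o) φ (hw φ rfl)
  let Φ' : wa ⟶ wb := fpHom (𝟙 o) φ' (hw φ' e.symm)
  exact congrArg (fun m => m.hom.snd)
    (hf _ G Φ Φ' (Vert.id (p := (overCat (𝒳.p.obj b)).p) o) (Vert.id (p := (overCat (𝒳.p.obj b)).p) o))

theorem faithful_of_rep1 (h𝒳 : IsFibGrpd 𝒳.p) (h𝒴 : IsFibGrpd 𝒴.p) (f : 𝒳 ⥤ᵇ 𝒴)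
    (hf : _root_.AlgSt.RepByAlgSp1 f) :
    ∀ {a b : 𝒳.obj} (φ φ' : a ⟶ b), f.map φ = f.map φ' → φ = φ' :=
  faithful_of_thin_fp h𝒳 h𝒴 f fun U y => thin_of_rep (hf U y)

theorem overCat_isStack (U : Over S) : _root_.Stk.IsStack (AlgSp.J S) (overCat U) := by
  rw [overCat_stack_iff]
  exact GrothendieckTopology.Subcanonical.isSheaf_of_isRepresentable (J := AlgSp.J S) (yoneda.obj U)

theorem over_eq_restricted {C : Type u₂} [Category.{v₂} C] (J : GrothendieckTopology C) (U : C) :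
    (overCat U).p.restrictedTopology J = J.over U := by
  ext X T
  exact (mem_restricted_iff (isFibGrpd_overCat U) J T).trans (GrothendieckTopology.mem_over_iff (J := J) T).symm

theorem stack_of_rep1 (h𝒳 : IsFibGrpd 𝒳.p) (h𝒴 : _root_.Stk.IsStack (AlgSp.J S) 𝒴) (j : 𝒳 ⥤ᵇ 𝒴)
    (hj : _root_.AlgSt.RepByAlgSp1 j) : _root_.Stk.IsStack (AlgSp.J S) 𝒳 := by
  refine stack_of_base h𝒳 h𝒴 j (faithful_of_rep1 h𝒳 h𝒴.1 j hj) fun U y => ?_
  obtain ⟨F, e, he⟩ := hj U y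
  have hfp : _root_.Stk.IsStack (AlgSp.J S) (fp y j) :=
    (stack_iff_of_equiv e he).1 ((psh_stack_iff _ _).2 ((isSheaf_iff_isSheaf_of_type _ _).1 F.obj.property))
  have h := stack_over hfp (overCat_isStack U) (fpFst y j) (isFibGrpd_fpFst (isFibGrpd_overCat U) h𝒳 h𝒴.1)
  rw [over_eq_restricted] at h
  exact h

end Groth.Agent.H7.AlgSt
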