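import Groth.Prelude.Def_AlgSt2
import Groth.Agent.H7.AlgSt.Basic

/-! Functors between categories of presheaves, fibre products, maps of sheaves. -/

set_option autoImplicit false
set_option backward.isDefEq.respectTransparency false
set_option backward.isDefEq.respectTransparency.types false

universe w v₂ v₃ v₄ u₂ u₃ u₄ v u

open CategoryTheory CategoryTheory.Limits CategoryTheory.Functor AlgebraicGeometry FibCat Opposite
open Groth.Agent.LeadFibCat

namespace Groth.Agent.H7.AlgSt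

section General

variable {C : Type u} [Category.{v} C]

variable {𝒳 : BasedCategory.{v₂, u₂} C} {𝒴 : BasedCategory.{v₃, u₃} C} {𝒵 : BasedCategory.{v₄, u₄} C}

def whiskR {F F' : 𝒳 ⥤ᵇ 𝒴} (e : F ≅ F') (G : 𝒴 ⥤ᵇ 𝒵) : BasedFunctor.comp F G ≅ BasedFunctor.comp F' G :=
  isoMk (fun a => G.toFunctor.mapIso (app e a))
    (fun φ => (G.toFunctor.map_comp _ _).symm.trans
      ((congrArg G.map (app_naturality e φ)).trans (G.toFunctor.map_comp _ _)))
    (fun a => (vert_app e a).map)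

def whiskL (F : 𝒳 ⥤ᵇ 𝒴) {G G' : 𝒴 ⥤ᵇ 𝒵} (e : G ≅ G') : BasedFunctor.comp F G ≅ BasedFunctor.comp F G' :=
  isoMk (fun a => app e (F.obj a)) (fun φ => app_naturality e (F.map φ)) (fun a => vert_app e (F.obj a))

variable {P Q R : Cᵒᵖ ⥤ Type w}

theorem pmap_self {a : _root_.Stk.EltObj P} (y : P.obj (op a.base)) :
    P.map (eqToHom (rfl : a.base = a.base)).op y = y := by simp

theorem map_eqToHom_cancel {X Y : C} (h : X = Y) (h' : Y = X) (y : P.obj (op Y)) :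
    P.map (CategoryTheory.eqToHom h').op (P.map (CategoryTheory.eqToHom h).op y) = y := by
  subst h; simp

/-- an isomorphism of elements over an equality of bases -/
def eltIso {a b : _root_.Stk.EltObj Q} (h : a.base = b.base) (hs : Q.map (CategoryTheory.eqToHom h).op b.sec = a.sec) :
    a ≅ b where
  hom := ⟨CategoryTheory.eqToHom h, hs⟩
  inv := ⟨CategoryTheory.eqToHom h.symm, by rw [← hs]; exact map_eqToHom_cancel h h.symm _⟩
  hom_inv_id := _root_.Stk.EltObj.hom_ext (eqToHom_trans h h.symm)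
  inv_hom_id := _root_.Stk.EltObj.hom_ext (eqToHom_trans h.symm h)

theorem eltIso_vert {a b : _root_.Stk.EltObj Q} (h : a.base = b.base)
    (hs : Q.map (CategoryTheory.eqToHom h).op b.sec = a.sec) : Vert (_root_.Stk.ofPsh Q).p (eltIso h hs).hom :=
  ⟨h, rfl⟩

/-- the map of presheaves of a functor over the base -/
def toMap (Φ : _root_.Stk.ofPsh P ⥤ᵇ _root_.Stk.ofPsh Q) : P ⟶ Q where
  app T := TypeCat.ofHom fun x => Q.map (CategoryTheory.eqToHom (Φ.w_obj ⟨T.unop, x⟩).symm).op (Φ.obj ⟨T.unop, x⟩).sec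
  naturality T T' g := by
    ext x
    have key : ∀ {a' a : _root_.Stk.EltObj P} (ψ : a' ⟶ a),
        Q.map (CategoryTheory.eqToHom (Φ.w_obj a').symm).op (Φ.obj a').sec =
          Q.map ψ.hom.op (Q.map (CategoryTheory.eqToHom (Φ.w_obj a).symm).op (Φ.obj a).sec) := by
      intro a' a ψ
      rw [← (Φ.map ψ).map_sec]
      have h : (Φ.map ψ).hom = _ := pmap Φ ψ
      simp only [← comp_apply, ← Functor.map_comp, ← op_comp, h]
      simp [_root_.Stk.ofPsh]
    exact key (⟨g.unop, rfl⟩ : (⟨T'.unop, P.map g x⟩ : _root_.Stk.EltObj P) ⟶ ⟨T.unop, x⟩)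

theorem toMap_app (Φ : _root_.Stk.ofPsh P ⥤ᵇ _root_.Stk.ofPsh Q) (a : _root_.Stk.EltObj P) :
    (toMap Φ).app (op a.base) a.sec = Q.map (CategoryTheory.eqToHom (Φ.w_obj a).symm).op (Φ.obj a).sec := rfl

/-- every functor is that of its map of presheaves -/
def isoToMap (Φ : _root_.Stk.ofPsh P ⥤ᵇ _root_.Stk.ofPsh Q) : Φ ≅ _root_.Stk.ofPshMap (toMap Φ) :=
  isoMk (fun a => eltIso (Φ.w_obj a) (map_eqToHom_cancel (Φ.w_obj a).symm (Φ.w_obj a) _))
    (fun {a b} φ => _root_.Stk.EltObj.hom_ext (by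
      have h : (Φ.map φ).hom = _ := pmap Φ φ
      show (Φ.map φ).hom ≫ CategoryTheory.eqToHom (Φ.w_obj b) = CategoryTheory.eqToHom (Φ.w_obj a) ≫ φ.hom
      rw [h]; simp [_root_.Stk.ofPsh]))
    (fun a => eltIso_vert _ _)

theorem toMap_congr {Φ Ψ : _root_.Stk.ofPsh P ⥤ᵇ _root_.Stk.ofPsh Q} (e : Φ ≅ Ψ) : toMap Φ = toMap Ψ := by
  ext T x
  obtain ⟨T⟩ := T
  have h : (app e ⟨T, x⟩).hom.hom = _ := (vert_app e ⟨T, x⟩).map_eq
  show Q.map (CategoryTheory.eqToHom _).op (Φ.obj ⟨T, x⟩).sec = Q.map (CategoryTheory.eqToHom _).op (Ψ.obj ⟨T, x⟩).sec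
  rw [← (app e ⟨T, x⟩).hom.map_sec, h]
  simp only [← comp_apply, ← Functor.map_comp, ← op_comp, eqToHom_trans]

theorem toMap_ofPshMap (m : P ⟶ Q) : toMap (_root_.Stk.ofPshMap m) = m := by
  ext T x
  obtain ⟨T⟩ := T
  show Q.map (CategoryTheory.eqToHom (rfl : T = T)).op (m.app (op T) x) = m.app (op T) x
  simp

theorem toMap_comp (Φ : _root_.Stk.ofPsh P ⥤ᵇ _root_.Stk.ofPsh Q) (Ψ : _root_.Stk.ofPsh Q ⥤ᵇ _root_.Stk.ofPsh R) :
    toMap (BasedFunctor.comp Φ Ψ) = toMap Φ ≫ toMap Ψ := by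
  have e : BasedFunctor.comp Φ Ψ ≅ _root_.Stk.ofPshMap (toMap Φ ≫ toMap Ψ) :=
    whiskR (isoToMap Φ) Ψ ≪≫ whiskL (_root_.Stk.ofPshMap (toMap Φ)) (isoToMap Ψ)
  rw [toMap_congr e, toMap_ofPshMap]

theorem toMap_id : toMap (BasedFunctor.id (_root_.Stk.ofPsh P)) = 𝟙 P :=
  (toMap_congr (Iso.refl _ : BasedFunctor.id (_root_.Stk.ofPsh P) ≅ _root_.Stk.ofPshMap (𝟙 P))).trans
    (toMap_ofPshMap (𝟙 P))

theorem isIso_toMap {Φ : _root_.Stk.ofPsh P ⥤ᵇ _root_.Stk.ofPsh Q} (h : IsEquivOver Φ) : IsIso (toMap Φ) := by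
  obtain ⟨G, ⟨u'⟩, ⟨c⟩⟩ := h
  refine ⟨toMap G, ?_, ?_⟩
  · rw [← toMap_comp, toMap_congr u', toMap_id]
  · rw [← toMap_comp, toMap_congr c, toMap_id]

theorem ofPshMap_equiv (m : P ⟶ Q) [IsIso m] : IsEquivOver (_root_.Stk.ofPshMap m) := by
  have hinj : ∀ {T : C} (x x' : P.obj (op T)), m.app (op T) x = m.app (op T) x' → x = x' := fun {T} x x' e => by
    have h := congrArg ((inv m).app (op T)) e
    simpa [← comp_apply, ← NatTrans.comp_app] using h
  refine isEquivOver_mk _ (fun {a b} ψ => ⟨⟨ψ.hom, hinj _ _ ?_⟩, _root_.Stk.EltObj.hom_ext rfl⟩)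
    (fun {a b} φ φ' e => ?_) fun η => ?_
  · refine (NatTrans.naturality_apply m ψ.hom.op b.sec).trans ?_
    exact ψ.map_sec
  · exact _root_.Stk.EltObj.hom_ext (congrArg (fun k => k.hom) e :)
  · exact ⟨⟨η.base, (inv m).app _ η.sec⟩, eltIso rfl (by
      show Q.map (CategoryTheory.eqToHom rfl).op η.sec = m.app _ ((inv m).app _ η.sec)
      simp [← comp_apply, ← NatTrans.comp_app]), eltIso_vert _ _⟩

/-- a cartesian square of presheaves gives the fibre product of the categories -/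
theorem fp_ofPsh {W A B G : Cᵒᵖ ⥤ Type w} {fst : W ⟶ A} {snd : W ⟶ B} {a : A ⟶ G} {b : B ⟶ G}
    (sq : IsPullback fst snd a b) :
    ∃ E : _root_.Stk.ofPsh W ⥤ᵇ fp (_root_.Stk.ofPshMap a) (_root_.Stk.ofPshMap b), IsEquivOver E ∧
      BasedFunctor.comp E (fpFst _ _) = _root_.Stk.ofPshMap fst ∧
      BasedFunctor.comp E (fpSnd _ _) = _root_.Stk.ofPshMap snd := by
  have hT : ∀ T : C, IsPullback (fst.app (op T)) (snd.app (op T)) (a.app (op T)) (b.app (op T)) :=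
    fun T => sq.map ((evaluation _ _).obj (op T))
  have hw : ∀ x : _root_.Stk.EltObj W,
      G.map (CategoryTheory.eqToHom (rfl : x.base = x.base)).op (b.app _ (snd.app _ x.sec)) = a.app _ (fst.app _ x.sec) :=
    fun x => (pmap_self (P := G) (a := ⟨x.base, a.app _ (fst.app _ x.sec)⟩) _).trans
      (ConcreteCategory.congr_hom (hT x.base).w x.sec).symm
  let E : _root_.Stk.ofPsh W ⥤ᵇ fp (_root_.Stk.ofPshMap a) (_root_.Stk.ofPshMap b) :=
    lift' (_root_.Stk.ofPshMap fst) (_root_.Stk.ofPshMap snd) (fun x => eltIso rfl (hw x))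
      (fun φ => _root_.Stk.EltObj.hom_ext ((Category.comp_id _).trans (Category.id_comp _).symm))
      (fun x => eltIso_vert _ _)
  refine ⟨E, isEquivOver_mk E (fun {x y} ψ => ?_) (fun {x y} φ φ' e => ?_) fun η => ?_, rfl, rfl⟩
  · have hh : ψ.hom.snd.hom = ψ.hom.fst.hom := by
      have h : ψ.hom.fst.hom ≫ 𝟙 y.base = 𝟙 x.base ≫ ψ.hom.snd.hom :=
        congrArg _root_.Stk.EltObj.Hom.hom ψ.hom.w
      exact (h.trans (Category.id_comp _)).symm.trans (Category.comp_id _)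
    refine ⟨⟨ψ.hom.fst.hom, ?_⟩, fp_ext (_root_.Stk.EltObj.hom_ext rfl) (_root_.Stk.EltObj.hom_ext hh.symm)⟩
    refine Types.ext_of_isPullback (hT x.base) ?_ ?_
    · exact (NatTrans.naturality_apply fst _ _).trans ψ.hom.fst.map_sec
    · refine (NatTrans.naturality_apply snd _ _).trans ?_
      rw [← hh]; exact ψ.hom.snd.map_sec
  · exact _root_.Stk.EltObj.hom_ext (congrArg (fun k => k.hom.fst.hom) e :)
  · obtain ⟨hbase, hiso⟩ := fp_vert η
    obtain ⟨t, ht₁, ht₂⟩ := Types.exists_of_isPullback (hT η.obj.fst.base) η.obj.fst.sec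
      (B.map (CategoryTheory.eqToHom hbase).op η.obj.snd.sec) (by
        refine Eq.trans ?_ (NatTrans.naturality_apply b _ _).symm
        have h := η.obj.iso.hom.map_sec
        rw [show η.obj.iso.hom.hom = CategoryTheory.eqToHom hbase from hiso] at h
        exact h.symm)
    refine ⟨⟨η.obj.fst.base, t⟩, fpIsoMk
      (eltIso rfl ((pmap_self (a := η.obj.fst) _).trans ht₁.symm)) (eltIso hbase ht₂.symm) ?_, rfl, rfl⟩
    refine _root_.Stk.EltObj.hom_ext ?_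
    show 𝟙 η.obj.fst.base ≫ η.obj.iso.hom.hom = 𝟙 η.obj.fst.base ≫ CategoryTheory.eqToHom hbase
    rw [show η.obj.iso.hom.hom = CategoryTheory.eqToHom hbase from hiso]

end General

section Sch

variable {S : Scheme.{u}}

theorem toOver_ofOver (U : Over S) :
    BasedFunctor.comp (_root_.AlgSt.toOverCat U) (_root_.AlgSt.ofOverCat U) = BasedFunctor.id _ := rfl

theorem ofOver_toOver (U : Over S) :
    BasedFunctor.comp (_root_.AlgSt.ofOverCat U) (_root_.AlgSt.toOverCat U) = BasedFunctor.id _ := rfl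

theorem toOver_equiv (U : Over S) : IsEquivOver (_root_.AlgSt.toOverCat U) :=
  ⟨_root_.AlgSt.ofOverCat U, ⟨eqToIso (toOver_ofOver U)⟩, ⟨eqToIso (ofOver_toOver U)⟩⟩

theorem ofOver_equiv (U : Over S) : IsEquivOver (_root_.AlgSt.ofOverCat U) :=
  ⟨_root_.AlgSt.toOverCat U, ⟨eqToIso (ofOver_toOver U)⟩, ⟨eqToIso (toOver_ofOver U)⟩⟩

theorem spMapOfOver_eq {F : AlgSp.Sp S} {U : Over S} (Φ : _root_.AlgSt.ofSp F ⥤ᵇ overCat U) :
    (_root_.AlgSt.spMapOfOver Φ).hom = toMap (BasedFunctor.comp Φ (_root_.AlgSt.ofOverCat U)) := rfl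

theorem spMapOfOver_comp {F : AlgSp.Sp S} {U : Over S} {P : (Over S)ᵒᵖ ⥤ Type (u + 1)}
    (K : _root_.AlgSt.ofSp F ⥤ᵇ _root_.Stk.ofPsh P) (m : P ⟶ ((AlgSp.yon S).obj U).obj)
    (Φ : _root_.AlgSt.ofSp F ⥤ᵇ overCat U)
    (e : Φ ≅ BasedFunctor.comp K (BasedFunctor.comp (_root_.Stk.ofPshMap m) (_root_.AlgSt.toOverCat U))) :
    (_root_.AlgSt.spMapOfOver Φ).hom = toMap K ≫ m := by
  rw [spMapOfOver_eq, toMap_congr (whiskR e (_root_.AlgSt.ofOverCat U))]
  show toMap (BasedFunctor.comp K (BasedFunctor.comp (_root_.Stk.ofPshMap m)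
    (BasedFunctor.comp (_root_.AlgSt.toOverCat U) (_root_.AlgSt.ofOverCat U)))) = _
  rw [toOver_ofOver]
  show toMap (BasedFunctor.comp K (_root_.Stk.ofPshMap m)) = _
  rw [toMap_comp, toMap_ofPshMap]

end Sch

end Groth.Agent.H7.AlgSt
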