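import Groth.Agent.H7.AlgSt.LftDiag
import Groth.Agent.AlgSpTopo.ProperMor
import Groth.Agent.AlgSpTopo.RepPerm
import Groth.Agent.AlgSpTopo.RepPoints

/-! Cancellation for properties of morphisms of stacks. -/

set_option autoImplicit false
set_option backward.isDefEq.respectTransparency false
set_option backward.isDefEq.respectTransparency.types false

universe w v v₂ v₃ u₂ u₃ u

open CategoryTheory CategoryTheory.Limits CategoryTheory.Functor AlgebraicGeometry FibCat Opposite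
open Groth.Agent.LeadFibCat Groth.Agent.H7.Stk.Glue Groth.Agent.H7.Stk.Congr

namespace Groth.Agent.H7.AlgSt

variable {S : Scheme.{u}} {P : MorphismProperty (AlgSp.Sp S)}
variable {X Y : AlgSp.Sp S}

theorem dm_diagonal (hX : AlgSp.IsAlgSpace X) (hY : AlgSp.IsAlgSpace Y) (a : X ⟶ Y) :
    AlgSp.LocP (@LocallyOfFiniteType ⊓ @FormallyUnramified) (pullback.diagonal a) := by
  obtain ⟨hr, h1, -, -, h5⟩ := AlgSpTopo.repWith_diagonal_props hX a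
  refine (AlgSpTopo.locP_iff_repWith AlgSpTopo.etaleLocal_unramified hX
    (AlgSpTopo.isAlgSpace_pullback hX hY hX a a) _ hr).2 ⟨hr, fun _ _ k fst snd sq => ?_⟩
  haveI : LocallyOfFiniteType snd.left := h1.property k fst snd sq
  haveI : Mono snd.left := h5.property k fst snd sq
  exact ⟨inferInstanceAs (LocallyOfFiniteType snd.left), inferInstanceAs (FormallyUnramified snd.left)⟩

theorem qdm_diagonal (hX : AlgSp.IsAlgSpace X) (hY : AlgSp.IsAlgSpace Y) (a : X ⟶ Y) :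
    AlgSp.LocP (@LocallyQuasiFinite ⊓ @LocallyOfFiniteType) (pullback.diagonal a) := by
  obtain ⟨hr, -, h2, -, -⟩ := AlgSpTopo.repWith_diagonal_props hX a
  exact (AlgSpTopo.locP_iff_repWith AlgSpTopo.etaleLocal_lqf hX
    (AlgSpTopo.isAlgSpace_pullback hX hY hX a a) _ hr).2 h2

theorem proper_diagonal' (hX : AlgSp.IsAlgSpace X) (hY : AlgSp.IsAlgSpace Y) (a : X ⟶ Y) (h : AlgSp.IsSeparatedMor a) :
    AlgSp.IsProperMor (pullback.diagonal a) :=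
  AlgSpTopo.proper_of_finite hX (AlgSpTopo.isAlgSpace_pullback hX hY hX a a) (AlgSpTopo.repWith_finite_of_closedImm h)

theorem diagonal_qs (hX : AlgSp.IsAlgSpace X) (a : X ⟶ Y) : AlgSp.IsQuasiSeparatedMor (pullback.diagonal a) :=
  (AlgSpTopo.quasiSeparatedMor_iff hX _).2 (AlgSpTopo.diagP_of_mono hX _)

theorem qcqs_diagonal (hX : AlgSp.IsAlgSpace X) (hY : AlgSp.IsAlgSpace Y) (a : X ⟶ Y) (h : AlgSp.IsQuasiSeparatedMor a) :
    (AlgSp.IsQuasiCompactMor ⊓ AlgSp.IsQuasiSeparatedMor) (pullback.diagonal a) :=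
  ⟨(AlgSpTopo.repWith_quasiCompact_iff hX (AlgSpTopo.isAlgSpace_pullback hX hY hX a a) h.rep).1 h, diagonal_qs hX a⟩

theorem lft_of_dm {𝒳 𝒴 : _root_.AlgSt.Cat S} {f : 𝒳 ⥤ᵇ 𝒴}
    (h : _root_.AlgSt.RepByAlgSpWith (AlgSp.LocP (@LocallyOfFiniteType ⊓ @FormallyUnramified)) f) :
    _root_.AlgSt.RepByAlgSpWith (AlgSp.LocP @LocallyOfFiniteType) f :=
  with_mono_prop (fun _ _ _ _ _ ha => AlgSpTopo.locP_mono (A := @LocallyOfFiniteType ⊓ @FormallyUnramified)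
    (B := @LocallyOfFiniteType) (fun _ _ _ hg => hg.1) ha) h

/-- cancellation -/
theorem with_cancel (hP : Good P)
    (hPc : ∀ ⦃X Y Z : AlgSp.Sp S⦄, AlgSp.IsAlgSpace X → AlgSp.IsAlgSpace Y → AlgSp.IsAlgSpace Z →
      ∀ (a : X ⟶ Y) (b : Y ⟶ Z), P a → P b → P (a ≫ b))
    {𝒳 𝒴 𝒵 : _root_.AlgSt.Cat S} (h𝒳 : IsFibGrpd 𝒳.p) (h𝒴 : IsFibGrpd 𝒴.p) (h𝒵 : IsFibGrpd 𝒵.p)
    (a : 𝒳 ⥤ᵇ 𝒴) (b : 𝒴 ⥤ᵇ 𝒵) (h : _root_.AlgSt.RepByAlgSpWith P (BasedFunctor.comp a b))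
    (hb : _root_.AlgSt.RepByAlgSpWith P (diag b)) : _root_.AlgSt.RepByAlgSpWith P a := by
  let e : BasedFunctor.comp (BasedFunctor.id 𝒳) (BasedFunctor.comp a b) ≅ BasedFunctor.comp a b := eqToIso rfl
  have hΓ := with_graph (BasedFunctor.comp a b) b a e hb
  have hc := with_comp hP hPc h𝒳 (isFibGrpd_fp h𝒳 h𝒴 h𝒵) _ (fpSnd (BasedFunctor.comp a b) b) hΓ
    (with_fpSnd _ b h)
  exact (with_iff a (BasedFunctor.comp (fpLift (BasedFunctor.id 𝒳) a e) (fpSnd (BasedFunctor.comp a b) b))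
    (BasedFunctor.id _) (BasedFunctor.id _) (equiv_id _) (equiv_id _)
    (eqToIso rfl : BasedFunctor.comp (fpLift (F := BasedFunctor.comp a b) (G := b) (BasedFunctor.id 𝒳) a e)
      (fpSnd (BasedFunctor.comp a b) b) ≅ a)).2 hc

/-- cancellation for diagonals -/
theorem with_diag_cancel (hP : Good P)
    (hPc : ∀ ⦃X Y Z : AlgSp.Sp S⦄, AlgSp.IsAlgSpace X → AlgSp.IsAlgSpace Y → AlgSp.IsAlgSpace Z →
      ∀ (a : X ⟶ Y) (b : Y ⟶ Z), P a → P b → P (a ≫ b))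
    {Q : MorphismProperty (AlgSp.Sp S)}
    (hQ : ∀ ⦃X Y : AlgSp.Sp S⦄, AlgSp.IsAlgSpace X → AlgSp.IsAlgSpace Y → ∀ a : X ⟶ Y, Q a → P (pullback.diagonal a))
    {𝒳 𝒴 𝒵 : _root_.AlgSt.Cat S} (h𝒳 : IsFibGrpd 𝒳.p) (h𝒴 : IsFibGrpd 𝒴.p) (h𝒵 : IsFibGrpd 𝒵.p)
    (f : 𝒳 ⥤ᵇ 𝒴) (g : 𝒴 ⥤ᵇ 𝒵) (h : _root_.AlgSt.RepByAlgSpWith P (diag (BasedFunctor.comp f g)))
    (hg : _root_.AlgSt.RepByAlgSpWith Q (diag g)) : _root_.AlgSt.RepByAlgSpWith P (diag f) := by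
  let e : BasedFunctor.comp (fpFst f f) (BasedFunctor.comp f g) ≅ BasedFunctor.comp (fpSnd f f) (BasedFunctor.comp f g) :=
    isoMk (fun w => g.toFunctor.mapIso w.obj.iso)
      (fun {w w'} φ => by
        show g.map (f.map φ.hom.fst) ≫ g.map w'.obj.iso.hom = g.map w.obj.iso.hom ≫ g.map (f.map φ.hom.snd)
        rw [← g.toFunctor.map_comp, ← g.toFunctor.map_comp]
        exact congrArg g.map φ.hom.w)
      (fun w => (fp_vert w).map)
  let M := fpLift (fpFst f f) (fpSnd f f) e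
  have hM : _root_.AlgSt.RepByAlgSpWith Q M := with_comparison f f g e (fun _ => rfl) hg
  refine with_cancel hP hPc h𝒳 (isFibGrpd_fp h𝒳 h𝒳 h𝒴) (isFibGrpd_fp h𝒳 h𝒳 h𝒵) (diag f) M ?_
    (with_diag_of_with hP M hM hQ)
  let ε : BasedFunctor.comp (diag (BasedFunctor.comp f g)) (BasedFunctor.id _) ≅
      BasedFunctor.comp (BasedFunctor.id 𝒳) (BasedFunctor.comp (diag f) M) :=
    isoMk (fun x => fpIsoMk (Iso.refl x) (Iso.refl x) (by
        show g.map (f.map (𝟙 x)) ≫ g.map (𝟙 _) = 𝟙 _ ≫ g.map (f.map (𝟙 x))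
        rw [f.toFunctor.map_id, g.toFunctor.map_id]))
      (fun φ => fp_ext ((Category.comp_id _).trans (Category.id_comp _).symm)
        ((Category.comp_id _).trans (Category.id_comp _).symm))
      (fun x => Vert.id (p := 𝒳.p) x)
  exact (with_iff _ (diag (BasedFunctor.comp f g)) (BasedFunctor.id _) (BasedFunctor.id _) (equiv_id _) (equiv_id _) ε).2 h

theorem rep1_diag_with {𝒳 𝒴 : _root_.AlgSt.Cat S} (h𝒳 : _root_.AlgSt.IsAlgStack Scheme.fppfPrecoverage 𝒳)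
    (h𝒴 : _root_.AlgSt.IsAlgStack Scheme.fppfPrecoverage 𝒴) (f : 𝒳 ⥤ᵇ 𝒴) :
    _root_.AlgSt.RepByAlgSpWith (⊤ : MorphismProperty (AlgSp.Sp S)) (diag f) :=
  with_mono_prop (fun _ _ _ _ _ _ => trivial) (with_diag_lft h𝒳 h𝒴 f)

end Groth.Agent.H7.AlgSt
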