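import Groth.Agent.H7.AlgSt.Easy
import Groth.Agent.S10519
import Groth.Agent.S10520
import Groth.Agent.S10536

/-! Diagonals: graphs, sections, comparison maps, composition. -/

set_option autoImplicit false
set_option backward.isDefEq.respectTransparency false
set_option backward.isDefEq.respectTransparency.types false

universe w v v₂ v₃ u₂ u₃ u

open CategoryTheory CategoryTheory.Limits CategoryTheory.Functor AlgebraicGeometry FibCat Opposite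
open Groth.Agent.LeadFibCat Groth.Agent.H7.Stk.Glue Groth.Agent.H7.Stk.Congr

namespace Groth.Agent.H7.AlgSt

variable {S : Scheme.{u}} {P : MorphismProperty (AlgSp.Sp S)}

/-- graphs are base changes of the diagonal -/
theorem with_graph {𝒳 𝒴 𝒯 : _root_.AlgSt.Cat S} (p : 𝒳 ⥤ᵇ 𝒯) (q : 𝒴 ⥤ᵇ 𝒯) (g : 𝒳 ⥤ᵇ 𝒴)
    (e : BasedFunctor.comp (BasedFunctor.id 𝒳) p ≅ BasedFunctor.comp g q)
    (h : _root_.AlgSt.RepByAlgSpWith P (diag q)) :
    _root_.AlgSt.RepByAlgSpWith P (fpLift (BasedFunctor.id 𝒳) g e) := by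
  let Γ := fpLift (BasedFunctor.id 𝒳) g e
  let k : fp p q ⥤ᵇ fp q q :=
    lift' (BasedFunctor.comp (fpFst p q) g) (fpSnd p q) (fun w => (app e w.obj.fst).symm ≪≫ w.obj.iso)
      (fun {w w'} φ => by
        have h1 : p.map φ.hom.fst ≫ (app e w'.obj.fst).hom = (app e w.obj.fst).hom ≫ q.map (g.map φ.hom.fst) :=
          app_naturality e φ.hom.fst
        have h2 : p.map φ.hom.fst ≫ w'.obj.iso.hom = w.obj.iso.hom ≫ q.map φ.hom.snd := φ.hom.w
        show q.map (g.map φ.hom.fst) ≫ (app e w'.obj.fst).inv ≫ w'.obj.iso.hom =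
          ((app e w.obj.fst).inv ≫ w.obj.iso.hom) ≫ q.map φ.hom.snd
        have h1' : q.map (g.map φ.hom.fst) ≫ (app e w'.obj.fst).inv = (app e w.obj.fst).inv ≫ p.map φ.hom.fst := by
          rw [Iso.eq_inv_comp, ← Category.assoc, Iso.comp_inv_eq]; exact h1.symm
        rw [reassoc_of% h1', h2, Category.assoc])
      (fun w => (vert_app e w.obj.fst).symm.comp (fp_vert w))
  let E : 𝒳 ⥤ᵇ fp k (diag q) :=
    lift' Γ g
      (fun x => fpIsoMk (Iso.refl (g.obj x)) (Iso.refl (g.obj x)) (by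
        show q.map (𝟙 (g.obj x)) ≫ 𝟙 _ = ((app e x).inv ≫ (app e x).hom) ≫ q.map (𝟙 (g.obj x))
        rw [Iso.inv_hom_id, q.toFunctor.map_id]
        exact rfl))
      (fun φ => fp_ext ((Category.comp_id _).trans (Category.id_comp _).symm)
        ((Category.comp_id _).trans (Category.id_comp _).symm))
      (fun x => Vert.id (p := 𝒴.p) (g.obj x))
  have hE : IsEquivOver E := by
    refine isEquivOver_mk E (fun {x x'} ψ => ?_) (fun {x x'} φ φ' h => ?_) fun η => ?_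
    · let m : x ⟶ x' := ψ.hom.fst.hom.fst
      have h1 : g.map m ≫ 𝟙 _ = 𝟙 _ ≫ ψ.hom.snd := congrArg (fun t => t.hom.fst) ψ.hom.w
      have h2 : ψ.hom.fst.hom.snd ≫ 𝟙 _ = 𝟙 _ ≫ ψ.hom.snd := congrArg (fun t => t.hom.snd) ψ.hom.w
      rw [Category.comp_id, Category.id_comp] at h1 h2
      exact ⟨m, fp_ext (fp_ext rfl (h1.trans h2.symm)) h1⟩
    · exact congrArg (fun t => t.hom.fst.hom.fst) h
    · let w := η.obj.fst
      let a : g.obj w.obj.fst ≅ η.obj.snd := (CategoricalPullback.π₁ _ _).mapIso ((fpProp _ _).ι.mapIso η.obj.iso)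
      let b : w.obj.snd ≅ η.obj.snd := (CategoricalPullback.π₂ _ _).mapIso ((fpProp _ _).ι.mapIso η.obj.iso)
      have hw : q.map a.hom ≫ 𝟙 _ = ((app e w.obj.fst).inv ≫ w.obj.iso.hom) ≫ q.map b.hom := η.obj.iso.hom.hom.w
      refine ⟨w.obj.fst, fpIsoMk (fpIsoMk (Iso.refl w.obj.fst) (a ≪≫ b.symm) ?_) a ?_,
        Vert.id (p := 𝒳.p) w.obj.fst⟩
      · show p.map (𝟙 _) ≫ w.obj.iso.hom = (app e w.obj.fst).hom ≫ q.map (a.hom ≫ b.inv)
        rw [Category.comp_id] at hw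
        rw [p.toFunctor.map_id, q.toFunctor.map_comp, hw]
        simp only [Category.assoc, Iso.hom_inv_id_assoc]
        rw [← q.toFunctor.map_comp, b.hom_inv_id, q.toFunctor.map_id]
        exact (Category.id_comp _).trans (Category.comp_id _).symm
      · refine fp_ext ?_ ?_
        · show g.map (𝟙 _) ≫ a.hom = 𝟙 _ ≫ a.hom
          rw [g.toFunctor.map_id]
        · show (a.hom ≫ b.inv) ≫ b.hom = 𝟙 _ ≫ a.hom
          simp
  exact (with_iff (fpFst k (diag q)) Γ E (BasedFunctor.id _) hE (equiv_id _) (eqToIso rfl)).1 (with_fpFst (diag q) k h)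

/-- sections -/
theorem with_section {𝒳 𝒯 : _root_.AlgSt.Cat S} (f : 𝒳 ⥤ᵇ 𝒯) (s : 𝒯 ⥤ᵇ 𝒳)
    (e : BasedFunctor.comp s f ≅ BasedFunctor.id 𝒯) (h : _root_.AlgSt.RepByAlgSpWith P (diag f)) :
    _root_.AlgSt.RepByAlgSpWith P s := by
  have hΓ := with_graph (BasedFunctor.id 𝒯) f s e.symm h
  have hπ : IsEquivOver (fpSnd (BasedFunctor.id 𝒯) f) := by
    refine isEquivOver_mk _ (fun {w w'} ψ => ?_) (fun {w w'} φ φ' h => ?_) fun η => ?_
    · refine ⟨fpHom (w.obj.iso.hom ≫ f.map ψ ≫ w'.obj.iso.inv) ψ ?_, rfl⟩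
      show (w.obj.iso.hom ≫ f.map ψ ≫ w'.obj.iso.inv) ≫ w'.obj.iso.hom = w.obj.iso.hom ≫ f.map ψ
      rw [Category.assoc, Category.assoc, Iso.inv_hom_id, Category.comp_id]
    · have h2 : φ.hom.snd = φ'.hom.snd := h
      have e1 : φ.hom.fst ≫ w'.obj.iso.hom = w.obj.iso.hom ≫ f.map φ.hom.snd := φ.hom.w
      have e2 : φ'.hom.fst ≫ w'.obj.iso.hom = w.obj.iso.hom ≫ f.map φ'.hom.snd := φ'.hom.w
      exact fp_ext ((cancel_mono w'.obj.iso.hom).1 (e1.trans (by rw [e2, h2]))) h2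
    · exact ⟨fpMk (f.obj η) η (Iso.refl _) (Vert.id _), Iso.refl η, Vert.id (p := 𝒳.p) η⟩
  exact (with_iff s (fpLift (F := BasedFunctor.id 𝒯) (G := f) (BasedFunctor.id 𝒯) s e.symm) (BasedFunctor.id _) (fpSnd (BasedFunctor.id 𝒯) f)
    (equiv_id _) hπ (eqToIso rfl)).2 hΓ

/-- the map to the double fibre product of a pair of morphisms -/
noncomputable def compK {𝒳 𝒴 𝒵 𝒯 : _root_.AlgSt.Cat S} (f : 𝒳 ⥤ᵇ 𝒵) (g : 𝒴 ⥤ᵇ 𝒵) (t : 𝒵 ⥤ᵇ 𝒯) :
    fp (BasedFunctor.comp f t) (BasedFunctor.comp g t) ⥤ᵇ fp t t :=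
  lift' (BasedFunctor.comp (fpFst _ _) f) (BasedFunctor.comp (fpSnd _ _) g) (fun w => w.obj.iso)
    (fun φ => φ.hom.w) (fun w => fp_vert w)

theorem comparison_equiv {𝒳 𝒴 𝒵 𝒯 : _root_.AlgSt.Cat S} (f : 𝒳 ⥤ᵇ 𝒵) (g : 𝒴 ⥤ᵇ 𝒵) (t : 𝒵 ⥤ᵇ 𝒯)
    (e : BasedFunctor.comp (fpFst f g) (BasedFunctor.comp f t) ≅ BasedFunctor.comp (fpSnd f g) (BasedFunctor.comp g t))
    (he : ∀ x, e.hom.toNatTrans.app x = t.map x.obj.iso.hom) :
    ∃ E : fp f g ⥤ᵇ fp (compK f g t) (diag t), IsEquivOver E ∧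
      BasedFunctor.comp E (fpFst (compK f g t) (diag t)) = fpLift (fpFst f g) (fpSnd f g) e := by
  let C := fpLift (fpFst f g) (fpSnd f g) e
  let k := compK f g t
  let E : fp f g ⥤ᵇ fp k (diag t) :=
    lift' C (BasedFunctor.comp (fpSnd f g) g)
      (fun w => fpIsoMk w.obj.iso (Iso.refl (g.obj w.obj.snd)) (by
        show t.map w.obj.iso.hom ≫ 𝟙 _ = e.hom.toNatTrans.app w ≫ t.map (𝟙 _)
        rw [he, t.toFunctor.map_id]
        rfl))
      (fun {w w'} φ => fp_ext φ.hom.w ((Category.comp_id _).trans (Category.id_comp _).symm))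
      (fun w => fp_vert w)
  have hE : IsEquivOver E := by
    refine isEquivOver_mk E (fun {x x'} ψ => ?_) (fun {x x'} φ φ' h => ?_) fun η => ?_
    · have h1 : f.map ψ.hom.fst.hom.fst ≫ x'.obj.iso.hom = x.obj.iso.hom ≫ ψ.hom.snd :=
        congrArg (fun m => m.hom.fst) ψ.hom.w
      have h2 : g.map ψ.hom.fst.hom.snd ≫ 𝟙 _ = 𝟙 _ ≫ ψ.hom.snd := congrArg (fun m => m.hom.snd) ψ.hom.w
      rw [Category.comp_id, Category.id_comp] at h2
      exact ⟨fpHom ψ.hom.fst.hom.fst ψ.hom.fst.hom.snd (by rw [h1, h2]), fp_ext (fp_ext rfl rfl) h2⟩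
    · exact fp_ext (congrArg (fun m => m.hom.fst.hom.fst) h :) (congrArg (fun m => m.hom.fst.hom.snd) h :)
    · let w := η.obj.fst
      let a : f.obj w.obj.fst ≅ η.obj.snd := (CategoricalPullback.π₁ _ _).mapIso ((fpProp _ _).ι.mapIso η.obj.iso)
      let b : g.obj w.obj.snd ≅ η.obj.snd := (CategoricalPullback.π₂ _ _).mapIso ((fpProp _ _).ι.mapIso η.obj.iso)
      have ha : Vert 𝒵.p a.hom := (fp_vert η).map (F := fpFst t t)
      have hb : Vert 𝒵.p b.hom := (fp_vert η).map (F := fpSnd t t)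
      have hw : t.map a.hom ≫ 𝟙 _ = w.obj.iso.hom ≫ t.map b.hom := η.obj.iso.hom.hom.w
      let ξ : (fp f g).obj := fpMk w.obj.fst w.obj.snd (a ≪≫ b.symm) (ha.comp hb.symm)
      refine ⟨ξ, fpIsoMk (fpIsoMk (Iso.refl w.obj.fst) (Iso.refl w.obj.snd) ?_) b ?_,
        Vert.id (p := 𝒳.p) w.obj.fst⟩
      · show t.map (f.map (𝟙 _)) ≫ w.obj.iso.hom = e.hom.toNatTrans.app ξ ≫ t.map (g.map (𝟙 _))
        rw [he, f.toFunctor.map_id, g.toFunctor.map_id, t.toFunctor.map_id, t.toFunctor.map_id]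
        show 𝟙 _ ≫ w.obj.iso.hom = t.map (a.hom ≫ b.inv) ≫ 𝟙 _
        rw [Category.comp_id] at hw
        rw [t.toFunctor.map_comp, hw, Category.assoc, Category.assoc, Category.comp_id, ← t.toFunctor.map_comp,
          b.hom_inv_id, t.toFunctor.map_id]
        exact (Category.id_comp _).trans (Category.comp_id _).symm
      · refine fp_ext ?_ ?_
        · show f.map (𝟙 _) ≫ a.hom = (a.hom ≫ b.inv) ≫ b.hom
          rw [f.toFunctor.map_id]; simp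
        · show g.map (𝟙 _) ≫ b.hom = 𝟙 _ ≫ b.hom
          rw [g.toFunctor.map_id]
  exact ⟨E, hE, rfl⟩

/-- comparison maps of fibre products -/
theorem with_comparison {𝒳 𝒴 𝒵 𝒯 : _root_.AlgSt.Cat S} (f : 𝒳 ⥤ᵇ 𝒵) (g : 𝒴 ⥤ᵇ 𝒵) (t : 𝒵 ⥤ᵇ 𝒯)
    (e : BasedFunctor.comp (fpFst f g) (BasedFunctor.comp f t) ≅ BasedFunctor.comp (fpSnd f g) (BasedFunctor.comp g t))
    (he : ∀ x, e.hom.toNatTrans.app x = t.map x.obj.iso.hom) (h : _root_.AlgSt.RepByAlgSpWith P (diag t)) :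
    _root_.AlgSt.RepByAlgSpWith P (fpLift (fpFst f g) (fpSnd f g) e) := by
  obtain ⟨E, hE, hh⟩ := comparison_equiv f g t e he
  exact (with_iff (fpFst (compK f g t) (diag t)) (fpLift (fpFst f g) (fpSnd f g) e) E (BasedFunctor.id _) hE (equiv_id _) (eqToIso hh.symm : fpLift (fpFst f g) (fpSnd f g) e ≅ BasedFunctor.comp E (fpFst (compK f g t) (diag t)))).1
    (with_fpFst (diag t) (compK f g t) h)

/-- diagonal of a composite -/
theorem with_diag_comp (hP : Good P)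
    (hPc : ∀ ⦃X Y Z : AlgSp.Sp S⦄, AlgSp.IsAlgSpace X → AlgSp.IsAlgSpace Y → AlgSp.IsAlgSpace Z →
      ∀ (a : X ⟶ Y) (b : Y ⟶ Z), P a → P b → P (a ≫ b))
    {𝒳 𝒴 𝒵 : _root_.AlgSt.Cat S} (h𝒳 : IsFibGrpd 𝒳.p) (h𝒴 : IsFibGrpd 𝒴.p) (f : 𝒳 ⥤ᵇ 𝒴) (g : 𝒴 ⥤ᵇ 𝒵)
    (hf : _root_.AlgSt.RepByAlgSpWith P (diag f)) (hg : _root_.AlgSt.RepByAlgSpWith P (diag g)) :
    _root_.AlgSt.RepByAlgSpWith P (diag (BasedFunctor.comp f g)) := by
  let e : BasedFunctor.comp (fpFst f f) (BasedFunctor.comp f g) ≅ BasedFunctor.comp (fpSnd f f) (BasedFunctor.comp f g) :=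
    isoMk (fun w => g.toFunctor.mapIso w.obj.iso)
      (fun {w w'} φ => by
        show g.map (f.map φ.hom.fst) ≫ g.map w'.obj.iso.hom = g.map w.obj.iso.hom ≫ g.map (f.map φ.hom.snd)
        rw [← g.toFunctor.map_comp, ← g.toFunctor.map_comp]
        exact congrArg g.map φ.hom.w)
      (fun w => (fp_vert w).map)
  have hM : _root_.AlgSt.RepByAlgSpWith P (fpLift (fpFst f f) (fpSnd f f) e) :=
    with_comparison f f g e (fun _ => rfl) hg
  have h := with_comp hP hPc h𝒳 (isFibGrpd_fp h𝒳 h𝒳 h𝒴) (diag f) _ hf hM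
  let ε : BasedFunctor.comp (diag (BasedFunctor.comp f g)) (BasedFunctor.id _) ≅
      BasedFunctor.comp (BasedFunctor.id 𝒳) (BasedFunctor.comp (diag f) (fpLift (fpFst f f) (fpSnd f f) e)) :=
    isoMk (fun x => fpIsoMk (Iso.refl x) (Iso.refl x) (by
        show g.map (f.map (𝟙 x)) ≫ g.map (𝟙 _) = 𝟙 _ ≫ g.map (f.map (𝟙 x))
        rw [f.toFunctor.map_id, g.toFunctor.map_id]))
      (fun φ => fp_ext ((Category.comp_id _).trans (Category.id_comp _).symm)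
        ((Category.comp_id _).trans (Category.id_comp _).symm))
      (fun x => Vert.id (p := 𝒳.p) x)
  exact (with_iff _ (diag (BasedFunctor.comp f g)) (BasedFunctor.id _) (BasedFunctor.id _) (equiv_id _) (equiv_id _) ε).1 h

theorem good_dm : Good (S := S) (AlgSp.LocP (@LocallyOfFiniteType ⊓ @FormallyUnramified)) :=
  good_locP AlgSpTopo.etaleLocal_unramified (AlgSpTopo.isLocalOnBase_fpqc AlgSpTopo.etaleLocal_unramified)

theorem good_qdm : Good (S := S) (AlgSp.LocP (@LocallyQuasiFinite ⊓ @LocallyOfFiniteType)) :=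
  good_locP AlgSpTopo.etaleLocal_lqf (AlgSpTopo.isLocalOnBase_fpqc AlgSpTopo.etaleLocal_lqf)

theorem good_proper : Good (S := S) AlgSp.IsProperMor :=
  good_fpqc (fun _ _ _ _ h1 h2 h3 h4 _ _ _ _ sq h => AlgSpTopo.proper_bc h1 h2 h3 h4 sq h) (Groth.Agent.S10536.result S)

theorem good_qc : Good (S := S) AlgSp.IsQuasiCompactMor :=
  good_fpqc (fun _ _ _ _ _ _ _ _ _ b _ b' sq h _ _ hA hAq k fst snd sq' =>
    h hA hAq (k ≫ b) (fst ≫ b') snd (sq'.paste_horiz sq)) (Groth.Agent.S10519.result S)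

theorem good_qs : Good (S := S) AlgSp.IsQuasiSeparatedMor :=
  good_fpqc (fun _ _ _ _ h1 _ h3 _ a _ a' _ sq h =>
    (AlgSpTopo.quasiSeparatedMor_iff h3 a').2 (((AlgSpTopo.quasiSeparatedMor_iff h1 a).1 h).baseChange sq))
    (Groth.Agent.S10520.result S)

theorem good_qcqs : Good (S := S) (AlgSp.IsQuasiCompactMor ⊓ AlgSp.IsQuasiSeparatedMor) where
  bc := fun _ _ _ _ h1 h2 h3 h4 a b a' b' sq h =>
    ⟨good_qc.bc h1 h2 h3 h4 a b a' b' sq h.1, good_qs.bc h1 h2 h3 h4 a b a' b' sq h.2⟩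
  desc := fun _ _ _ _ f t p q h1 h2 h3 ht hts sq h =>
    ⟨good_qc.desc f t p q h1 h2 h3 ht hts sq h.1, good_qs.desc f t p q h1 h2 h3 ht hts sq h.2⟩

theorem comp_qcqs ⦃X Y Z : AlgSp.Sp S⦄ (hX : AlgSp.IsAlgSpace X) (hY : AlgSp.IsAlgSpace Y) (hZ : AlgSp.IsAlgSpace Z)
    (a : X ⟶ Y) (b : Y ⟶ Z) (ha : (AlgSp.IsQuasiCompactMor ⊓ AlgSp.IsQuasiSeparatedMor) a)
    (hb : (AlgSp.IsQuasiCompactMor ⊓ AlgSp.IsQuasiSeparatedMor) b) :
    (AlgSp.IsQuasiCompactMor ⊓ AlgSp.IsQuasiSeparatedMor) (a ≫ b) :=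
  ⟨AlgSpTopo.qcMor_comp hX hY hZ ha.1 hb.1,
    (AlgSpTopo.quasiSeparatedMor_iff hX _).2 (AlgSpTopo.diagP_comp hX hY
      ((AlgSpTopo.quasiSeparatedMor_iff hX a).1 ha.2) ((AlgSpTopo.quasiSeparatedMor_iff hY b).1 hb.2))⟩

end Groth.Agent.H7.AlgSt
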