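import Groth.Prelude.Def_AlgSt4
import Groth.Agent.H7.AlgSt.Diag
import Groth.Agent.AlgSpTopo.Iso

/-! Flat covers, diagonals of morphisms of algebraic stacks. -/

set_option autoImplicit false
set_option backward.isDefEq.respectTransparency false
set_option backward.isDefEq.respectTransparency.types false

universe w v v₂ v₃ u₂ u₃ u

open CategoryTheory CategoryTheory.Limits CategoryTheory.Functor AlgebraicGeometry FibCat Opposite
open Groth.Agent.LeadFibCat Groth.Agent.H7.Stk.Glue Groth.Agent.H7.Stk.Congr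

namespace Groth.Agent.H7.AlgSt

variable {S : Scheme.{u}} {P : MorphismProperty (AlgSp.Sp S)}

theorem good_flat : Good (S := S) (AlgSp.LocP @Flat) :=
  good_locP AlgSpTopo.etaleLocal_flat (AlgSpTopo.isLocalOnBase_fpqc AlgSpTopo.etaleLocal_flat)

theorem good_lfp : Good (S := S) (AlgSp.LocP @LocallyOfFinitePresentation) :=
  good_locP AlgSpTopo.etaleLocal_locallyOfFinitePresentation
    (AlgSpTopo.isLocalOnBase_fpqc AlgSpTopo.etaleLocal_locallyOfFinitePresentation)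

/-- a flat locally finitely presented surjective morphism lifts charts locally -/
theorem exists_cover_lift {𝒵 𝒴 : _root_.AlgSt.Cat S} (z : 𝒵 ⥤ᵇ 𝒴)
    (h1 : _root_.AlgSt.RepByAlgSpWith (AlgSp.LocP @Flat) z)
    (h2 : _root_.AlgSt.RepByAlgSpWith (AlgSp.LocP @LocallyOfFinitePresentation) z)
    (h3 : _root_.AlgSt.RepByAlgSpWith AlgSp.IsSurjectiveMor z) (U : Over S) (y : overCat U ⥤ᵇ 𝒴) :
    ∃ R ∈ (QuotSh.J Scheme.fppfPrecoverage S) U, ∀ ⦃V : Over S⦄ (h : V ⟶ U), R.arrows h →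
      ∃ w : overCat V ⥤ᵇ 𝒵, Nonempty (BasedFunctor.comp w z ≅ BasedFunctor.comp (_root_.AlgSt.overMap h) y) := by
  have hA : _root_.AlgSt.RepByAlgSp (fp y z) := rep1_of_with h1 U y
  have hA' := isFibGrpd_of_rep hA
  obtain ⟨Z, e, he⟩ := hA
  obtain ⟨T, t, ht, hts⟩ := Z.property.atlas
  let x := BasedFunctor.comp (_root_.AlgSt.ofOverCat T) (BasedFunctor.comp (_root_.AlgSt.ofSpMap t) e)
  have het := AlgSpTopo.locP_etale_of_isEtaleMor t (AlgSp.isEtaleMor_of_repWith t ht)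
  have g1 := with_comp good_flat (fun _ _ _ hX hY hZ a b ha hb => AlgSpTopo.locP_comp AlgSpTopo.etaleLocal_flat hX hY hZ a b ha hb)
    (isFibGrpd_overCat T) hA' x _ (with_chart good_flat Z e he t (AlgSpTopo.locP_mono AlgSpTopo.etaleLocal_flat.of_etale het))
    (with_fpFst z y h1)
  have g2 := with_comp good_lfp
    (fun _ _ _ hX hY hZ a b ha hb => AlgSpTopo.locP_comp AlgSpTopo.etaleLocal_locallyOfFinitePresentation hX hY hZ a b ha hb)
    (isFibGrpd_overCat T) hA' x _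
    (with_chart good_lfp Z e he t (AlgSpTopo.locP_mono AlgSpTopo.etaleLocal_locallyOfFinitePresentation.of_etale het))
    (with_fpFst z y h2)
  have g3 := with_comp good_surjective comp_surjective (isFibGrpd_overCat T) hA' x _
    (with_chart good_surjective Z e he t (AlgSpTopo.surjective_of_repWith hts)) (with_fpFst z y h3)
  obtain ⟨q, ⟨iq⟩⟩ := exists_overMap (BasedFunctor.comp x (fpFst y z))
  have conv : ∀ {Q : MorphismProperty (AlgSp.Sp S)}, Good Q →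
      _root_.AlgSt.RepByAlgSpWith Q (BasedFunctor.comp x (fpFst y z)) → Q ((AlgSp.yon S).map q) := fun hQ h =>
    of_with_overMap hQ q ((with_iff (_root_.AlgSt.overMap q) (BasedFunctor.comp x (fpFst y z)) (BasedFunctor.id _)
      (BasedFunctor.id _) (equiv_id _) (equiv_id _) iq).2 h)
  have f1 : Flat q.left := AlgSp.locP_yon_map (conv good_flat g1)
  have f2 : LocallyOfFinitePresentation q.left := AlgSp.locP_yon_map (conv good_lfp g2)
  have f3 := surjective_left q (conv good_surjective g3)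
  refine ⟨Sieve.generate (Presieve.singleton q), ?_, fun V h hh => ?_⟩
  · rw [GrothendieckTopology.mem_over_iff]
    refine GrothendieckTopology.superset_covering _ ?_
      (Precoverage.generate_mem_toGrothendieck
        (show Presieve.singleton q.left ∈ Scheme.fppfPrecoverage.coverings _ from
          (Scheme.singleton_mem_precoverage_iff (P := _) q.left).2 ⟨f3, f1, f2⟩))
    rintro W c ⟨W', a, b, hb, rfl⟩
    cases hb
    exact (Sieve.overEquiv_iff _ _).2 ⟨T, Over.homMk a (by simp), q, ⟨⟩, Over.OverMorphism.ext rfl⟩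
  · obtain ⟨W, a, b, hb, rfl⟩ := hh
    cases hb
    let i : BasedFunctor.comp (fpFst y z) y ≅ BasedFunctor.comp (fpSnd y z) z :=
      isoMk (fun w => w.obj.iso) (fun φ => φ.hom.w) (fun w => fp_vert w)
    let j : BasedFunctor.comp (_root_.AlgSt.overMap q) y ≅ BasedFunctor.comp (BasedFunctor.comp x (fpSnd y z)) z :=
      whiskR iq.symm y ≪≫ whiskL x i
    let m : BasedFunctor.comp (_root_.AlgSt.overMap a) (_root_.AlgSt.overMap q) ≅ _root_.AlgSt.overMap (a ≫ q) :=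
      isoMk (fun u => Over.isoMk (Iso.refl _) (by
        show 𝟙 _ ≫ u.hom ≫ a ≫ q = (u.hom ≫ a) ≫ q
        rw [Category.id_comp, Category.assoc]))
        (fun φ => Over.OverMorphism.ext ((Category.comp_id _).trans (Category.id_comp _).symm))
        (fun u => ⟨rfl, rfl⟩)
    exact ⟨BasedFunctor.comp (_root_.AlgSt.overMap a) (BasedFunctor.comp x (fpSnd y z)),
      ⟨whiskL (_root_.AlgSt.overMap a) j.symm ≪≫ whiskR m y⟩⟩

theorem with_iff_flat_cover {𝒳 𝒴 𝒵 : _root_.AlgSt.Cat S} (h𝒳 : IsFibGrpd 𝒳.p) (h𝒴 : IsFibGrpd 𝒴.p)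
    (hg : Good P) (hP : AlgSp.IsLocalOnBase AlgSp.IsFppfCover P) (f : 𝒳 ⥤ᵇ 𝒴) (hf : _root_.AlgSt.RepByAlgSp1 f)
    (z : 𝒵 ⥤ᵇ 𝒴) (h1 : _root_.AlgSt.RepByAlgSpWith (AlgSp.LocP @Flat) z)
    (h2 : _root_.AlgSt.RepByAlgSpWith (AlgSp.LocP @LocallyOfFinitePresentation) z)
    (h3 : _root_.AlgSt.RepByAlgSpWith AlgSp.IsSurjectiveMor z) :
    _root_.AlgSt.RepByAlgSpWith P f ↔ _root_.AlgSt.RepByAlgSpWith P (fpFst z f) :=
  ⟨fun h => with_fpFst f z h, fun h => with_of_locally h𝒳 h𝒴 hg hP f hf z (exists_cover_lift z h1 h2 h3) h⟩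

/-- diagonals are representable by algebraic spaces -/
theorem rep1_diag {𝒳 𝒴 : _root_.AlgSt.Cat S} (h𝒳 : _root_.AlgSt.IsAlgStack Scheme.fppfPrecoverage 𝒳)
    (h𝒴 : _root_.AlgSt.IsAlgStack Scheme.fppfPrecoverage 𝒴) (f : 𝒳 ⥤ᵇ 𝒴) :
    _root_.AlgSt.RepByAlgSp1 (diag f) := by
  intro U y
  let y1 := BasedFunctor.comp y (fpFst f f)
  let y2 := BasedFunctor.comp y (fpSnd f f)
  let yf := BasedFunctor.comp y1 f
  let s1 : overCat U ⥤ᵇ fp yf f :=
    lift' (BasedFunctor.id _) y1 (fun _ => Iso.refl _)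
      (fun _ => (Category.comp_id _).trans (Category.id_comp _).symm) (fun _ => Vert.id _)
  let s2 : overCat U ⥤ᵇ fp yf f :=
    lift' (BasedFunctor.id _) y2 (fun u => (y.obj u).obj.iso) (fun m => (y.map m).hom.w) (fun u => fp_vert (y.obj u))
  have hB : _root_.AlgSt.RepByAlgSp1 (diag (toSelf (fp yf f))) :=
    rep_diag (rep_fp_diag yf f (isDM_of_rep (rep_overCat U)).1.diag h𝒳.diag h𝒴.diag)
  have hP : _root_.AlgSt.RepByAlgSp (fp s1 s2) := rep_of_diag hB U s2 U s1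
  let i1 : ∀ w : (fp y (diag f)).obj, y1.obj w.obj.fst ≅ w.obj.snd := fun w =>
    (CategoricalPullback.π₁ _ _).mapIso ((fpProp _ _).ι.mapIso w.obj.iso)
  let i2 : ∀ w : (fp y (diag f)).obj, y2.obj w.obj.fst ≅ w.obj.snd := fun w =>
    (CategoricalPullback.π₂ _ _).mapIso ((fpProp _ _).ι.mapIso w.obj.iso)
  let Φ : fp y (diag f) ⥤ᵇ fp s1 s2 :=
    lift' (fpFst _ _) (fpFst _ _)
      (fun w => fpIsoMk (Iso.refl w.obj.fst) (i1 w ≪≫ (i2 w).symm) (by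
        have h : f.map (i1 w).hom ≫ 𝟙 _ = (y.obj w.obj.fst).obj.iso.hom ≫ f.map (i2 w).hom := w.obj.iso.hom.hom.w
        show f.map (y1.map (𝟙 _)) ≫ (y.obj w.obj.fst).obj.iso.hom = 𝟙 _ ≫ f.map ((i1 w).hom ≫ (i2 w).inv)
        rw [Category.comp_id] at h
        rw [y1.toFunctor.map_id, f.toFunctor.map_id, f.toFunctor.map_comp, h, Category.assoc, ← f.toFunctor.map_comp,
          (i2 w).hom_inv_id]
        erw [f.toFunctor.map_id, Category.comp_id]))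
      (fun {w w'} φ => fp_ext ((Category.comp_id _).trans (Category.id_comp _).symm) (by
        have h1 : y1.map φ.hom.fst ≫ (i1 w').hom = (i1 w).hom ≫ φ.hom.snd := congrArg (fun k => k.hom.fst) φ.hom.w
        have h2 : y2.map φ.hom.fst ≫ (i2 w').hom = (i2 w).hom ≫ φ.hom.snd := congrArg (fun k => k.hom.snd) φ.hom.w
        show y1.map φ.hom.fst ≫ (i1 w').hom ≫ (i2 w').inv = ((i1 w).hom ≫ (i2 w).inv) ≫ y2.map φ.hom.fst
        rw [← Category.assoc, h1, Category.assoc, Category.assoc]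
        congr 1
        rw [Iso.eq_inv_comp, ← Category.assoc, Iso.comp_inv_eq]
        exact h2.symm))
      (fun w => Vert.id (p := (overCat U).p) w.obj.fst)
  refine rep_of_equiv' (Φ := Φ) (isEquivOver_mk Φ (fun {w w'} ψ => ?_) (fun {w w'} φ φ' h => ?_) fun η => ?_) hP
  · let m : w.obj.fst ⟶ w'.obj.fst := ψ.hom.fst
    have e1 : ψ.hom.snd = m := by
      have h : m ≫ 𝟙 _ = 𝟙 _ ≫ ψ.hom.snd := congrArg (fun k => k.hom.fst) ψ.hom.w
      exact ((Category.comp_id _).symm.trans (h.trans (Category.id_comp _))).symm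
    have h : y1.map m ≫ (i1 w').hom ≫ (i2 w').inv = ((i1 w).hom ≫ (i2 w).inv) ≫ y2.map ψ.hom.snd :=
      congrArg (fun k => k.hom.snd) ψ.hom.w
    rw [e1] at h
    refine ⟨fpHom m ((i2 w).inv ≫ y2.map m ≫ (i2 w').hom) (fp_ext ?_ ?_), fp_ext rfl e1.symm⟩
    · show y1.map m ≫ (i1 w').hom = (i1 w).hom ≫ (i2 w).inv ≫ y2.map m ≫ (i2 w').hom
      have := congrArg (· ≫ (i2 w').hom) h
      simpa using this
    · show y2.map m ≫ (i2 w').hom = (i2 w).hom ≫ (i2 w).inv ≫ y2.map m ≫ (i2 w').hom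
      rw [Iso.hom_inv_id_assoc]
  · have hm : φ.hom.fst = φ'.hom.fst := congrArg (fun k => k.hom.fst) h
    refine fp_ext hm ((cancel_epi (i1 w).hom).1 ?_)
    have a1 : y1.map φ.hom.fst ≫ (i1 w').hom = (i1 w).hom ≫ φ.hom.snd := congrArg (fun k => k.hom.fst) φ.hom.w
    have a2 : y1.map φ'.hom.fst ≫ (i1 w').hom = (i1 w).hom ≫ φ'.hom.snd := congrArg (fun k => k.hom.fst) φ'.hom.w
    rw [← a1, ← a2, hm]
  · let u := η.obj.fst
    let v := η.obj.snd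
    let a : u ≅ v := (CategoricalPullback.π₁ _ _).mapIso ((fpProp _ _).ι.mapIso η.obj.iso)
    let b : y1.obj u ≅ y2.obj v := (CategoricalPullback.π₂ _ _).mapIso ((fpProp _ _).ι.mapIso η.obj.iso)
    have ha : Vert (overCat U).p a.hom := (fp_vert η).map (F := fpFst yf f)
    have hb : Vert 𝒳.p b.hom := (fp_vert η).map (F := fpSnd yf f)
    have hw : f.map (y1.map a.hom) ≫ (y.obj v).obj.iso.hom = 𝟙 _ ≫ f.map b.hom := η.obj.iso.hom.hom.w
    rw [Category.id_comp] at hw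
    let j : y2.obj u ≅ y2.obj v := y2.toFunctor.mapIso a
    have hnat : f.map (y1.map a.hom) ≫ (y.obj v).obj.iso.hom = (y.obj u).obj.iso.hom ≫ f.map (y2.map a.hom) :=
      (y.map a.hom).hom.w
    let w : (fp y (diag f)).obj :=
      fpMk u (y2.obj v) (fpIsoMk b j (by
        show f.map b.hom ≫ 𝟙 _ = (y.obj u).obj.iso.hom ≫ f.map (y2.map a.hom)
        rw [Category.comp_id, ← hw]
        exact hnat)) hb
    refine ⟨w, fpIsoMk (Iso.refl u) a (fp_ext ?_ ?_), Vert.id (p := (overCat U).p) u⟩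
    · show 𝟙 u ≫ a.hom = 𝟙 u ≫ a.hom
      rfl
    · show y1.map (𝟙 u) ≫ b.hom = ((i1 w).hom ≫ (i2 w).inv) ≫ y2.map a.hom
      rw [y1.toFunctor.map_id]
      show 𝟙 _ ≫ b.hom = (b.hom ≫ j.inv) ≫ j.hom
      simp

theorem diag_faithful {𝒳 𝒴 : _root_.AlgSt.Cat S} (f : 𝒳 ⥤ᵇ 𝒴) :
    ∀ {a b : 𝒳.obj} (φ φ' : a ⟶ b), (diag f).map φ = (diag f).map φ' → φ = φ' :=
  fun _ _ h => congrArg (fun k => k.hom.fst) h

theorem diag_full {𝒳 𝒴 : _root_.AlgSt.Cat S} (f : 𝒳 ⥤ᵇ 𝒴)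
    (hf : ∀ {a b : 𝒳.obj} (φ φ' : a ⟶ b), f.map φ = f.map φ' → φ = φ') :
    ∀ {a b : 𝒳.obj} (ψ : (diag f).obj a ⟶ (diag f).obj b), ∃ φ, (diag f).map φ = ψ := fun {a b} ψ => by
  have h : f.map ψ.hom.fst ≫ 𝟙 _ = 𝟙 _ ≫ f.map ψ.hom.snd := ψ.hom.w
  rw [Category.comp_id, Category.id_comp] at h
  exact ⟨ψ.hom.fst, fp_ext rfl (hf _ _ h)⟩

theorem isMono_diag {𝒳 𝒴 : _root_.AlgSt.Cat S} (h𝒳 : _root_.AlgSt.IsAlgStack Scheme.fppfPrecoverage 𝒳)
    (h𝒴 : _root_.AlgSt.IsAlgStack Scheme.fppfPrecoverage 𝒴) (f : 𝒳 ⥤ᵇ 𝒴) (hf : _root_.AlgSt.RepByAlgSp1 f) :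
    _root_.AlgSt.IsMono (diag f) :=
  isMono_of_ff _ (rep1_diag h𝒳 h𝒴 f) (fun ψ => diag_full f (faithful_of_rep1 h𝒳.isStack.1 h𝒴.isStack.1 f hf) ψ)
    (fun φ φ' h => diag_faithful f φ φ' h)

theorem mono_isSeparated {X Y : AlgSp.Sp S} (hX : AlgSp.IsAlgSpace X) (a : X ⟶ Y) [Mono a] :
    AlgSp.IsSeparatedMor a := by
  refine (AlgSpTopo.separatedMor_iff hX a).2 fun T k k' hk E e he => ?_
  have hkk : k = k' := (cancel_mono a).1 hk
  obtain ⟨l, hl⟩ := he.2.2 (𝟙 _) (by rw [hkk])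
  obtain ⟨l, rfl⟩ := (AlgSp.yon S).map_surjective l
  have hle : l ≫ e = 𝟙 _ := (AlgSp.yon S).map_injective (by rw [Functor.map_comp, hl, (AlgSp.yon S).map_id])
  have := he.1
  haveI : IsSplitEpi e := IsSplitEpi.mk' ⟨l, hle⟩
  haveI : IsIso e := isIso_of_mono_of_isSplitEpi e
  haveI : IsIso e.left := inferInstanceAs (IsIso ((Over.forget S).map e))
  infer_instance

theorem with_equiv {𝒳 𝒴 : _root_.AlgSt.Cat S} (Φ : 𝒳 ⥤ᵇ 𝒴) (hΦ : IsEquivOver Φ)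
    (h : ∀ U : Over S, P (𝟙 ((AlgSp.yon S).obj U))) : _root_.AlgSt.RepByAlgSpWith P Φ := by
  intro U y
  obtain ⟨G, hG, ⟨c⟩⟩ := equiv_inv hΦ
  let L : overCat U ⥤ᵇ fp y Φ :=
    lift' (BasedFunctor.id _) (BasedFunctor.comp y G) (fun u => (app c (y.obj u)).symm)
      (fun {u u'} m => by
        have h : Φ.map (G.map (y.map m)) ≫ (app c (y.obj u')).hom = (app c (y.obj u)).hom ≫ y.map m :=
          app_naturality c (y.map m)
        show y.map m ≫ (app c (y.obj u')).inv = (app c (y.obj u)).inv ≫ Φ.map (G.map (y.map m))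
        rw [Iso.eq_inv_comp, ← Category.assoc, Iso.comp_inv_eq]
        exact h.symm)
      (fun u => (vert_app c (y.obj u)).symm)
  obtain ⟨p1, p2, -⟩ := equiv_props hΦ
  have hL : IsEquivOver L := by
    refine isEquivOver_mk L (fun {u u'} ψ => ⟨ψ.hom.fst, fp_ext rfl (p2 _ _ ?_)⟩)
      (fun φ φ' e => congrArg (fun k => k.hom.fst) e) fun η => ?_
    · have h1 : y.map ψ.hom.fst ≫ (app c (y.obj u')).inv = (app c (y.obj u)).inv ≫ Φ.map ψ.hom.snd := ψ.hom.w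
      have h2 : Φ.map (G.map (y.map ψ.hom.fst)) ≫ (app c (y.obj u')).hom = (app c (y.obj u)).hom ≫ y.map ψ.hom.fst :=
        app_naturality c (y.map ψ.hom.fst)
      show Φ.map (G.map (y.map ψ.hom.fst)) = Φ.map ψ.hom.snd
      rw [← cancel_epi (app c (y.obj u)).inv, ← h1, ← cancel_mono (app c (y.obj u')).hom, Category.assoc,
        Category.assoc, h2, Iso.inv_hom_id_assoc, Iso.inv_hom_id]
      exact (Category.comp_id _).symm
    · obtain ⟨n, hn⟩ := p1 ((app c (y.obj η.obj.fst)).hom ≫ η.obj.iso.hom)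
      obtain ⟨n', hn'⟩ := p1 (η.obj.iso.inv ≫ (app c (y.obj η.obj.fst)).inv)
      let iso : G.obj (y.obj η.obj.fst) ≅ η.obj.snd :=
        ⟨n, n', p2 _ _ (((Φ.toFunctor.map_comp _ _).trans (congrArg₂ (· ≫ ·) hn hn')).trans
            (((Category.assoc _ _ _).trans (congrArg (_ ≫ ·) (Iso.hom_inv_id_assoc _ _))).trans
              ((Iso.hom_inv_id _).trans (Φ.toFunctor.map_id _).symm))),
          p2 _ _ (((Φ.toFunctor.map_comp _ _).trans (congrArg₂ (· ≫ ·) hn' hn)).trans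
            (((Category.assoc _ _ _).trans (congrArg (_ ≫ ·) (Iso.inv_hom_id_assoc _ _))).trans
              ((Iso.inv_hom_id _).trans (Φ.toFunctor.map_id _).symm)))⟩
      refine ⟨η.obj.fst, fpIsoMk (Iso.refl _) iso ?_, Vert.id (p := (overCat U).p) η.obj.fst⟩
      show y.map (𝟙 η.obj.fst) ≫ η.obj.iso.hom = (app c (y.obj η.obj.fst)).inv ≫ Φ.map n
      rw [hn, y.toFunctor.map_id, Iso.inv_hom_id_assoc]
      exact Category.id_comp _
  refine ⟨⟨_, AlgSp.IsAlgSpace.yon_obj U⟩, BasedFunctor.comp (_root_.AlgSt.toOverCat U) L,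
    equiv_comp (toOver_equiv U) hL, ?_⟩
  rw [show _root_.AlgSt.spMapOfOver
      (BasedFunctor.comp (BasedFunctor.comp (_root_.AlgSt.toOverCat U) L) (fpFst y Φ)) = 𝟙 _ from
    (spMap_congr (eqToIso rfl : _ ≅ BasedFunctor.comp (_root_.AlgSt.ofSpMap (𝟙 _)) (_root_.AlgSt.toOverCat U))).trans
      (spMap_ofMap _)]
  exact h U

theorem diag_equiv_of_ff {𝒳 𝒴 : _root_.AlgSt.Cat S} (f : 𝒳 ⥤ᵇ 𝒴)
    (hfull : ∀ {a b : 𝒳.obj} (ψ : f.obj a ⟶ f.obj b), ∃ φ, f.map φ = ψ)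
    (hfaith : ∀ {a b : 𝒳.obj} (φ φ' : a ⟶ b), f.map φ = f.map φ' → φ = φ') : IsEquivOver (diag f) := by
  refine isEquivOver_mk _ (fun ψ => diag_full f hfaith ψ) (fun φ φ' h => diag_faithful f φ φ' h) fun η => ?_
  haveI : f.toFunctor.Full := ⟨fun {_ _} => hfull⟩
  haveI : f.toFunctor.Faithful := ⟨fun {_ _ φ φ'} h => hfaith φ φ' h⟩
  let i : η.obj.fst ≅ η.obj.snd := f.toFunctor.preimageIso η.obj.iso
  have hi : f.map i.hom = η.obj.iso.hom := f.toFunctor.map_preimage _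
  refine ⟨η.obj.fst, fpIsoMk (Iso.refl _) i ?_, Vert.id (p := 𝒳.p) η.obj.fst⟩
  show f.map (𝟙 _) ≫ η.obj.iso.hom = 𝟙 _ ≫ f.map i.hom
  rw [f.toFunctor.map_id, hi]

theorem isQuasiCompact_of_equiv {𝒳 𝒴 : _root_.AlgSt.Cat S} (e : 𝒳 ⥤ᵇ 𝒴) (he : IsEquivOver e)
    (h : _root_.AlgSt.IsQuasiCompact 𝒳) : _root_.AlgSt.IsQuasiCompact 𝒴 := by
  obtain ⟨U, x, hU, h1, h2⟩ := h
  exact ⟨U, BasedFunctor.comp x e, hU,
    (with_iff (BasedFunctor.comp x e) x (BasedFunctor.id _) e (equiv_id _) he (Iso.refl _)).2 h1,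
    (with_iff (BasedFunctor.comp x e) x (BasedFunctor.id _) e (equiv_id _) he (Iso.refl _)).2 h2⟩

theorem qcMor_fpFst {𝒳 𝒴 𝒴' : _root_.AlgSt.Cat S} (f : 𝒳 ⥤ᵇ 𝒴) (g : 𝒴' ⥤ᵇ 𝒴)
    (hf : _root_.AlgSt.IsQuasiCompactMor Scheme.fppfPrecoverage f) :
    _root_.AlgSt.IsQuasiCompactMor Scheme.fppfPrecoverage (fpFst g f) := by
  intro 𝒲 h𝒲 hq h
  obtain ⟨Φ, hΦ, -⟩ := paste_fst' h g f
  exact isQuasiCompact_of_equiv Φ hΦ (hf 𝒲 h𝒲 hq (BasedFunctor.comp h g))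

theorem qcMor_comp {𝒳 𝒴 𝒵 : _root_.AlgSt.Cat S} (h𝒴 : _root_.AlgSt.IsAlgStack Scheme.fppfPrecoverage 𝒴)
    (h𝒵 : _root_.AlgSt.IsAlgStack Scheme.fppfPrecoverage 𝒵) (f : 𝒳 ⥤ᵇ 𝒴) (g : 𝒴 ⥤ᵇ 𝒵)
    (hf : _root_.AlgSt.IsQuasiCompactMor Scheme.fppfPrecoverage f)
    (hg : _root_.AlgSt.IsQuasiCompactMor Scheme.fppfPrecoverage g) :
    _root_.AlgSt.IsQuasiCompactMor Scheme.fppfPrecoverage (BasedFunctor.comp f g) := by
  intro 𝒲 h𝒲 hq h
  obtain ⟨Φ, hΦ, -⟩ := fp_of_comp f g h (BasedFunctor.id _) (equiv_id _)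
  exact isQuasiCompact_of_equiv Φ hΦ
    (hf _ (algStack_fp h𝒵.isStack h𝒵.diag h𝒲 h𝒴 h g) (hg 𝒲 h𝒲 hq h) (fpSnd h g))

end Groth.Agent.H7.AlgSt
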