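import Groth.Agent.H7.AlgSt.Cover

/-! Descent of properties of diagonals along fppf covers. -/

set_option autoImplicit false
set_option backward.isDefEq.respectTransparency false
set_option backward.isDefEq.respectTransparency.types false

universe w v v₂ v₃ u₂ u₃ u

open CategoryTheory CategoryTheory.Limits CategoryTheory.Functor AlgebraicGeometry FibCat Opposite
open Groth.Agent.LeadFibCat Groth.Agent.H7.Stk.Glue Groth.Agent.H7.Stk.Congr

namespace Groth.Agent.H7.AlgSt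

variable {S : Scheme.{u}} {P : MorphismProperty (AlgSp.Sp S)}

theorem fppf_of_fpqc (h : AlgSp.IsLocalOnBase (AlgSp.IsFpqcCover (S := S)) P) :
    AlgSp.IsLocalOnBase AlgSp.IsFppfCover P :=
  fun _ _ Xi g hX hXi hcov => h Xi g hX hXi (AlgSpTopo.fpqc_of_fppf hX hXi g hcov)

theorem isLocalOnBase_inf {Q : MorphismProperty (AlgSp.Sp S)} {τ : AlgSp.CovNotion S}
    (h : AlgSp.IsLocalOnBase τ P) (h' : AlgSp.IsLocalOnBase τ Q) : AlgSp.IsLocalOnBase τ (P ⊓ Q) := by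
  intro ι X Xi g hX hXi hcov Y f hY Yi p q hYi sq
  exact ⟨fun h0 i => ⟨(h Xi g hX hXi hcov f hY Yi p q hYi sq).1 h0.1 i, (h' Xi g hX hXi hcov f hY Yi p q hYi sq).1 h0.2 i⟩,
    fun h0 => ⟨(h Xi g hX hXi hcov f hY Yi p q hYi sq).2 fun i => (h0 i).1,
      (h' Xi g hX hXi hcov f hY Yi p q hYi sq).2 fun i => (h0 i).2⟩⟩

theorem diag_lift {𝒳 𝒴 𝒵 : _root_.AlgSt.Cat S} (f : 𝒳 ⥤ᵇ 𝒴) (g : 𝒵 ⥤ᵇ 𝒴) {U V : Over S} (h : V ⟶ U)
    (y : overCat U ⥤ᵇ fp f f) (w : overCat V ⥤ᵇ 𝒵)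
    (i : BasedFunctor.comp w g ≅
      BasedFunctor.comp (_root_.AlgSt.overMap h) (BasedFunctor.comp (BasedFunctor.comp y (fpFst f f)) f)) :
    ∃ z : overCat V ⥤ᵇ fp (fpFst g f) (fpFst g f),
      Nonempty (BasedFunctor.comp z (diagBC f g) ≅ BasedFunctor.comp (_root_.AlgSt.overMap h) y) := by
  let ow := _root_.AlgSt.overMap h
  let a1 : overCat V ⥤ᵇ fp g f :=
    lift' w (BasedFunctor.comp ow (BasedFunctor.comp y (fpFst f f))) (fun v => app i v)
      (fun m => app_naturality i m) (fun v => vert_app i v)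
  let a2 : overCat V ⥤ᵇ fp g f :=
    lift' w (BasedFunctor.comp ow (BasedFunctor.comp y (fpSnd f f)))
      (fun v => app i v ≪≫ (y.obj (ow.obj v)).obj.iso)
      (fun {v v'} m => by
        have h1 : g.map (w.map m) ≫ (app i v').hom = (app i v).hom ≫ f.map (y.map (ow.map m)).hom.fst :=
          app_naturality i m
        have h2 : f.map (y.map (ow.map m)).hom.fst ≫ (y.obj (ow.obj v')).obj.iso.hom =
            (y.obj (ow.obj v)).obj.iso.hom ≫ f.map (y.map (ow.map m)).hom.snd := (y.map (ow.map m)).hom.w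
        show g.map (w.map m) ≫ (app i v').hom ≫ (y.obj (ow.obj v')).obj.iso.hom =
          ((app i v).hom ≫ (y.obj (ow.obj v)).obj.iso.hom) ≫ f.map (y.map (ow.map m)).hom.snd
        rw [← Category.assoc, h1, Category.assoc, h2, Category.assoc])
      (fun v => (vert_app i v).comp (fp_vert (y.obj (ow.obj v))))
  let z : overCat V ⥤ᵇ fp (fpFst g f) (fpFst g f) :=
    lift' a1 a2 (fun v => Iso.refl (w.obj v)) (fun m => (Category.comp_id _).trans (Category.id_comp _).symm)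
      (fun v => Vert.id (p := 𝒵.p) (w.obj v))
  refine ⟨z, ⟨isoMk (fun v => fpIsoMk (Iso.refl _) (Iso.refl _) ?_) (fun m => fp_ext
    ((Category.comp_id _).trans (Category.id_comp _).symm) ((Category.comp_id _).trans (Category.id_comp _).symm))
    (fun v => Vert.id (p := 𝒳.p) _)⟩⟩
  show f.map (𝟙 _) ≫ (y.obj (ow.obj v)).obj.iso.hom =
    ((app i v).inv ≫ g.map (𝟙 (w.obj v)) ≫ (app i v).hom ≫ (y.obj (ow.obj v)).obj.iso.hom) ≫ f.map (𝟙 _)
  erw [f.toFunctor.map_id, f.toFunctor.map_id, g.toFunctor.map_id, Category.id_comp, Category.id_comp, Category.comp_id]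
  exact (Iso.inv_hom_id_assoc _ _).symm

/-- a property of the diagonal descends along an fppf cover of the target -/
theorem with_diag_of_cover {𝒳 𝒴 𝒵 : _root_.AlgSt.Cat S} (h𝒳 : _root_.AlgSt.IsAlgStack Scheme.fppfPrecoverage 𝒳)
    (h𝒴 : _root_.AlgSt.IsAlgStack Scheme.fppfPrecoverage 𝒴) (hg : Good P)
    (hP : AlgSp.IsLocalOnBase AlgSp.IsFppfCover P) (f : 𝒳 ⥤ᵇ 𝒴) (g : 𝒵 ⥤ᵇ 𝒴)
    (h1 : _root_.AlgSt.RepByAlgSpWith (AlgSp.LocP @Flat) g)
    (h2 : _root_.AlgSt.RepByAlgSpWith (AlgSp.LocP @LocallyOfFinitePresentation) g)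
    (h3 : _root_.AlgSt.RepByAlgSpWith AlgSp.IsSurjectiveMor g)
    (h : _root_.AlgSt.RepByAlgSpWith P (diag (fpFst g f))) : _root_.AlgSt.RepByAlgSpWith P (diag f) := by
  refine with_of_locally h𝒳.isStack.1 (algStack_fp h𝒴.isStack h𝒴.diag h𝒳 h𝒳 f f).isStack.1 hg hP (diag f)
    (rep1_diag h𝒳 h𝒴 f) (diagBC f g) (fun U y => ?_) (fun U y => ?_)
  · obtain ⟨R, hR, hz⟩ := exists_cover_lift g h1 h2 h3 U (BasedFunctor.comp (BasedFunctor.comp y (fpFst f f)) f)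
    refine ⟨R, hR, fun V m hm => ?_⟩
    obtain ⟨w, ⟨i⟩⟩ := hz m hm
    exact diag_lift f g m y w i
  · obtain ⟨Φ, hΦ, ⟨ε⟩⟩ := diag_fpFst_fp f g y
    obtain ⟨Ψ, hΨ, r1⟩ := paste_fst' y (diagBC f g) (diag f)
    exact Data.push hΨ (eqToIso r1) (Data.push hΦ ε (h U y))


theorem over_vert_eq {U : Over S} {a b : (overCat U).obj} {φ ψ : a ⟶ b} (h : Vert (overCat U).p φ)
    (h' : Vert (overCat U).p ψ) : φ = ψ :=
  Over.OverMorphism.ext ((h.map_eq : φ.left = _).trans (h'.map_eq : ψ.left = _).symm)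

theorem of_with_spMap (hP : Good P) (X Z : AlgSp.Space S) (a : X.obj ⟶ Z.obj)
    (h : _root_.AlgSt.RepByAlgSpWith P (_root_.AlgSt.ofSpMap a)) : P a := by
  have sq : IsPullback a.hom (𝟙 X.obj.obj) (𝟙 Z.obj.obj) a.hom :=
    IsPullback.of_vert_isIso ⟨by rw [Category.comp_id, Category.id_comp]⟩
  obtain ⟨E, hE, h1, -⟩ := fp_ofPsh sq
  exact with_sp hP h Z X (_root_.Stk.ofPshMap (𝟙 Z.obj.obj)) E hE a
    (((congrArg toMap h1).trans (toMap_ofPshMap a.hom)).symm)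

theorem diag_spMap_iff (hP : Good P) (X Y : AlgSp.Space S) (a : X.obj ⟶ Y.obj) :
    _root_.AlgSt.RepByAlgSpWith P (diag (_root_.AlgSt.ofSpMap a)) ↔ P (pullback.diagonal a) := by
  let W : AlgSp.Space S := ⟨pullback a a, AlgSpTopo.isAlgSpace_pullback X.property Y.property X.property a a⟩
  obtain ⟨E, hE, h1, h2⟩ := fp_ofPsh ((IsPullback.of_hasPullback a a).map (sheafToPresheaf (AlgSp.J S) _))
  have e1 : ∀ x : (_root_.AlgSt.ofSp X.obj).obj,
      (pullback.fst a a).hom.app _ ((pullback.diagonal a).hom.app _ x.sec) = x.sec := fun x =>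
    congrArg (fun m : X.obj ⟶ X.obj => m.hom.app (op x.base) x.sec) (pullback.diagonal_fst a)
  have e2 : ∀ x : (_root_.AlgSt.ofSp X.obj).obj,
      (pullback.snd a a).hom.app _ ((pullback.diagonal a).hom.app _ x.sec) = x.sec := fun x =>
    congrArg (fun m : X.obj ⟶ X.obj => m.hom.app (op x.base) x.sec) (pullback.diagonal_snd a)
  let D := _root_.AlgSt.ofSpMap (pullback.diagonal a)
  let ε1 : BasedFunctor.comp (BasedFunctor.comp D E) (fpFst _ _) ≅ BasedFunctor.id (_root_.AlgSt.ofSp X.obj) :=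
    whiskL D (eqToIso h1) ≪≫ isoMk (fun x => eltIso rfl ((pmap_self _).trans (e1 x).symm))
      (fun φ => _root_.Stk.EltObj.hom_ext ((Category.comp_id _).trans (Category.id_comp _).symm))
      (fun x => eltIso_vert _ _)
  let ε2 : BasedFunctor.comp (BasedFunctor.comp D E) (fpSnd _ _) ≅ BasedFunctor.id (_root_.AlgSt.ofSp X.obj) :=
    whiskL D (eqToIso h2) ≪≫ isoMk (fun x => eltIso rfl ((pmap_self _).trans (e2 x).symm))
      (fun φ => _root_.Stk.EltObj.hom_ext ((Category.comp_id _).trans (Category.id_comp _).symm))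
      (fun x => eltIso_vert _ _)
  let i : ∀ x, (BasedFunctor.comp D E).obj x ≅ (diag (_root_.AlgSt.ofSpMap a)).obj x := fun x =>
    fpIsoMk (app ε1 x) (app ε2 x) (by
      refine _root_.Stk.EltObj.hom_ext ?_
      have v1 := (vert_app ε1 x).map (F := _root_.AlgSt.ofSpMap a)
      have v2 := (vert_app ε2 x).map (F := _root_.AlgSt.ofSpMap a)
      exact ((v1.comp (Vert.id (p := (_root_.AlgSt.ofSp Y.obj).p) _)).map_eq).trans
        (((fp_vert ((BasedFunctor.comp D E).obj x)).comp v2).map_eq).symm)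
  let ε : BasedFunctor.comp D E ≅ BasedFunctor.comp (BasedFunctor.id _) (diag (_root_.AlgSt.ofSpMap a)) :=
    isoMk i (fun φ => fp_ext (app_naturality ε1 φ) (app_naturality ε2 φ)) (fun x => vert_app ε1 x)
  exact (with_iff (diag (_root_.AlgSt.ofSpMap a)) D (BasedFunctor.id _) E (equiv_id _) hE ε).trans
    ⟨of_with_spMap hP X W (pullback.diagonal a), with_spMap hP X W (pullback.diagonal a)⟩

theorem diag_toOver_iff (hP : Good P) {ℳ : _root_.AlgSt.Cat S} {U : Over S} (p : ℳ ⥤ᵇ overCat U) (F : AlgSp.Space S)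
    (e : _root_.AlgSt.ofSp F.obj ⥤ᵇ ℳ) (he : IsEquivOver e) :
    _root_.AlgSt.RepByAlgSpWith P (diag p) ↔
      P (pullback.diagonal (_root_.AlgSt.spMapOfOver (BasedFunctor.comp e p))) := by
  let π := _root_.AlgSt.spMapOfOver (BasedFunctor.comp e p)
  obtain ⟨i0⟩ := spMap_iso (BasedFunctor.comp e p)
  obtain ⟨q1, q2, -⟩ := equiv_props (toOver_equiv U)
  obtain ⟨Φ, hΦ, h1, h2⟩ := transport_fst p p (_root_.AlgSt.ofSpMap π) (_root_.AlgSt.ofSpMap π) e e
    (_root_.AlgSt.toOverCat U) he he q1 q2 i0 i0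
  let m := _root_.AlgSt.ofSpMap π
  let ε1 : BasedFunctor.comp (BasedFunctor.comp (diag m) Φ) (fpFst p p) ≅ e :=
    whiskL (diag m) (eqToIso h1) ≪≫ eqToIso rfl
  let ε2 : BasedFunctor.comp (BasedFunctor.comp (diag m) Φ) (fpSnd p p) ≅ e :=
    whiskL (diag m) (eqToIso h2) ≪≫ eqToIso rfl
  let ε : BasedFunctor.comp (diag m) Φ ≅ BasedFunctor.comp e (diag p) :=
    isoMk (fun x => fpIsoMk (app ε1 x) (app ε2 x) (over_vert_eq
        ((vert_app ε1 x).map.comp (Vert.id (p := (overCat U).p) _))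
        ((fp_vert ((BasedFunctor.comp (diag m) Φ).obj x)).comp (vert_app ε2 x).map)))
      (fun φ => fp_ext (app_naturality ε1 φ) (app_naturality ε2 φ)) (fun x => vert_app ε1 x)
  exact (with_iff (diag p) (diag m) e Φ he hΦ ε).trans
    (diag_spMap_iff hP F ⟨_, AlgSp.IsAlgSpace.yon_obj U⟩ π)

theorem with_diag_toOver (hP : Good P) {ℳ : _root_.AlgSt.Cat S} {U : Over S} (p : ℳ ⥤ᵇ overCat U) (F : AlgSp.Space S)
    (e : _root_.AlgSt.ofSp F.obj ⥤ᵇ ℳ) (he : IsEquivOver e)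
    (h : P (pullback.diagonal (_root_.AlgSt.spMapOfOver (BasedFunctor.comp e p)))) :
    _root_.AlgSt.RepByAlgSpWith P (diag p) :=
  (diag_toOver_iff hP p F e he).2 h

/-- properties of diagonals of representable morphisms -/
theorem with_diag_of_charts {𝒳 𝒴 : _root_.AlgSt.Cat S} (hP : Good P) (f : 𝒳 ⥤ᵇ 𝒴)
    (h : ∀ (U : Over S) (y : overCat U ⥤ᵇ 𝒴), ∃ (F : AlgSp.Space S) (e : _root_.AlgSt.ofSp F.obj ⥤ᵇ fp y f),
      IsEquivOver e ∧ P (pullback.diagonal (_root_.AlgSt.spMapOfOver (BasedFunctor.comp e (fpFst y f))))) :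
    _root_.AlgSt.RepByAlgSpWith P (diag f) := by
  intro U y
  let g := BasedFunctor.comp (BasedFunctor.comp y (fpFst f f)) f
  obtain ⟨F, e, he, hd⟩ := h U g
  have hp := with_diag_toOver hP (fpFst g f) F e he hd
  let ow := _root_.AlgSt.overMap (𝟙 U)
  obtain ⟨z, ⟨iz⟩⟩ := diag_lift f g (𝟙 U) y ow (Iso.refl _)
  obtain ⟨Φ, hΦ, ⟨ε⟩⟩ := diag_fpFst_fp f g z
  have d1 : Data P (fpFst (BasedFunctor.comp z (diagBC f g)) (diag f)) := Data.push hΦ ε (hp U z)
  let m : ow ≅ BasedFunctor.id (overCat U) :=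
    isoMk (fun u => Over.isoMk (Iso.refl _) (by
        show 𝟙 _ ≫ u.hom = u.hom ≫ 𝟙 U
        rw [Category.id_comp, Category.comp_id]))
      (fun φ => Over.OverMorphism.ext ((Category.comp_id _).trans (Category.id_comp _).symm))
      (fun u => ⟨rfl, rfl⟩)
  let iy : BasedFunctor.comp z (diagBC f g) ≅ y := iz ≪≫ whiskR m y ≪≫ eqToIso rfl
  obtain ⟨Θ, hΘ, r, -⟩ := transport_fst (BasedFunctor.comp z (diagBC f g)) (diag f) y (diag f) (BasedFunctor.id _)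
    (BasedFunctor.id _) (BasedFunctor.id _) (equiv_id _) (equiv_id _) (id_ff _).1 (id_ff _).2 iy.symm (Iso.refl _)
  exact Data.pull hΘ (eqToIso r) d1

theorem with_diag_of_rep1 {𝒳 𝒴 : _root_.AlgSt.Cat S} (hP : Good P) (f : 𝒳 ⥤ᵇ 𝒴) (hf : _root_.AlgSt.RepByAlgSp1 f)
    (h : ∀ ⦃X Y : AlgSp.Sp S⦄, AlgSp.IsAlgSpace X → AlgSp.IsAlgSpace Y → ∀ a : X ⟶ Y, P (pullback.diagonal a)) :
    _root_.AlgSt.RepByAlgSpWith P (diag f) :=
  with_diag_of_charts hP f fun U y => by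
    obtain ⟨F, e, he⟩ := hf U y
    exact ⟨F, e, he, h F.property (AlgSp.IsAlgSpace.yon_obj U) _⟩

theorem with_diag_of_with {Q : MorphismProperty (AlgSp.Sp S)} {𝒳 𝒴 : _root_.AlgSt.Cat S} (hP : Good P) (f : 𝒳 ⥤ᵇ 𝒴)
    (hf : _root_.AlgSt.RepByAlgSpWith Q f)
    (h : ∀ ⦃X Y : AlgSp.Sp S⦄, AlgSp.IsAlgSpace X → AlgSp.IsAlgSpace Y → ∀ a : X ⟶ Y, Q a → P (pullback.diagonal a)) :
    _root_.AlgSt.RepByAlgSpWith P (diag f) :=
  with_diag_of_charts hP f fun U y => by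
    obtain ⟨F, e, he, hQ⟩ := hf U y
    exact ⟨F, e, he, h F.property (AlgSp.IsAlgSpace.yon_obj U) _ hQ⟩

/-- diagonals of representable morphisms, conversely -/
theorem diag_chart_of_with {𝒳 𝒴 : _root_.AlgSt.Cat S} (hP : Good P) (f : 𝒳 ⥤ᵇ 𝒴)
    (h : _root_.AlgSt.RepByAlgSpWith P (diag f)) {U : Over S} (y : overCat U ⥤ᵇ 𝒴) (F : AlgSp.Space S)
    (e : _root_.AlgSt.ofSp F.obj ⥤ᵇ fp y f) (he : IsEquivOver e) :
    P (pullback.diagonal (_root_.AlgSt.spMapOfOver (BasedFunctor.comp e (fpFst y f)))) :=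
  (diag_toOver_iff hP (fpFst y f) F e he).1 (with_diag_fpFst f y h)

end Groth.Agent.H7.AlgSt
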