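import Groth.Agent.H7.AlgSt.With

/-! Algebraic stacks: invariance, atlases, diagonals of fibre products. -/

set_option autoImplicit false
set_option backward.isDefEq.respectTransparency false
set_option backward.isDefEq.respectTransparency.types false

universe w v v₂ v₃ u₂ u₃ u

open CategoryTheory CategoryTheory.Limits CategoryTheory.Functor AlgebraicGeometry FibCat Opposite
open Groth.Agent.LeadFibCat Groth.Agent.H7.Stk.Glue Groth.Agent.H7.Stk.Congr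

namespace Groth.Agent.H7.AlgSt

variable {S : Scheme.{u}} {P : MorphismProperty (AlgSp.Sp S)}

theorem comp_smooth ⦃X Y Z : AlgSp.Sp S⦄ (hX : AlgSp.IsAlgSpace X) (hY : AlgSp.IsAlgSpace Y) (hZ : AlgSp.IsAlgSpace Z)
    (a : X ⟶ Y) (b : Y ⟶ Z) (ha : AlgSp.LocP @Smooth a) (hb : AlgSp.LocP @Smooth b) : AlgSp.LocP @Smooth (a ≫ b) :=
  AlgSpTopo.locP_comp AlgSpTopo.etaleLocal_smooth hX hY hZ a b ha hb

theorem comp_surjective ⦃X Y Z : AlgSp.Sp S⦄ (_ : AlgSp.IsAlgSpace X) (_ : AlgSp.IsAlgSpace Y) (_ : AlgSp.IsAlgSpace Z)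
    (a : X ⟶ Y) (b : Y ⟶ Z) (ha : AlgSp.IsSurjectiveMor a) (hb : AlgSp.IsSurjectiveMor b) :
    AlgSp.IsSurjectiveMor (a ≫ b) := fun z => by
  obtain ⟨y, rfl⟩ := hb z
  obtain ⟨x, rfl⟩ := ha y
  exact ⟨x, AlgSp.Points.map_comp _ _ _⟩

/-- maps of algebraic spaces -/
theorem with_spMap (hP : Good P) (X Z : AlgSp.Space S) (a : X.obj ⟶ Z.obj) (h : P a) :
    _root_.AlgSt.RepByAlgSpWith P (_root_.AlgSt.ofSpMap a) := by
  intro U y
  let ξ : (AlgSp.yon S).obj U ⟶ Z.obj := ObjectProperty.homMk (toMap (BasedFunctor.comp (_root_.AlgSt.toOverCat U) y))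
  have sq := IsPullback.of_hasPullback ξ a
  have hW := AlgSpTopo.isAlgSpace_pullback (AlgSp.IsAlgSpace.yon_obj U) Z.property X.property ξ a
  have hp : P (pullback.fst ξ a) := hP.bc X.property Z.property hW (AlgSp.IsAlgSpace.yon_obj U) a ξ _ _ sq.flip h
  obtain ⟨E, hE, h1⟩ := fp_rep y a.hom ξ.hom (isoToMap _).symm (sq.map (sheafToPresheaf (AlgSp.J S) _))
  refine ⟨⟨_, hW⟩, E, hE, ?_⟩
  rw [show _root_.AlgSt.spMapOfOver (BasedFunctor.comp E (fpFst y (_root_.AlgSt.ofSpMap a))) = pullback.fst ξ a from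
    (spMap_congr (eqToIso h1)).trans (spMap_ofMap _)]
  exact hp

theorem with_chart (hP : Good P) (Z : AlgSp.Space S) {𝒳 : _root_.AlgSt.Cat S} (e : _root_.AlgSt.ofSp Z.obj ⥤ᵇ 𝒳)
    (he : IsEquivOver e) {W : Over S} (t : (AlgSp.yon S).obj W ⟶ Z.obj) (h : P t) :
    _root_.AlgSt.RepByAlgSpWith P
      (BasedFunctor.comp (_root_.AlgSt.ofOverCat W) (BasedFunctor.comp (_root_.AlgSt.ofSpMap t) e)) :=
  (with_iff _ (_root_.AlgSt.ofSpMap t) (_root_.AlgSt.toOverCat W) e (toOver_equiv W) he (eqToIso rfl)).2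
    (with_spMap hP ⟨_, AlgSp.IsAlgSpace.yon_obj W⟩ Z t h)

/-- base change of a morphism -/
theorem with_fpFst {𝒳 𝒴 𝒵 : _root_.AlgSt.Cat S} (f : 𝒳 ⥤ᵇ 𝒴) (g : 𝒵 ⥤ᵇ 𝒴) (hf : _root_.AlgSt.RepByAlgSpWith P f) :
    _root_.AlgSt.RepByAlgSpWith P (fpFst g f) := by
  intro U y
  obtain ⟨Φ, hΦ, h1⟩ := paste_fst' y g f
  exact Data.push hΦ (eqToIso h1) (hf U (BasedFunctor.comp y g))

theorem with_fpSnd {𝒳 𝒴 𝒵 : _root_.AlgSt.Cat S} (f : 𝒳 ⥤ᵇ 𝒴) (g : 𝒵 ⥤ᵇ 𝒴) (hf : _root_.AlgSt.RepByAlgSpWith P f) :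
    _root_.AlgSt.RepByAlgSpWith P (fpSnd f g) := by
  obtain ⟨Φ, hΦ, h1, -⟩ := swap g f
  exact (with_iff (fpFst g f) (fpSnd f g) Φ (BasedFunctor.id _) hΦ (equiv_id _) (eqToIso h1.symm)).1 (with_fpFst f g hf)

/-- an atlas from a representable category -/
theorem atlas_of_rep {𝒳 : _root_.AlgSt.Cat S} (h𝒳 : IsFibGrpd 𝒳.p) {𝒜 : _root_.AlgSt.Cat S}
    (hA : _root_.AlgSt.RepByAlgSp 𝒜) (q : 𝒜 ⥤ᵇ 𝒳) (hsm : _root_.AlgSt.RepByAlgSpWith (AlgSp.LocP @Smooth) q)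
    (hsur : _root_.AlgSt.RepByAlgSpWith AlgSp.IsSurjectiveMor q) :
    _root_.AlgSt.HasAtlas (AlgSp.LocP @Smooth) 𝒳 := by
  have h𝒜 := isFibGrpd_of_rep hA
  obtain ⟨Z, e, he⟩ := hA
  obtain ⟨W, t, ht, hts⟩ := Z.property.atlas
  have h1 := with_chart good_smooth Z e he t
    (AlgSpTopo.smooth_of_isEtaleMor (AlgSp.isEtaleMor_of_repWith t ht))
  have h2 := with_chart good_surjective Z e he t (AlgSpTopo.surjective_of_repWith hts)
  exact ⟨W, _, with_comp good_smooth comp_smooth (isFibGrpd_overCat W) h𝒜 _ q h1 hsm,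
    with_comp good_surjective comp_surjective (isFibGrpd_overCat W) h𝒜 _ q h2 hsur⟩

theorem isDM_of_rep {𝒳 : _root_.AlgSt.Cat S} (hr : _root_.AlgSt.RepByAlgSp 𝒳) :
    _root_.AlgSt.IsDM Scheme.fppfPrecoverage 𝒳 := by
  have hd : _root_.AlgSt.RepByAlgSp1 (diag (toSelf 𝒳)) :=
    rep_diag fun U x => rep1_of_rep (rep_overCat U) hr x
  obtain ⟨Z, e, he⟩ := hr
  obtain ⟨W, t, ht, hts⟩ := Z.property.atlas
  have hst : _root_.Stk.IsStack (AlgSp.J S) 𝒳 :=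
    (stack_iff_of_equiv e he).1 ((psh_stack_iff _ _).2 ((isSheaf_iff_isSheaf_of_type _ _).1 Z.obj.property))
  have h1 := with_chart good_smooth Z e he t (AlgSpTopo.smooth_of_isEtaleMor (AlgSp.isEtaleMor_of_repWith t ht))
  have h2 := with_chart good_surjective Z e he t (AlgSpTopo.surjective_of_repWith hts)
  have h3 := with_chart good_etale Z e he t (AlgSp.isEtaleMor_of_repWith t ht)
  exact ⟨⟨hst, hd, ⟨W, _, h1, h2⟩⟩, ⟨W, _, h3, h2⟩⟩

theorem diag_rep_transfer {𝒳 𝒴 : _root_.AlgSt.Cat S} (e : 𝒳 ⥤ᵇ 𝒴) (he : IsEquivOver e)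
    (h : _root_.AlgSt.RepByAlgSp1 (diag (toSelf 𝒳))) : _root_.AlgSt.RepByAlgSp1 (diag (toSelf 𝒴)) := by
  refine rep_diag fun U x => ?_
  obtain ⟨G, hG, ⟨c⟩⟩ := equiv_inv he
  exact (rep1_iff x (BasedFunctor.comp x G) (BasedFunctor.id _) e (equiv_id _) he (whiskL x c)).2
    (rep_of_diag h U _)

theorem atlas_transfer {𝒳 𝒴 : _root_.AlgSt.Cat S} (e : 𝒳 ⥤ᵇ 𝒴) (he : IsEquivOver e)
    (h : _root_.AlgSt.HasAtlas P 𝒳) : _root_.AlgSt.HasAtlas P 𝒴 := by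
  obtain ⟨U, x, h1, h2⟩ := h
  exact ⟨U, BasedFunctor.comp x e,
    (with_iff (BasedFunctor.comp x e) x (BasedFunctor.id _) e (equiv_id _) he (Iso.refl _)).2 h1,
    (with_iff (BasedFunctor.comp x e) x (BasedFunctor.id _) e (equiv_id _) he (Iso.refl _)).2 h2⟩

theorem algStack_transfer {𝒳 𝒴 : _root_.AlgSt.Cat S} (e : 𝒳 ⥤ᵇ 𝒴) (he : IsEquivOver e)
    (h : _root_.AlgSt.IsAlgStack Scheme.fppfPrecoverage 𝒳) : _root_.AlgSt.IsAlgStack Scheme.fppfPrecoverage 𝒴 :=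
  ⟨(stack_iff_of_equiv e he).1 h.isStack, diag_rep_transfer e he h.diag, atlas_transfer e he h.atlas⟩

theorem algStack_iff {𝒳 𝒴 : _root_.AlgSt.Cat S} (e : 𝒳 ⥤ᵇ 𝒴) (he : IsEquivOver e) :
    _root_.AlgSt.IsAlgStack Scheme.fppfPrecoverage 𝒳 ↔ _root_.AlgSt.IsAlgStack Scheme.fppfPrecoverage 𝒴 := by
  obtain ⟨G, hG, -⟩ := equiv_inv he
  exact ⟨algStack_transfer e he, algStack_transfer G hG⟩

theorem dm_iff {𝒳 𝒴 : _root_.AlgSt.Cat S} (e : 𝒳 ⥤ᵇ 𝒴) (he : IsEquivOver e) :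
    _root_.AlgSt.IsDM Scheme.fppfPrecoverage 𝒳 ↔ _root_.AlgSt.IsDM Scheme.fppfPrecoverage 𝒴 := by
  obtain ⟨G, hG, -⟩ := equiv_inv he
  exact ⟨fun h => ⟨algStack_transfer e he h.1, atlas_transfer e he h.2⟩,
    fun h => ⟨algStack_transfer G hG h.1, atlas_transfer G hG h.2⟩⟩

theorem rep_of_faithful_rep1 {𝒳 𝒴 : _root_.AlgSt.Cat S} (j : 𝒳 ⥤ᵇ 𝒴) (hj : _root_.AlgSt.RepByAlgSp1 j)
    (hΔ : _root_.AlgSt.RepByAlgSp1 (diag (toSelf 𝒴))) (U : Over S) (x : overCat U ⥤ᵇ 𝒳) :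
    _root_.AlgSt.RepByAlgSp1 x := by
  intro V y
  let yj := BasedFunctor.comp y j
  let xj := BasedFunctor.comp x j
  have hM : _root_.AlgSt.RepByAlgSp (fp yj xj) := rep_of_diag hΔ U xj V yj
  have hA : _root_.AlgSt.RepByAlgSp (fp yj j) := hj V yj
  let π : fp yj xj ⥤ᵇ fp yj j :=
    lift' (fpFst yj xj) (BasedFunctor.comp (fpSnd yj xj) x) (fun w => w.obj.iso) (fun φ => φ.hom.w) (fun w => fp_vert w)
  let s : overCat V ⥤ᵇ fp yj j :=
    lift' (BasedFunctor.id _) y (fun _ => Iso.refl _)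
      (fun _ => (Category.comp_id _).trans (Category.id_comp _).symm) (fun _ => Vert.id _)
  have hP : _root_.AlgSt.RepByAlgSp (fp π s) :=
    rep_fp' (isFibGrpd_of_rep hM) (isFibGrpd_of_rep hA) π s (rep1_of_rep hM hA π) (rep_overCat V)
  let N : fp y x ⥤ᵇ fp yj xj :=
    lift' (fpFst y x) (fpSnd y x) (fun w => j.toFunctor.mapIso w.obj.iso)
      (fun {w w'} φ => by
        show j.map (y.map φ.hom.fst) ≫ j.map w'.obj.iso.hom = j.map w.obj.iso.hom ≫ j.map (x.map φ.hom.snd)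
        rw [← j.toFunctor.map_comp, ← j.toFunctor.map_comp]
        exact congrArg j.map φ.hom.w)
      (fun w => (fp_vert w).map)
  let Φ : fp y x ⥤ᵇ fp π s :=
    lift' N (fpFst y x)
      (fun w => fpIsoMk (Iso.refl _) w.obj.iso.symm (by
        show j.map (y.map (𝟙 _)) ≫ 𝟙 _ = j.map w.obj.iso.hom ≫ j.map w.obj.iso.inv
        rw [← j.toFunctor.map_comp, w.obj.iso.hom_inv_id, y.toFunctor.map_id, j.toFunctor.map_id]
        exact Category.comp_id _))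
      (fun {w w'} φ => fp_ext ((Category.comp_id _).trans (Category.id_comp _).symm) (by
        show x.map φ.hom.snd ≫ w'.obj.iso.inv = w.obj.iso.inv ≫ y.map φ.hom.fst
        rw [Iso.eq_inv_comp, ← Category.assoc, Iso.comp_inv_eq]
        exact φ.hom.w.symm))
      (fun w => Vert.id (p := (overCat V).p) w.obj.fst)
  refine rep_of_equiv' (Φ := Φ) (isEquivOver_mk Φ (fun {w w'} ψ => ?_) (fun {w w'} φ φ' e => ?_) fun η => ?_) hP
  · have e1 : ψ.hom.fst.hom.fst = ψ.hom.snd := by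
      have h : ψ.hom.fst.hom.fst ≫ 𝟙 _ = 𝟙 _ ≫ ψ.hom.snd := congrArg (fun q => q.hom.fst) ψ.hom.w
      exact (Category.comp_id _).symm.trans (h.trans (Category.id_comp _))
    have e2 : x.map ψ.hom.fst.hom.snd ≫ w'.obj.iso.inv = w.obj.iso.inv ≫ y.map ψ.hom.snd :=
      congrArg (fun q => q.hom.snd) ψ.hom.w
    refine ⟨fpHom ψ.hom.snd ψ.hom.fst.hom.snd ?_, fp_ext (fp_ext e1.symm rfl) rfl⟩
    rw [Iso.eq_inv_comp, ← Category.assoc, Iso.comp_inv_eq] at e2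
    exact e2.symm
  · exact fp_ext (congrArg (fun q => q.hom.fst.hom.fst) e :) (congrArg (fun q => q.hom.fst.hom.snd) e :)
  · let m := η.obj.fst
    let ia : m.obj.fst ≅ η.obj.snd := (CategoricalPullback.π₁ _ _).mapIso ((fpProp _ _).ι.mapIso η.obj.iso)
    let ib : x.obj m.obj.snd ≅ y.obj η.obj.snd := (CategoricalPullback.π₂ _ _).mapIso ((fpProp _ _).ι.mapIso η.obj.iso)
    have hia : Vert (overCat V).p ia.hom := (fp_vert η).map (F := fpFst yj j)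
    have hib : Vert 𝒳.p ib.hom := (fp_vert η).map (F := fpSnd yj j)
    have hw : j.map (y.map ia.hom) ≫ 𝟙 _ = m.obj.iso.hom ≫ j.map ib.hom := η.obj.iso.hom.hom.w
    rw [Category.comp_id] at hw
    let ψ : y.obj m.obj.fst ≅ x.obj m.obj.snd := y.toFunctor.mapIso ia ≪≫ ib.symm
    have hjψ : j.map ψ.hom = m.obj.iso.hom := by
      show j.map (y.map ia.hom ≫ ib.inv) = _
      rw [j.toFunctor.map_comp, hw, Category.assoc, ← j.toFunctor.map_comp, ib.hom_inv_id, j.toFunctor.map_id]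
      exact Category.comp_id _
    refine ⟨fpMk m.obj.fst m.obj.snd ψ (hia.map.comp hib.symm),
      fpIsoMk (fpIsoMk (Iso.refl _) (Iso.refl _) ?_) ia ?_, Vert.id (p := (overCat V).p) m.obj.fst⟩
    · show j.map (y.map (𝟙 _)) ≫ m.obj.iso.hom = j.map ψ.hom ≫ j.map (x.map (𝟙 _))
      rw [y.toFunctor.map_id, x.toFunctor.map_id, j.toFunctor.map_id, j.toFunctor.map_id, hjψ]
      exact (Category.id_comp _).trans (Category.comp_id _).symm
    · refine fp_ext rfl ?_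
      show x.map (𝟙 _) ≫ ib.hom = ψ.inv ≫ y.map ia.hom
      rw [x.toFunctor.map_id]
      show 𝟙 _ ≫ ib.hom = (ib.hom ≫ (y.toFunctor.mapIso ia).inv) ≫ (y.toFunctor.mapIso ia).hom
      simp

theorem algStack_of_rep1 {𝒳 𝒴 : _root_.AlgSt.Cat S} (h𝒳 : IsFibGrpd 𝒳.p)
    (h𝒴 : _root_.AlgSt.IsAlgStack Scheme.fppfPrecoverage 𝒴) (j : 𝒳 ⥤ᵇ 𝒴) (hj : _root_.AlgSt.RepByAlgSp1 j) :
    _root_.AlgSt.IsAlgStack Scheme.fppfPrecoverage 𝒳 := by
  obtain ⟨U, x, h1, h2⟩ := h𝒴.atlas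
  exact ⟨stack_of_rep1 h𝒳 h𝒴.isStack j hj, rep_diag (rep_of_faithful_rep1 j hj h𝒴.diag),
    atlas_of_rep h𝒳 (hj U x) (fpSnd x j) (with_fpSnd x j h1) (with_fpSnd x j h2)⟩

theorem rep_fp_diag {𝒳 𝒴 𝒵 : _root_.AlgSt.Cat S} (f : 𝒳 ⥤ᵇ 𝒵) (g : 𝒴 ⥤ᵇ 𝒵)
    (hX : _root_.AlgSt.RepByAlgSp1 (diag (toSelf 𝒳))) (hY : _root_.AlgSt.RepByAlgSp1 (diag (toSelf 𝒴)))
    (hZ : _root_.AlgSt.RepByAlgSp1 (diag (toSelf 𝒵))) (U : Over S) (x : overCat U ⥤ᵇ fp f g) :
    _root_.AlgSt.RepByAlgSp1 x := by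
  intro V y
  let x1 := BasedFunctor.comp x (fpFst f g)
  let x2 := BasedFunctor.comp x (fpSnd f g)
  let y1 := BasedFunctor.comp y (fpFst f g)
  let y2 := BasedFunctor.comp y (fpSnd f g)
  let xf := BasedFunctor.comp x1 f
  let yf := BasedFunctor.comp y1 f
  have h1 : _root_.AlgSt.RepByAlgSp (fp y1 x1) := rep_of_diag hX U x1 V y1
  have h2 : _root_.AlgSt.RepByAlgSp (fp y2 x2) := rep_of_diag hY U x2 V y2
  have hA : _root_.AlgSt.RepByAlgSp (fp yf xf) := rep_of_diag hZ U xf V yf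
  have natx : ∀ {a b : (overCat U).obj} (m : a ⟶ b),
      f.map (x1.map m) ≫ (x.obj b).obj.iso.hom = (x.obj a).obj.iso.hom ≫ g.map (x2.map m) := fun m => (x.map m).hom.w
  have naty : ∀ {a b : (overCat V).obj} (m : a ⟶ b),
      f.map (y1.map m) ≫ (y.obj b).obj.iso.hom = (y.obj a).obj.iso.hom ≫ g.map (y2.map m) := fun m => (y.map m).hom.w
  let π1 : fp y1 x1 ⥤ᵇ fp yf xf :=
    lift' (fpFst y1 x1) (fpSnd y1 x1) (fun w => f.toFunctor.mapIso w.obj.iso)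
      (fun {w w'} φ => by
        show f.map (y1.map φ.hom.fst) ≫ f.map w'.obj.iso.hom = f.map w.obj.iso.hom ≫ f.map (x1.map φ.hom.snd)
        rw [← f.toFunctor.map_comp, ← f.toFunctor.map_comp]
        exact congrArg f.map φ.hom.w)
      (fun w => (fp_vert w).map)
  let π2 : fp y2 x2 ⥤ᵇ fp yf xf :=
    lift' (fpFst y2 x2) (fpSnd y2 x2)
      (fun w => (y.obj w.obj.fst).obj.iso ≪≫ g.toFunctor.mapIso w.obj.iso ≪≫ (x.obj w.obj.snd).obj.iso.symm)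
      (fun {w w'} φ => by
        show f.map (y1.map φ.hom.fst) ≫ (y.obj w'.obj.fst).obj.iso.hom ≫ g.map w'.obj.iso.hom ≫
            (x.obj w'.obj.snd).obj.iso.inv =
          ((y.obj w.obj.fst).obj.iso.hom ≫ g.map w.obj.iso.hom ≫ (x.obj w.obj.snd).obj.iso.inv) ≫
            f.map (x1.map φ.hom.snd)
        have hn : g.map (y2.map φ.hom.fst) ≫ g.map w'.obj.iso.hom = g.map w.obj.iso.hom ≫ g.map (x2.map φ.hom.snd) := by
          rw [← g.toFunctor.map_comp, ← g.toFunctor.map_comp]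
          exact congrArg g.map φ.hom.w
        have hx : g.map (x2.map φ.hom.snd) ≫ (x.obj w'.obj.snd).obj.iso.inv =
            (x.obj w.obj.snd).obj.iso.inv ≫ f.map (x1.map φ.hom.snd) := by
          rw [Iso.eq_inv_comp, ← Category.assoc, Iso.comp_inv_eq]
          exact (natx _).symm
        rw [← Category.assoc, naty, Category.assoc, reassoc_of% hn, hx]
        simp only [Category.assoc])
      (fun w => (fp_vert (y.obj w.obj.fst)).comp ((fp_vert w).map.comp (fp_vert (x.obj w.obj.snd)).symm))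
  have hP : _root_.AlgSt.RepByAlgSp (fp π1 π2) :=
    rep_fp' (isFibGrpd_of_rep h1) (isFibGrpd_of_rep hA) π1 π2 (rep1_of_rep h1 hA π1) h2
  let i1 : ∀ w : (fp y x).obj, y1.obj w.obj.fst ≅ x1.obj w.obj.snd := fun w =>
    (CategoricalPullback.π₁ _ _).mapIso ((fpProp _ _).ι.mapIso w.obj.iso)
  let i2 : ∀ w : (fp y x).obj, y2.obj w.obj.fst ≅ x2.obj w.obj.snd := fun w =>
    (CategoricalPullback.π₂ _ _).mapIso ((fpProp _ _).ι.mapIso w.obj.iso)
  let N1 : fp y x ⥤ᵇ fp y1 x1 :=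
    lift' (fpFst y x) (fpSnd y x) i1 (fun φ => congrArg (fun q => q.hom.fst) φ.hom.w)
      (fun w => (fp_vert w).map (F := fpFst f g))
  let N2 : fp y x ⥤ᵇ fp y2 x2 :=
    lift' (fpFst y x) (fpSnd y x) i2 (fun φ => congrArg (fun q => q.hom.snd) φ.hom.w)
      (fun w => (fp_vert w).map (F := fpSnd f g))
  let Φ : fp y x ⥤ᵇ fp π1 π2 :=
    lift' N1 N2
      (fun w => fpIsoMk (Iso.refl _) (Iso.refl _) (by
        show f.map (y1.map (𝟙 _)) ≫ ((y.obj w.obj.fst).obj.iso.hom ≫ g.map (i2 w).hom ≫ (x.obj w.obj.snd).obj.iso.inv) =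
          f.map (i1 w).hom ≫ f.map (x1.map (𝟙 _))
        have h : f.map (i1 w).hom ≫ (x.obj w.obj.snd).obj.iso.hom =
            (y.obj w.obj.fst).obj.iso.hom ≫ g.map (i2 w).hom := w.obj.iso.hom.hom.w
        rw [← reassoc_of% h, Iso.hom_inv_id, y1.toFunctor.map_id, x1.toFunctor.map_id, f.toFunctor.map_id,
          f.toFunctor.map_id]
        exact (Category.id_comp _).trans rfl))
      (fun {w w'} φ => fp_ext ((Category.comp_id _).trans (Category.id_comp _).symm)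
        ((Category.comp_id _).trans (Category.id_comp _).symm))
      (fun w => Vert.id (p := (overCat V).p) w.obj.fst)
  refine rep_of_equiv' (Φ := Φ) (isEquivOver_mk Φ (fun {w w'} ψ => ?_) (fun {w w'} φ φ' e => ?_) fun η => ?_) hP
  · have e1 : ψ.hom.snd.hom.fst = ψ.hom.fst.hom.fst := by
      have h : ψ.hom.fst.hom.fst ≫ 𝟙 _ = 𝟙 _ ≫ ψ.hom.snd.hom.fst := congrArg (fun q => q.hom.fst) ψ.hom.w
      exact (h.trans (Category.id_comp _)).symm.trans (Category.comp_id _)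
    have e2 : ψ.hom.snd.hom.snd = ψ.hom.fst.hom.snd := by
      have h : ψ.hom.fst.hom.snd ≫ 𝟙 _ = 𝟙 _ ≫ ψ.hom.snd.hom.snd := congrArg (fun q => q.hom.snd) ψ.hom.w
      exact (h.trans (Category.id_comp _)).symm.trans (Category.comp_id _)
    have w1 : y1.map ψ.hom.fst.hom.fst ≫ (i1 w').hom = (i1 w).hom ≫ x1.map ψ.hom.fst.hom.snd := ψ.hom.fst.hom.w
    have w2 : y2.map ψ.hom.snd.hom.fst ≫ (i2 w').hom = (i2 w).hom ≫ x2.map ψ.hom.snd.hom.snd := ψ.hom.snd.hom.w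
    rw [e1, e2] at w2
    exact ⟨fpHom ψ.hom.fst.hom.fst ψ.hom.fst.hom.snd (fp_ext w1 w2), fp_ext (fp_ext rfl rfl) (fp_ext e1.symm e2.symm)⟩
  · exact fp_ext (congrArg (fun q => q.hom.fst.hom.fst) e :) (congrArg (fun q => q.hom.fst.hom.snd) e :)
  · let m := η.obj.fst
    let n := η.obj.snd
    let ia : m.obj.fst ≅ n.obj.fst := (CategoricalPullback.π₁ _ _).mapIso ((fpProp _ _).ι.mapIso η.obj.iso)
    let ib : m.obj.snd ≅ n.obj.snd := (CategoricalPullback.π₂ _ _).mapIso ((fpProp _ _).ι.mapIso η.obj.iso)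
    have hia : Vert (overCat V).p ia.hom := (fp_vert η).map (F := fpFst yf xf)
    have hib : Vert (overCat U).p ib.hom := (fp_vert η).map (F := fpSnd yf xf)
    have hw : f.map (y1.map ia.hom) ≫ (y.obj n.obj.fst).obj.iso.hom ≫ g.map n.obj.iso.hom ≫
        (x.obj n.obj.snd).obj.iso.inv = f.map m.obj.iso.hom ≫ f.map (x1.map ib.hom) := η.obj.iso.hom.hom.w
    let θ2 : y2.obj m.obj.fst ≅ x2.obj m.obj.snd :=
      y2.toFunctor.mapIso ia ≪≫ n.obj.iso ≪≫ (x2.toFunctor.mapIso ib).symm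
    have hθ : f.map m.obj.iso.hom ≫ (x.obj m.obj.snd).obj.iso.hom =
        (y.obj m.obj.fst).obj.iso.hom ≫ g.map θ2.hom := by
      rw [← cancel_mono (g.toFunctor.mapIso (x2.toFunctor.mapIso ib)).hom]
      show (f.map m.obj.iso.hom ≫ (x.obj m.obj.snd).obj.iso.hom) ≫ g.map (x2.map ib.hom) =
        ((y.obj m.obj.fst).obj.iso.hom ≫ g.map θ2.hom) ≫ g.map (x2.map ib.hom)
      rw [Category.assoc, ← natx, ← reassoc_of% hw, ← Category.assoc (f.map (y1.map ia.hom)), naty]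
      simp only [Category.assoc, Iso.inv_hom_id, Category.comp_id, ← g.toFunctor.map_comp]
      simp [θ2]
    let θ : y.obj m.obj.fst ≅ x.obj m.obj.snd := fpIsoMk m.obj.iso θ2 hθ
    refine ⟨fpMk m.obj.fst m.obj.snd θ (fp_vert m),
      fpIsoMk (fpIsoMk (Iso.refl _) (Iso.refl _) ?_) (fpIsoMk ia ib ?_) ?_, Vert.id (p := (overCat V).p) m.obj.fst⟩
    · show y1.map (𝟙 _) ≫ m.obj.iso.hom = m.obj.iso.hom ≫ x1.map (𝟙 _)
      rw [y1.toFunctor.map_id, x1.toFunctor.map_id]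
      exact (Category.id_comp _).trans (Category.comp_id _).symm
    · show y2.map ia.hom ≫ n.obj.iso.hom = θ2.hom ≫ x2.map ib.hom
      show _ = (y2.map ia.hom ≫ n.obj.iso.hom ≫ (x2.toFunctor.mapIso ib).inv) ≫ (x2.toFunctor.mapIso ib).hom
      simp
    · refine fp_ext ?_ ?_
      · show 𝟙 _ ≫ ia.hom = 𝟙 _ ≫ ia.hom
        rfl
      · show 𝟙 _ ≫ ib.hom = 𝟙 _ ≫ ib.hom
        rfl

theorem algStack_fp {𝒳 𝒴 𝒵 : _root_.AlgSt.Cat S} (h𝒵 : _root_.Stk.IsStack (AlgSp.J S) 𝒵)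
    (hΔ : _root_.AlgSt.RepByAlgSp1 (diag (toSelf 𝒵))) (h𝒳 : _root_.AlgSt.IsAlgStack Scheme.fppfPrecoverage 𝒳)
    (h𝒴 : _root_.AlgSt.IsAlgStack Scheme.fppfPrecoverage 𝒴) (f : 𝒳 ⥤ᵇ 𝒵) (g : 𝒴 ⥤ᵇ 𝒵) :
    _root_.AlgSt.IsAlgStack Scheme.fppfPrecoverage (fp f g) := by
  have hst : _root_.Stk.IsStack (AlgSp.J S) (fp f g) := isStack_fp h𝒳.isStack h𝒴.isStack (stack_prestack h𝒵)
  refine ⟨hst, rep_diag (rep_fp_diag f g h𝒳.diag h𝒴.diag hΔ), ?_⟩
  obtain ⟨U, x, hx1, hx2⟩ := h𝒳.atlas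
  obtain ⟨V, y, hy1, hy2⟩ := h𝒴.atlas
  obtain ⟨Ψ, hΨ, -⟩ := paste_fst' x f g
  let q1 : fp (BasedFunctor.comp x f) g ⥤ᵇ fp f g := BasedFunctor.comp Ψ (fpSnd x (fpFst f g))
  have hq1 : ∀ {Q : MorphismProperty (AlgSp.Sp S)}, _root_.AlgSt.RepByAlgSpWith Q x → _root_.AlgSt.RepByAlgSpWith Q q1 :=
    fun h => (with_iff (fpSnd x (fpFst f g)) q1 Ψ (BasedFunctor.id _) hΨ (equiv_id _) (Iso.refl _)).1
      (with_fpSnd x (fpFst f g) h)
  let k : fp (BasedFunctor.comp x f) g ⥤ᵇ 𝒴 := fpSnd _ g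
  have hN : IsFibGrpd (fp (BasedFunctor.comp x f) g).p := isFibGrpd_fp (isFibGrpd_overCat U) h𝒴.isStack.1 h𝒵.1
  obtain ⟨Φ, hΦ, -⟩ := fp_of_comp y g (BasedFunctor.comp x f) (BasedFunctor.id _) (equiv_id _)
  have hM : _root_.AlgSt.RepByAlgSp (fp k y) := rep_of_equiv' hΦ (rep_of_diag hΔ V (BasedFunctor.comp y g) U _)
  exact atlas_of_rep hst.1 hM (BasedFunctor.comp (fpFst k y) q1)
    (with_comp good_smooth comp_smooth (isFibGrpd_of_rep hM) hN _ _ (with_fpFst y k hy1) (hq1 hx1))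
    (with_comp good_surjective comp_surjective (isFibGrpd_of_rep hM) hN _ _ (with_fpFst y k hy2) (hq1 hx2))

theorem selfOver_isStack : _root_.Stk.IsStack (AlgSp.J S) (selfOver (Over S)) := by
  rw [stack_iff]
  refine ⟨isFibGrpd_selfOver, fun U R hR => ⟨?_, ?_⟩⟩
  · intro x y hx hy M hM hMn
    refine ⟨CategoryTheory.eqToHom (C := Over S) (hx.trans hy.symm), ⟨⟨hx.trans hy.symm, rfl⟩, fun z φ h => ?_⟩, fun θ hθ => ?_⟩
    · have h0 : M φ h = φ ≫ CategoryTheory.eqToHom (C := Over S) (hx.trans hy.symm) := hM φ h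
      exact h0.symm
    · obtain ⟨⟨_, h⟩, -⟩ := hθ
      exact h
  · intro H
    refine ⟨⟨U, rfl, fun a => CategoryTheory.eqToHom (C := Over S) (pobj H a) ≫ a.obj.hom, fun a => ?_,
      fun {a b} m => ?_⟩⟩
    · show CategoryTheory.eqToHom (C := Over S) (pobj H a) ≫ a.obj.hom = _
      simp [selfOver]
    · have h : H.map m = _ := pmap H m
      show H.map m ≫ _ = _
      rw [h]
      simp [selfOver, _root_.Stk.sieveCat]
      exact congrArg _ (Over.w m.hom)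

theorem selfOver_diag : _root_.AlgSt.RepByAlgSp1 (diag (toSelf (selfOver (Over S)))) := by
  refine rep_diag fun U x V y => ?_
  let Φ : fp (toSelf (overCat V)) (toSelf (overCat U)) ⥤ᵇ fp y x :=
    lift' (fpFst _ _) (fpSnd _ _)
      (fun w => CategoryTheory.eqToIso (C := Over S)
        ((pobj y w.obj.fst).trans ((fp_snd_obj w).symm.trans (pobj x w.obj.snd).symm)))
      (fun {w w'} φ => by
        have h1 : y.map φ.hom.fst = _ := pmap y φ.hom.fst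
        have h2 : x.map φ.hom.snd = _ := pmap x φ.hom.snd
        show y.map φ.hom.fst ≫ CategoryTheory.eqToHom (C := Over S)
            ((pobj y w'.obj.fst).trans ((fp_snd_obj w').symm.trans (pobj x w'.obj.snd).symm)) =
          CategoryTheory.eqToHom (C := Over S)
            ((pobj y w.obj.fst).trans ((fp_snd_obj w).symm.trans (pobj x w.obj.snd).symm)) ≫ x.map φ.hom.snd
        rw [h1, h2, fp_snd_map φ]
        simp [selfOver])
      (fun w => Vert.eqToHom (p := (selfOver (Over S)).p) ((pobj y w.obj.fst).trans ((fp_snd_obj w).symm.trans (pobj x w.obj.snd).symm)))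
  refine rep_of_equiv (Φ := Φ) (isEquivOver_mk Φ (fun {w w'} ψ => ?_) (fun {w w'} φ φ' h => ?_) fun η => ?_)
    (rep_prod V U)
  · refine ⟨fpHom ψ.hom.fst ψ.hom.snd ?_, fp_ext rfl rfl⟩
    show ψ.hom.fst.left ≫ w'.obj.iso.hom = w.obj.iso.hom ≫ ψ.hom.snd.left
    rw [show w'.obj.iso.hom = _ from (fp_vert w').map_eq, show w.obj.iso.hom = _ from (fp_vert w).map_eq,
      show ψ.hom.snd.left = _ from fp_snd_map ψ]
    simp
    rfl
  · exact fp_ext (congrArg (fun m => m.hom.fst) h :) (congrArg (fun m => m.hom.snd) h :)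
  · let e : η.obj.fst.left = η.obj.snd.left := (fp_snd_obj η).symm
    refine ⟨fpMk η.obj.fst η.obj.snd (CategoryTheory.eqToIso (C := Over S) e)
        (Vert.eqToHom (p := (selfOver (Over S)).p) e), fpIsoMk (Iso.refl _) (Iso.refl _) ?_,
      Vert.id (p := (overCat V).p) η.obj.fst⟩
    show y.map (𝟙 _) ≫ η.obj.iso.hom =
      CategoryTheory.eqToHom (C := Over S) ((pobj y η.obj.fst).trans (e.trans (pobj x η.obj.snd).symm)) ≫ x.map (𝟙 _)
    rw [show η.obj.iso.hom = _ from (fp_vert η).map_eq, y.toFunctor.map_id, x.toFunctor.map_id]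
    exact (Category.id_comp _).trans (Category.comp_id _).symm

end Groth.Agent.H7.AlgSt
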