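import Groth.Prelude.Def_AlgSt3
import Groth.Agent.H7.AlgSt.Stack
import Groth.Agent.AlgSpTopo.RepLocal

/-! Monomorphisms, charts, products, locality on the base. -/

set_option autoImplicit false
set_option backward.isDefEq.respectTransparency false
set_option backward.isDefEq.respectTransparency.types false

universe w v v₂ v₃ u₂ u₃ u

open CategoryTheory CategoryTheory.Limits CategoryTheory.Functor AlgebraicGeometry FibCat Opposite
open Groth.Agent.LeadFibCat Groth.Agent.H7.Stk.Glue Groth.Agent.H7.Stk.Congr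

namespace Groth.Agent.H7.AlgSt

variable {S : Scheme.{u}}

theorem app_secHom {F : AlgSp.Sp S} {U : Over S} (Φ : _root_.AlgSt.ofSp F ⥤ᵇ overCat U)
    (s : (_root_.AlgSt.ofSp F).obj) (ε : Φ.obj s ≅ Over.mk (𝟙 U)) (hε : Vert (overCat U).p ε.hom)
    (h : U = s.base) :
    (_root_.AlgSt.spMapOfOver Φ).hom.app (op U) (F.obj.map (CategoryTheory.eqToHom (C := Over S) h).op s.sec) =
      ⟨𝟙 U⟩ := by
  rw [NatTrans.naturality_apply]
  apply ULift.ext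
  show CategoryTheory.eqToHom (C := Over S) h ≫ _root_.AlgSt.secHom Φ s = 𝟙 U
  obtain ⟨e, he⟩ := hε
  have hw : ε.hom.left ≫ 𝟙 U = (Φ.obj s).hom := Over.w ε.hom
  have hl : ε.hom.left = CategoryTheory.eqToHom (C := Over S) e := he
  rw [_root_.AlgSt.secHom, ← hw, hl]
  simp

theorem mono_full {𝒳 𝒴 : _root_.AlgSt.Cat S} (h𝒳 : IsFibGrpd 𝒳.p) (h𝒴 : IsFibGrpd 𝒴.p) (j : 𝒳 ⥤ᵇ 𝒴)
    (hj : _root_.AlgSt.RepByAlgSpWith (MorphismProperty.monomorphisms (AlgSp.Sp S)) j) :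
    ∀ {a b : 𝒳.obj} (ψ : j.obj a ⟶ j.obj b), ∃ φ, j.map φ = ψ := by
  refine full_of_vert (isFibered_of_isFibGrpd h𝒳) (fun φ _ => h𝒴.isStronglyCartesian _) ?_
  intro a b ψ hψ
  haveI : IsIso ψ := isIso_of_vert h𝒴 hψ
  obtain ⟨G, i, hi⟩ := over_ess h𝒴 (j.obj b) (pobj j b)
  obtain ⟨F, e, he, hm⟩ := hj (𝒳.p.obj b) G
  let o : (overCat (𝒳.p.obj b)).obj := Over.mk (𝟙 _)
  let wa : (fp G j).obj := fpMk o a (i ≪≫ (asIso ψ).symm) (hi.comp (Vert.symm (e := asIso ψ) hψ))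
  let wb : (fp G j).obj := fpMk o b i hi
  obtain ⟨sa, ea, hea⟩ := (equiv_props he).2.2 wa
  obtain ⟨sb, eb, heb⟩ := (equiv_props he).2.2 wb
  have ha : 𝒳.p.obj b = sa.base :=
    hea.1.symm.trans (pobj e sa)
  have hb : 𝒳.p.obj b = sb.base :=
    heb.1.symm.trans (pobj e sb)
  let m := _root_.AlgSt.spMapOfOver (BasedFunctor.comp e (fpFst G j))
  haveI : Mono m := hm
  haveI : Mono m.hom := inferInstanceAs (Mono ((sheafToPresheaf (AlgSp.J S) _).map m))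
  have hinj : Function.Injective (m.hom.app (op (𝒳.p.obj b))) := (mono_iff_injective _).1 inferInstance
  have hsec := hinj ((app_secHom (BasedFunctor.comp e (fpFst G j)) sa ((fpFst G j).toFunctor.mapIso ea) (hea.map (F := fpFst G j)) ha).trans
    (app_secHom (BasedFunctor.comp e (fpFst G j)) sb ((fpFst G j).toFunctor.mapIso eb) (heb.map (F := fpFst G j)) hb).symm)
  have hs : F.obj.obj.map (CategoryTheory.eqToHom (C := Over S) (ha.symm.trans hb)).op sb.sec = sa.sec := by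
    have := congrArg (F.obj.obj.map (CategoryTheory.eqToHom (C := Over S) ha.symm).op) hsec
    simp only [← comp_apply, ← Functor.map_comp, ← op_comp, eqToHom_trans] at this
    simpa using this.symm
  let θ : wa ⟶ wb := ea.inv ≫ e.map (eltIso (ha.symm.trans hb) hs).hom ≫ eb.hom
  have hθ : Vert (fp G j).p θ :=
    hea.symm.comp ((eltIso_vert (ha.symm.trans hb) hs).map.comp heb)
  have h0 : θ.hom.fst = 𝟙 o := by
    refine Over.OverMorphism.ext ?_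
    exact (hθ.map (F := fpFst G j)).map_eq
  refine ⟨θ.hom.snd, hθ.map (F := fpSnd G j), ?_⟩
  have hw : G.map θ.hom.fst ≫ i.hom = (i.hom ≫ inv ψ) ≫ j.map θ.hom.snd := θ.hom.w
  rw [h0] at hw
  erw [G.toFunctor.map_id] at hw
  rw [Category.assoc] at hw
  have hw' : inv ψ ≫ j.map θ.hom.snd = 𝟙 _ := (cancel_epi i.hom).1 (hw.symm.trans
    ((Category.id_comp _).trans (Category.comp_id _).symm))
  rw [← cancel_epi (inv ψ), hw', IsIso.inv_hom_id]

/-- a based functor between slices comes from a morphism -/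
theorem exists_overMap {U V : Over S} (c : overCat U ⥤ᵇ overCat V) :
    ∃ a : U ⟶ V, Nonempty (c ≅ _root_.AlgSt.overMap a) := by
  let t : (overCat U).obj := Over.mk (𝟙 U)
  let a : U ⟶ V := CategoryTheory.eqToHom (C := Over S) (pobj c t).symm ≫ (c.obj t).hom
  have key : ∀ u : (overCat U).obj, CategoryTheory.eqToHom (C := Over S) (pobj c u) ≫ u.hom ≫ a = (c.obj u).hom := by
    intro u
    have hw : (c.map (toT u)).left ≫ (c.obj t).hom = (c.obj u).hom := Over.w _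
    have hm : (c.map (toT u)).left = _ := pmap c (toT u)
    rw [← hw, hm]
    simp only [a, Category.assoc]
    rfl
  refine ⟨a, ⟨isoMk (fun u => Over.isoMk (CategoryTheory.eqToIso (C := Over S) (pobj c u)) (key u))
    (fun {u u'} φ => Over.OverMorphism.ext ?_) (fun u => ⟨pobj c u, rfl⟩)⟩⟩
  have hm : (c.map φ).left = _ := pmap c φ
  show (c.map φ).left ≫ CategoryTheory.eqToHom (C := Over S) (pobj c u') =
    CategoryTheory.eqToHom (C := Over S) (pobj c u) ≫ φ.left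
  rw [hm]
  simp only [Category.assoc, eqToHom_trans, eqToHom_refl, Category.comp_id]
  rfl

theorem chart_over {𝒳 𝒴 : _root_.AlgSt.Cat S} (h𝒳 : _root_.AlgSt.IsAlgStack Scheme.fppfPrecoverage 𝒳)
    (h𝒴 : IsFibGrpd 𝒴.p) (f : 𝒳 ⥤ᵇ 𝒴) (V : Over S) (y : overCat V ⥤ᵇ 𝒴)
    (hy : _root_.AlgSt.RepByAlgSpWith (AlgSp.LocP @Smooth) y)
    (hy' : _root_.AlgSt.RepByAlgSpWith AlgSp.IsSurjectiveMor y) :
    ∃ (U : Over S) (a : U ⟶ V) (x : overCat U ⥤ᵇ 𝒳), _root_.AlgSt.RepByAlgSpWith (AlgSp.LocP @Smooth) x ∧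
      _root_.AlgSt.RepByAlgSpWith AlgSp.IsSurjectiveMor x ∧
      Nonempty (BasedFunctor.comp x f ≅ BasedFunctor.comp (_root_.AlgSt.overMap a) y) := by
  obtain ⟨W, x0, h0, h0'⟩ := h𝒳.atlas
  have h1 := with_fpFst y f hy
  have h1' := with_fpFst y f hy'
  have hN : IsFibGrpd (fp f y).p := isFibGrpd_fp h𝒳.isStack.1 (isFibGrpd_overCat V) h𝒴
  have hA : _root_.AlgSt.RepByAlgSp (fp x0 (fpFst f y)) := rep1_of_with h1 W x0
  have hA' := isFibGrpd_of_rep hA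
  obtain ⟨Z, e, he⟩ := hA
  obtain ⟨U, t, ht, hts⟩ := Z.property.atlas
  let c := BasedFunctor.comp (_root_.AlgSt.ofOverCat U) (BasedFunctor.comp (_root_.AlgSt.ofSpMap t) e)
  have hc := with_chart good_smooth Z e he t
    (AlgSpTopo.smooth_of_isEtaleMor (AlgSp.isEtaleMor_of_repWith t ht))
  have hc' := with_chart good_surjective Z e he t (AlgSpTopo.surjective_of_repWith hts)
  let q : overCat U ⥤ᵇ fp f y := BasedFunctor.comp c (fpSnd x0 (fpFst f y))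
  have hq : _root_.AlgSt.RepByAlgSpWith (AlgSp.LocP @Smooth) q :=
    with_comp good_smooth comp_smooth (isFibGrpd_overCat U) hA' c _ hc (with_fpSnd x0 (fpFst f y) h0)
  have hq' : _root_.AlgSt.RepByAlgSpWith AlgSp.IsSurjectiveMor q :=
    with_comp good_surjective comp_surjective (isFibGrpd_overCat U) hA' c _ hc' (with_fpSnd x0 (fpFst f y) h0')
  obtain ⟨a, ⟨ea⟩⟩ := exists_overMap (BasedFunctor.comp q (fpSnd f y))
  let i : BasedFunctor.comp (fpFst f y) f ≅ BasedFunctor.comp (fpSnd f y) y :=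
    isoMk (fun w => w.obj.iso) (fun φ => φ.hom.w) (fun w => fp_vert w)
  exact ⟨U, a, BasedFunctor.comp q (fpFst f y),
    with_comp good_smooth comp_smooth (isFibGrpd_overCat U) hN q _ hq h1,
    with_comp good_surjective comp_surjective (isFibGrpd_overCat U) hN q _ hq' h1',
    ⟨whiskL q i ≪≫ whiskR ea y⟩⟩

theorem vert_eq {a b : (selfOver (Over S)).obj} {φ ψ : a ⟶ b} (h : Vert (selfOver (Over S)).p φ)
    (h' : Vert (selfOver (Over S)).p ψ) : φ = ψ :=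
  (h.map_eq : φ = _).trans (h'.map_eq : ψ = _).symm

theorem spMap_iso {F : AlgSp.Sp S} {U : Over S} (Φ : _root_.AlgSt.ofSp F ⥤ᵇ overCat U) :
    Nonempty (BasedFunctor.comp (_root_.AlgSt.ofSpMap (_root_.AlgSt.spMapOfOver Φ)) (_root_.AlgSt.toOverCat U) ≅ Φ) :=
  ⟨(eqToIso rfl : _ ≅ BasedFunctor.comp (_root_.Stk.ofPshMap (toMap (BasedFunctor.comp Φ (_root_.AlgSt.ofOverCat U))))
      (_root_.AlgSt.toOverCat U)) ≪≫
    (whiskR (isoToMap (BasedFunctor.comp Φ (_root_.AlgSt.ofOverCat U))) (_root_.AlgSt.toOverCat U)).symm ≪≫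
    eqToIso rfl⟩

theorem with_prod {P : MorphismProperty (AlgSp.Sp S)} {𝒳₁ 𝒳₂ 𝒴₁ 𝒴₂ : _root_.AlgSt.Cat S}
    (hPb : ∀ ⦃X₁ Y₁ X₂ Y₂ : AlgSp.Sp S⦄, AlgSp.IsAlgSpace X₁ → AlgSp.IsAlgSpace Y₁ → AlgSp.IsAlgSpace X₂ →
      AlgSp.IsAlgSpace Y₂ → ∀ (a : X₁ ⟶ Y₁) (b : Y₂ ⟶ Y₁) (a' : X₂ ⟶ Y₂) (b' : X₂ ⟶ X₁),
      IsPullback b' a' a b → P a → P a')
    (hPc : ∀ ⦃X Y Z : AlgSp.Sp S⦄, AlgSp.IsAlgSpace X → AlgSp.IsAlgSpace Y → AlgSp.IsAlgSpace Z →
      ∀ (a : X ⟶ Y) (b : Y ⟶ Z), P a → P b → P (a ≫ b))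
    (f₁ : 𝒳₁ ⥤ᵇ 𝒴₁) (f₂ : 𝒳₂ ⥤ᵇ 𝒴₂) (h1 : _root_.AlgSt.RepByAlgSpWith P f₁) (h2 : _root_.AlgSt.RepByAlgSpWith P f₂)
    (e : BasedFunctor.comp (BasedFunctor.comp (fpFst (toSelf 𝒳₁) (toSelf 𝒳₂)) f₁) (toSelf 𝒴₁) ≅
      BasedFunctor.comp (BasedFunctor.comp (fpSnd (toSelf 𝒳₁) (toSelf 𝒳₂)) f₂) (toSelf 𝒴₂)) :
    _root_.AlgSt.RepByAlgSpWith P
      (fpLift (BasedFunctor.comp (fpFst (toSelf 𝒳₁) (toSelf 𝒳₂)) f₁)
        (BasedFunctor.comp (fpSnd (toSelf 𝒳₁) (toSelf 𝒳₂)) f₂) e) := by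
  intro U y
  let L := fpLift (BasedFunctor.comp (fpFst (toSelf 𝒳₁) (toSelf 𝒳₂)) f₁)
    (BasedFunctor.comp (fpSnd (toSelf 𝒳₁) (toSelf 𝒳₂)) f₂) e
  let y1 := BasedFunctor.comp y (fpFst (toSelf 𝒴₁) (toSelf 𝒴₂))
  let y2 := BasedFunctor.comp y (fpSnd (toSelf 𝒴₁) (toSelf 𝒴₂))
  obtain ⟨F₁, e₁, he₁, hp1⟩ := h1 U y1
  obtain ⟨F₂, e₂, he₂, hp2⟩ := h2 U y2
  let π₁ := _root_.AlgSt.spMapOfOver (BasedFunctor.comp e₁ (fpFst y1 f₁))
  let π₂ := _root_.AlgSt.spMapOfOver (BasedFunctor.comp e₂ (fpFst y2 f₂))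
  have sq := IsPullback.of_hasPullback π₁ π₂
  have hU := AlgSp.IsAlgSpace.yon_obj U
  have hW := AlgSpTopo.isAlgSpace_pullback F₁.property hU F₂.property π₁ π₂
  have hP : P (pullback.fst π₁ π₂ ≫ π₁) :=
    hPc hW F₁.property hU _ _ (hPb F₂.property hU hW F₁.property π₂ π₁ _ _ sq.flip hp2) hp1
  obtain ⟨i₁⟩ := spMap_iso (BasedFunctor.comp e₁ (fpFst y1 f₁))
  obtain ⟨i₂⟩ := spMap_iso (BasedFunctor.comp e₂ (fpFst y2 f₂))
  obtain ⟨E, hE, hE1, -⟩ := fp_ofPsh (sq.map (sheafToPresheaf (AlgSp.J S) _))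
  obtain ⟨Φ₀, hΦ₀, hA, -⟩ := transport_fst (fpFst y1 f₁) (fpFst y2 f₂) (_root_.AlgSt.ofSpMap π₁)
    (_root_.AlgSt.ofSpMap π₂) e₁ e₂ (_root_.AlgSt.toOverCat U) he₁ he₂
    (equiv_props (toOver_equiv U)).1 (equiv_props (toOver_equiv U)).2.1 i₁ i₂
  let κ : ∀ w : (fp (fpFst y1 f₁) (fpFst y2 f₂)).obj, w.obj.fst.obj.fst ≅ w.obj.snd.obj.fst := fun w => w.obj.iso
  let φ1 : ∀ w : (fp (fpFst y1 f₁) (fpFst y2 f₂)).obj, y1.obj w.obj.fst.obj.fst ≅ f₁.obj w.obj.fst.obj.snd :=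
    fun w => w.obj.fst.obj.iso
  let φ2 : ∀ w : (fp (fpFst y1 f₁) (fpFst y2 f₂)).obj, y2.obj w.obj.fst.obj.fst ≅ f₂.obj w.obj.snd.obj.snd :=
    fun w => y2.toFunctor.mapIso (κ w) ≪≫ w.obj.snd.obj.iso
  have hbase : ∀ w : (fp (fpFst y1 f₁) (fpFst y2 f₂)).obj,
      𝒳₁.p.obj w.obj.fst.obj.snd = 𝒳₂.p.obj w.obj.snd.obj.snd := fun w =>
    (fp_snd_obj w.obj.fst).trans ((fp_vert w).1.trans (fp_snd_obj w.obj.snd).symm)
  let X : fp (fpFst y1 f₁) (fpFst y2 f₂) ⥤ᵇ fp (toSelf 𝒳₁) (toSelf 𝒳₂) :=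
    lift' (BasedFunctor.comp (fpFst _ _) (fpSnd y1 f₁)) (BasedFunctor.comp (fpSnd _ _) (fpSnd y2 f₂))
      (fun w => CategoryTheory.eqToIso (C := Over S) (hbase w))
      (fun {w w'} φ => by
        have h : φ.hom.fst.hom.fst.left ≫ (κ w').hom.left = (κ w).hom.left ≫ φ.hom.snd.hom.fst.left :=
          congrArg (fun m => m.left) φ.hom.w
        obtain ⟨k, hk⟩ := fp_vert w
        obtain ⟨k', hk'⟩ := fp_vert w'
        have hk2 : (κ w).hom.left = CategoryTheory.eqToHom (C := Over S) k := hk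
        have hk2' : (κ w').hom.left = CategoryTheory.eqToHom (C := Over S) k' := hk'
        rw [hk2, hk2'] at h
        show 𝒳₁.p.map φ.hom.fst.hom.snd ≫ CategoryTheory.eqToHom (hbase w') =
          CategoryTheory.eqToHom (hbase w) ≫ 𝒳₂.p.map φ.hom.snd.hom.snd
        rw [show 𝒳₁.p.map φ.hom.fst.hom.snd = _ from fp_snd_map φ.hom.fst,
          show 𝒳₂.p.map φ.hom.snd.hom.snd = _ from fp_snd_map φ.hom.snd]
        simp only [Category.assoc, eqToHom_trans, eqToHom_trans_assoc]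
        have h' : φ.hom.snd.hom.fst.left =
            CategoryTheory.eqToHom (C := Over S) k.symm ≫ φ.hom.fst.hom.fst.left ≫ CategoryTheory.eqToHom k' := by
          rw [h]; simp
        rw [show (overCat U).p.map φ.hom.snd.hom.fst = φ.hom.snd.hom.fst.left from rfl, h']
        simp
        rfl)
      (fun w => Vert.eqToHom (p := (selfOver (Over S)).p) (hbase w))
  let M : fp (fpFst y1 f₁) (fpFst y2 f₂) ⥤ᵇ fp y L :=
    lift' (BasedFunctor.comp (fpFst _ _) (fpFst y1 f₁)) X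
      (fun w => fpIsoMk (φ1 w) (φ2 w)
        (vert_eq ((Vert.map (F := toSelf 𝒴₁) (fp_vert w.obj.fst)).comp (fp_vert (L.obj (X.obj w))))
          ((fp_vert (y.obj w.obj.fst.obj.fst)).comp
            (((fp_vert w).map (F := y2)).comp (fp_vert w.obj.snd)).map)))
      (fun {w w'} φ => fp_ext (φ.hom.fst.hom.w) (by
        have h : φ.hom.fst.hom.fst ≫ (κ w').hom = (κ w).hom ≫ φ.hom.snd.hom.fst := φ.hom.w
        have h2 : y2.map φ.hom.snd.hom.fst ≫ w'.obj.snd.obj.iso.hom =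
            w.obj.snd.obj.iso.hom ≫ f₂.map φ.hom.snd.hom.snd := φ.hom.snd.hom.w
        show y2.map φ.hom.fst.hom.fst ≫ y2.map (κ w').hom ≫ w'.obj.snd.obj.iso.hom =
          (y2.map (κ w).hom ≫ w.obj.snd.obj.iso.hom) ≫ f₂.map φ.hom.snd.hom.snd
        rw [← Category.assoc, ← y2.toFunctor.map_comp, h, y2.toFunctor.map_comp, Category.assoc, h2, Category.assoc]))
      (fun w => fp_vert w.obj.fst)
  have hM : IsEquivOver M := by
    refine isEquivOver_mk M (fun {w w'} ψ => ?_) (fun {w w'} φ φ' h => ?_) (fun η => ?_)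
    · let m : w.obj.fst.obj.fst ⟶ w'.obj.fst.obj.fst := ψ.hom.fst
      have c1 : y1.map m ≫ (φ1 w').hom = (φ1 w).hom ≫ f₁.map ψ.hom.snd.hom.fst :=
        congrArg (fun q => q.hom.fst) ψ.hom.w
      have c2 : y2.map m ≫ y2.map (κ w').hom ≫ w'.obj.snd.obj.iso.hom =
          (y2.map (κ w).hom ≫ w.obj.snd.obj.iso.hom) ≫ f₂.map ψ.hom.snd.hom.snd :=
        congrArg (fun q => q.hom.snd) ψ.hom.w
      refine ⟨fpHom (fpHom m ψ.hom.snd.hom.fst c1) (fpHom ((κ w).inv ≫ m ≫ (κ w').hom) ψ.hom.snd.hom.snd ?_) ?_,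
        fp_ext rfl (fp_ext rfl rfl)⟩
      · show y2.map ((κ w).inv ≫ m ≫ (κ w').hom) ≫ w'.obj.snd.obj.iso.hom = _
        rw [← cancel_epi (y2.toFunctor.mapIso (κ w)).hom]
        show y2.map (κ w).hom ≫ _ = y2.map (κ w).hom ≫ _
        rw [← Category.assoc, ← y2.toFunctor.map_comp, Iso.hom_inv_id_assoc, y2.toFunctor.map_comp, Category.assoc, c2,
          Category.assoc]
      · show m ≫ (κ w').hom = (κ w).hom ≫ (κ w).inv ≫ m ≫ (κ w').hom
        rw [Iso.hom_inv_id_assoc]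
    · have e1 : φ.hom.fst.hom.fst = φ'.hom.fst.hom.fst := congrArg (fun m => m.hom.fst) h
      refine fp_ext (fp_ext e1 (congrArg (fun m => m.hom.snd.hom.fst) h :))
        (fp_ext ?_ (congrArg (fun m => m.hom.snd.hom.snd) h :))
      have w1 : φ.hom.fst.hom.fst ≫ (κ w').hom = (κ w).hom ≫ φ.hom.snd.hom.fst := φ.hom.w
      have w2 : φ'.hom.fst.hom.fst ≫ (κ w').hom = (κ w).hom ≫ φ'.hom.snd.hom.fst := φ'.hom.w
      exact (cancel_epi (κ w).hom).1 (w1.symm.trans ((congrArg (· ≫ (κ w').hom) e1).trans w2))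
    · let i1 : y1.obj η.obj.fst ≅ f₁.obj η.obj.snd.obj.fst :=
        (CategoricalPullback.π₁ _ _).mapIso ((fpProp _ _).ι.mapIso η.obj.iso)
      let i2 : y2.obj η.obj.fst ≅ f₂.obj η.obj.snd.obj.snd :=
        (CategoricalPullback.π₂ _ _).mapIso ((fpProp _ _).ι.mapIso η.obj.iso)
      have hi1 : Vert 𝒴₁.p i1.hom := (fp_vert η).map (F := fpFst (toSelf 𝒴₁) (toSelf 𝒴₂))
      have hi2 : Vert 𝒴₂.p i2.hom := (fp_vert η).map (F := fpSnd (toSelf 𝒴₁) (toSelf 𝒴₂))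
      let w1 : (fp y1 f₁).obj := fpMk η.obj.fst η.obj.snd.obj.fst i1 hi1
      let w2 : (fp y2 f₂).obj := fpMk η.obj.fst η.obj.snd.obj.snd i2 hi2
      refine ⟨fpMk w1 w2 (Iso.refl η.obj.fst) (Vert.id (p := (overCat U).p) η.obj.fst),
        fpIsoMk (Iso.refl η.obj.fst) (fpIsoMk (Iso.refl η.obj.snd.obj.fst) (Iso.refl η.obj.snd.obj.snd)
          (vert_eq ((Vert.id (p := 𝒳₁.p) _).map.comp (fp_vert η.obj.snd))
            ((fp_vert (X.obj (fpMk w1 w2 (Iso.refl η.obj.fst) (Vert.id (p := (overCat U).p) η.obj.fst)))).comp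
              (Vert.id (p := 𝒳₂.p) _).map))) (fp_ext ?_ ?_), Vert.id (p := (overCat U).p) η.obj.fst⟩
      · show y1.map (𝟙 _) ≫ i1.hom = i1.hom ≫ f₁.map (𝟙 _)
        rw [y1.toFunctor.map_id, f₁.toFunctor.map_id]
        exact (Category.id_comp _).trans (Category.comp_id _).symm
      · show y2.map (𝟙 _) ≫ i2.hom = (y2.map (𝟙 _) ≫ i2.hom) ≫ f₂.map (𝟙 _)
        rw [f₂.toFunctor.map_id]
        exact (Category.comp_id _).symm
  have hd : Data P (BasedFunctor.comp (_root_.AlgSt.ofSpMap (pullback.fst π₁ π₂ ≫ π₁)) (_root_.AlgSt.toOverCat U)) :=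
    ⟨⟨_, hW⟩, BasedFunctor.id _, equiv_id _, by
      rw [show _root_.AlgSt.spMapOfOver (BasedFunctor.comp (BasedFunctor.id _) (BasedFunctor.comp
        (_root_.AlgSt.ofSpMap (pullback.fst π₁ π₂ ≫ π₁)) (_root_.AlgSt.toOverCat U))) = _ from spMap_ofMap _]
      exact hP⟩
  have hd2 : Data P (BasedFunctor.comp (fpFst (fpFst y1 f₁) (fpFst y2 f₂)) (fpFst y1 f₁)) :=
    Data.push (equiv_comp hE hΦ₀)
      (eqToIso (congrArg (fun k => BasedFunctor.comp E (BasedFunctor.comp k (fpFst y1 f₁))) hA) ≪≫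
        whiskL (BasedFunctor.comp E (fpFst _ _)) i₁.symm ≪≫
        eqToIso (congrArg (fun k => BasedFunctor.comp k (BasedFunctor.comp (_root_.AlgSt.ofSpMap π₁)
          (_root_.AlgSt.toOverCat U))) hE1)) hd
  exact Data.push hM (Iso.refl _) hd2

/-- locality on the base -/
theorem with_of_locally {𝒳 𝒴 𝒵 : _root_.AlgSt.Cat S} (h𝒳 : IsFibGrpd 𝒳.p) (h𝒴 : IsFibGrpd 𝒴.p)
    {P : MorphismProperty (AlgSp.Sp S)} (hg0 : Good P) (hP : AlgSp.IsLocalOnBase AlgSp.IsFppfCover P)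
    (f : 𝒳 ⥤ᵇ 𝒴) (hf : _root_.AlgSt.RepByAlgSp1 f) (g : 𝒵 ⥤ᵇ 𝒴)
    (hg : ∀ (U : Over S) (y : overCat U ⥤ᵇ 𝒴), ∃ R ∈ (QuotSh.J Scheme.fppfPrecoverage S) U,
      ∀ ⦃V : Over S⦄ (h : V ⟶ U), R.arrows h →
        ∃ z : overCat V ⥤ᵇ 𝒵, Nonempty (BasedFunctor.comp z g ≅ BasedFunctor.comp (_root_.AlgSt.overMap h) y))
    (h' : _root_.AlgSt.RepByAlgSpWith P (fpFst g f)) : _root_.AlgSt.RepByAlgSpWith P f := by
  intro U y
  obtain ⟨R, hR, hz⟩ := hg U y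
  obtain ⟨F, e, he⟩ := hf U y
  let π := _root_.AlgSt.spMapOfOver (BasedFunctor.comp e (fpFst y f))
  refine ⟨F, e, he, ?_⟩
  rw [GrothendieckTopology.mem_over_iff] at hR
  have : ((@Flat ⊓ @LocallyOfFinitePresentation : MorphismProperty Scheme.{u})).ContainsIdentities :=
    ⟨fun _ => ⟨inferInstance, inferInstance⟩⟩
  have : Scheme.fppfPrecoverage.{u}.HasIsos := by unfold Scheme.fppfPrecoverage; infer_instance
  obtain ⟨R', hR', hle⟩ := Precoverage.mem_toGrothendieck_iff_of_isStableUnderComposition.1 hR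
  have hprop : ∀ {Y : Scheme.{u}} {c : Y ⟶ U.left}, R' c → (Flat c ∧ LocallyOfFinitePresentation c) :=
    fun h => hR'.2 h
  have hsur : ∀ t : ↥U.left, ∃ (Y : Scheme.{u}) (c : Y ⟶ U.left), R' c ∧ t ∈ Set.range c := fun t => by
    obtain ⟨_, _, ⟨h⟩, hx⟩ := hR'.1 t
    exact ⟨_, _, h, hx⟩
  choose Y0 c0 hc0 hpt using hsur
  let Vi : ↥U.left → Over S := fun t => Over.mk (c0 t ≫ U.hom)
  let ci : ∀ t, Vi t ⟶ U := fun t => Over.homMk (c0 t) rfl
  have hci : ∀ t, R.arrows (ci t) := fun t => (Sieve.overEquiv_iff _ _).1 (hle _ _ (hc0 t))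
  have hU := AlgSp.IsAlgSpace.yon_obj U
  have hcov : AlgSp.IsFppfCover (S := S) (fun t => (AlgSp.yon S).obj (Vi t)) (fun t => (AlgSp.yon S).map (ci t)) := by
    refine ⟨fun t => ?_, fun x => ?_⟩
    · obtain ⟨h1, h2⟩ := hprop (hc0 t)
      have hrep : AlgSp.Representable ((AlgSp.yon S).map (ci t)) :=
        ((AlgSp.repWith_yon_map_iff @Flat (ci t)).2 h1).rep
      exact ⟨(AlgSpTopo.locP_iff_repWith AlgSpTopo.etaleLocal_flat (AlgSp.IsAlgSpace.yon_obj _) hU _ hrep).2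
          ((AlgSp.repWith_yon_map_iff @Flat (ci t)).2 h1),
        (AlgSpTopo.locP_iff_repWith AlgSpTopo.etaleLocal_locallyOfFinitePresentation (AlgSp.IsAlgSpace.yon_obj _) hU _ hrep).2
          ((AlgSp.repWith_yon_map_iff @LocallyOfFinitePresentation (ci t)).2 h2)⟩
    · obtain ⟨t, rfl⟩ := AlgSpTopo.ofScheme_surjective U x
      obtain ⟨v, hv⟩ := hpt t
      exact ⟨t, AlgSp.Points.ofScheme (Vi t) v, by rw [AlgSpTopo.map_ofScheme]; exact congrArg _ hv⟩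
  refine (hP (fun t => (AlgSp.yon S).obj (Vi t)) _ hU (fun t => AlgSp.IsAlgSpace.yon_obj _) hcov π F.property
    (fun t => pullback π ((AlgSp.yon S).map (ci t))) (fun t => pullback.snd _ _) (fun t => pullback.fst _ _)
    (fun t => AlgSpTopo.isAlgSpace_pullback F.property hU (AlgSp.IsAlgSpace.yon_obj _) _ _)
    (fun t => IsPullback.of_hasPullback _ _)).2 fun t => ?_
  obtain ⟨z, ⟨iz⟩⟩ := hz (ci t) (hci t)
  obtain ⟨Ψ, hΨ, p1⟩ := paste_fst' z g f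
  have d1 : Data P (fpFst (BasedFunctor.comp z g) f) := Data.pull hΨ (eqToIso p1) (h' (Vi t) z)
  let yt := BasedFunctor.comp (_root_.AlgSt.overMap (ci t)) y
  obtain ⟨Θ, hΘ, q1, -⟩ := transport_fst (BasedFunctor.comp z g) f yt f (BasedFunctor.id _) (BasedFunctor.id _)
    (BasedFunctor.id _) (equiv_id _) (equiv_id _) (id_ff _).1 (id_ff _).2 iz.symm (Iso.refl _)
  have d2 : Data P (fpFst yt f) := Data.pull hΘ (eqToIso q1) d1
  obtain ⟨Ξ, hΞ, r1⟩ := paste_fst' (_root_.AlgSt.overMap (ci t)) y f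
  have d3 : Data P (fpFst (_root_.AlgSt.overMap (ci t)) (fpFst y f)) := Data.push hΞ (eqToIso r1) d2
  obtain ⟨i0⟩ := spMap_iso (BasedFunctor.comp e (fpFst y f))
  obtain ⟨Ω, hΩ, s1, -⟩ := transport_fst (_root_.AlgSt.overMap (ci t)) (fpFst y f)
    (_root_.AlgSt.ofSpMap ((AlgSp.yon S).map (ci t))) (_root_.AlgSt.ofSpMap π) (_root_.AlgSt.toOverCat (Vi t)) e
    (_root_.AlgSt.toOverCat U) (toOver_equiv _) he (equiv_props (toOver_equiv U)).1 (equiv_props (toOver_equiv U)).2.1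
    (eqToIso rfl) i0
  obtain ⟨E, hE, t1, -⟩ := fp_ofPsh ((IsPullback.of_hasPullback π ((AlgSp.yon S).map (ci t))).flip.map
    (sheafToPresheaf (AlgSp.J S) _))
  have d4 : Data P (BasedFunctor.comp (fpFst (_root_.AlgSt.ofSpMap ((AlgSp.yon S).map (ci t))) (_root_.AlgSt.ofSpMap π))
      (_root_.AlgSt.toOverCat (Vi t))) := Data.pull hΩ (eqToIso s1) d3
  have d5 : Data P (BasedFunctor.comp (_root_.AlgSt.ofSpMap (pullback.snd π ((AlgSp.yon S).map (ci t))))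
      (_root_.AlgSt.toOverCat (Vi t))) :=
    Data.pull (q := BasedFunctor.comp (fpFst (_root_.AlgSt.ofSpMap ((AlgSp.yon S).map (ci t))) (_root_.AlgSt.ofSpMap π))
      (_root_.AlgSt.toOverCat (Vi t))) hE
      (eqToIso (congrArg (fun k => BasedFunctor.comp k (_root_.AlgSt.toOverCat (Vi t))) t1 :)) d4
  obtain ⟨F', k, hk, hPk⟩ := d5
  let m : F'.obj ⟶ pullback π ((AlgSp.yon S).map (ci t)) := ObjectProperty.homMk (toMap k)
  haveI : IsIso ((sheafToPresheaf (AlgSp.J S) _).map m) := isIso_toMap hk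
  haveI : IsIso m := isIso_of_reflects_iso m (sheafToPresheaf (AlgSp.J S) _)
  rw [spMap_after k (BasedFunctor.comp (_root_.AlgSt.ofSpMap (pullback.snd π ((AlgSp.yon S).map (ci t))))
    (_root_.AlgSt.toOverCat (Vi t))) _ (Iso.refl _), spMap_ofMap] at hPk
  have := hg0.iso_left F'.property (AlgSp.IsAlgSpace.yon_obj _) (inv m) _ hPk
  rwa [IsIso.inv_hom_id_assoc] at this

end Groth.Agent.H7.AlgSt
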