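import Groth.Prelude.Def_AlgSt4
import Groth.Agent.H7.AlgSt.More

/-! Points of categories over schemes. -/

set_option autoImplicit false
set_option backward.isDefEq.respectTransparency false
set_option backward.isDefEq.respectTransparency.types false

universe w v v₂ v₃ u₂ u₃ u

open CategoryTheory CategoryTheory.Limits CategoryTheory.Functor AlgebraicGeometry FibCat Opposite
open Groth.Agent.LeadFibCat Groth.Agent.H7.Stk.Glue Groth.Agent.H7.Stk.Congr

namespace Groth.Agent.H7.AlgSt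

variable {S : Scheme.{u}}

theorem amalg {K₁ K₂ L : Type u} [Field K₁] [Field K₂] [Field L] {w₁ : Spec (CommRingCat.of K₁) ⟶ S}
    {w₂ : Spec (CommRingCat.of K₂) ⟶ S} {w : Spec (CommRingCat.of L) ⟶ S}
    (b₁ : Over.mk w₁ ⟶ Over.mk w) (b₂ : Over.mk w₂ ⟶ Over.mk w) :
    ∃ (Ω : Type u) (_ : Field Ω) (v : Spec (CommRingCat.of Ω) ⟶ S) (d₁ : Over.mk v ⟶ Over.mk w₁)
      (d₂ : Over.mk v ⟶ Over.mk w₂), d₁ ≫ b₁ = d₂ ≫ b₂ := by
  obtain ⟨Ω, _, i₁, i₂, hi⟩ :=
    AlgSp.FieldPt.exists_amalgamation (Spec.preimage b₁.left).hom (Spec.preimage b₂.left).hom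
  have hL : Spec.map (CommRingCat.ofHom i₁) ≫ b₁.left = Spec.map (CommRingCat.ofHom i₂) ≫ b₂.left := by
    conv_lhs => rw [← Spec.map_preimage b₁.left]
    conv_rhs => rw [← Spec.map_preimage b₂.left]
    rw [← Spec.map_comp, ← Spec.map_comp]
    congr 1
    exact CommRingCat.hom_ext hi
  have e₁ : b₁.left ≫ w = w₁ := Over.w b₁
  have e₂ : b₂.left ≫ w = w₂ := Over.w b₂
  let v : Spec (CommRingCat.of Ω) ⟶ S := Spec.map (CommRingCat.ofHom i₁) ≫ w₁
  have hw : Spec.map (CommRingCat.ofHom i₂) ≫ w₂ = v := by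
    change _ = Spec.map (CommRingCat.ofHom i₁) ≫ w₁
    rw [← e₁, ← e₂, ← Category.assoc, ← Category.assoc, hL]
  let d₁ : Over.mk v ⟶ Over.mk w₁ := Over.homMk (Spec.map (CommRingCat.ofHom i₁)) rfl
  let d₂ : Over.mk v ⟶ Over.mk w₂ := Over.homMk (Spec.map (CommRingCat.ofHom i₂)) hw
  exact ⟨Ω, inferInstance, v, d₁, d₂, Over.OverMorphism.ext (by simpa [d₁, d₂] using hL)⟩

section FibGrpd

variable {𝒳 : BasedCategory.{v, w} (Over S)}

/-- the morphism of spectra under a morphism of field-valued points -/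
noncomputable abbrev homOf {p q : _root_.AlgSt.FPt 𝒳} (φ : p.obj ⟶ q.obj) : Over.mk p.str ⟶ Over.mk q.str :=
  CategoryTheory.eqToHom p.lies.symm ≫ 𝒳.p.map φ ≫ CategoryTheory.eqToHom q.lies

/-- pullback of a field-valued point -/
theorem exists_pullPt (h : IsFibGrpd 𝒳.p) (p : _root_.AlgSt.FPt 𝒳) {K : Type u} [Field K]
    {str : Spec (CommRingCat.of K) ⟶ S} (d : Over.mk str ⟶ Over.mk p.str) :
    ∃ (z : 𝒳.obj) (ez : 𝒳.p.obj z = Over.mk str) (φ : z ⟶ p.obj),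
      𝒳.p.map φ = CategoryTheory.eqToHom ez ≫ d ≫ CategoryTheory.eqToHom p.lies.symm := by
  obtain ⟨z, φ, ez, hφ⟩ := exists_lift' h (x := p.obj) (d ≫ CategoryTheory.eqToHom p.lies.symm)
  exact ⟨z, ez, φ, hφ⟩

theorem rel_equivalence (h : IsFibGrpd 𝒳.p) : _root_.Equivalence (@_root_.AlgSt.FPt.Rel S 𝒳) where
  refl p := ⟨p, 𝟙 _, 𝟙 _, trivial⟩
  symm := fun ⟨r, a, b, _⟩ => ⟨r, b, a, trivial⟩
  trans := fun {p q t} ⟨r, a, b, _⟩ ⟨r', b', c, _⟩ => by
    obtain ⟨Ω, _, v, d₁, d₂, hd⟩ := amalg (homOf b) (homOf b')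
    obtain ⟨z, ez, φ, hφ⟩ := exists_pullPt h r d₁
    obtain ⟨z', ez', φ', hφ'⟩ := exists_pullPt h r' d₂
    obtain ⟨θ, -, -⟩ := sc_iso (h.isStronglyCartesian (φ ≫ b)) (h.isStronglyCartesian (φ' ≫ b'))
      (ez.trans ez'.symm) (by
        have h2 : d₁ ≫ CategoryTheory.eqToHom r.lies.symm ≫ 𝒳.p.map b =
            d₂ ≫ CategoryTheory.eqToHom r'.lies.symm ≫ 𝒳.p.map b' := by
          have := congrArg (· ≫ CategoryTheory.eqToHom q.lies.symm) hd
          simpa [homOf] using this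
        simp only [Functor.map_comp, hφ, hφ', Category.assoc, h2, eqToHom_trans_assoc])
    exact ⟨{ K := Ω, str := v, obj := z, lies := ez }, φ ≫ a, θ.hom ≫ φ' ≫ c, trivial⟩

theorem mk_eq_iff (h : IsFibGrpd 𝒳.p) {p q : _root_.AlgSt.FPt 𝒳}
    (e : _root_.AlgSt.Points.mk p = _root_.AlgSt.Points.mk q) : _root_.AlgSt.FPt.Rel p q :=
  (rel_equivalence h).eqvGen_iff.1 (Quot.eqvGen_exact e)

end FibGrpd

theorem exists_fp_point {𝒳 𝒴 𝒵 : _root_.AlgSt.Cat S} (h𝒳 : IsFibGrpd 𝒳.p) (h𝒴 : IsFibGrpd 𝒴.p) (h𝒵 : IsFibGrpd 𝒵.p)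
    (f : 𝒳 ⥤ᵇ 𝒴) (g : 𝒵 ⥤ᵇ 𝒴) (z : _root_.AlgSt.Points 𝒵) (x : _root_.AlgSt.Points 𝒳)
    (e : _root_.AlgSt.Points.map g z = _root_.AlgSt.Points.map f x) :
    ∃ w : _root_.AlgSt.Points (fp g f),
      _root_.AlgSt.Points.map (fpFst g f) w = z ∧ _root_.AlgSt.Points.map (fpSnd g f) w = x := by
  obtain ⟨p, rfl⟩ := _root_.AlgSt.Points.mk_surjective z
  obtain ⟨q, rfl⟩ := _root_.AlgSt.Points.mk_surjective x
  obtain ⟨r, a, b, -⟩ := mk_eq_iff h𝒴 e
  let dp : Over.mk r.str ⟶ Over.mk p.str := homOf (q := p.map g) a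
  let dq : Over.mk r.str ⟶ Over.mk q.str := homOf (q := q.map f) b
  obtain ⟨z', ez', φ, hφ⟩ := exists_pullPt h𝒵 p dp
  obtain ⟨x', ex', ψ, hψ⟩ := exists_pullPt h𝒳 q dq
  obtain ⟨θ₁, hθ₁, -⟩ := sc_iso (h𝒴.isStronglyCartesian (g.map φ)) (h𝒴.isStronglyCartesian a)
    ((pobj g z').trans (ez'.trans r.lies.symm)) (by
      rw [pmap g, hφ]; simp [dp, homOf, _root_.AlgSt.FPt.map])
  obtain ⟨θ₂, hθ₂, -⟩ := sc_iso (h𝒴.isStronglyCartesian (f.map ψ)) (h𝒴.isStronglyCartesian b)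
    ((pobj f x').trans (ex'.trans r.lies.symm)) (by
      rw [pmap f, hψ]; simp [dq, homOf, _root_.AlgSt.FPt.map])
  let w : _root_.AlgSt.FPt (fp g f) :=
    { K := r.K, str := r.str, obj := fpMk z' x' (θ₁ ≪≫ θ₂.symm) (hθ₁.comp hθ₂.symm), lies := ez' }
  exact ⟨_root_.AlgSt.Points.mk w,
    _root_.AlgSt.Points.sound ⟨w.map (fpFst g f), 𝟙 _, φ, trivial⟩,
    _root_.AlgSt.Points.sound ⟨w.map (fpSnd g f), 𝟙 _, ψ, trivial⟩⟩

/-- a map of slices with a property -/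
theorem of_with_overMap {P : MorphismProperty (AlgSp.Sp S)} (hP : Good P) {T U : Over S} (q : T ⟶ U)
    (h : _root_.AlgSt.RepByAlgSpWith P (_root_.AlgSt.overMap q)) : P ((AlgSp.yon S).map q) := by
  let m := (AlgSp.yon S).map q
  have h1 : _root_.AlgSt.RepByAlgSpWith P (_root_.AlgSt.ofSpMap m) :=
    (with_iff (_root_.AlgSt.overMap q) (_root_.AlgSt.ofSpMap m) (_root_.AlgSt.toOverCat T) (_root_.AlgSt.toOverCat U)
      (toOver_equiv T) (toOver_equiv U) (eqToIso rfl)).1 h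
  obtain ⟨E, hE, h2, -⟩ := fp_ofPsh ((IsPullback.of_id_snd (f := m)).map (sheafToPresheaf (AlgSp.J S) _)).flip.flip
  refine with_sp hP h1 ⟨_, AlgSp.IsAlgSpace.yon_obj U⟩ ⟨_, AlgSp.IsAlgSpace.yon_obj T⟩ (_root_.AlgSt.ofSpMap (𝟙 _))
    E hE m ?_
  refine Eq.symm ?_
  refine (congrArg toMap h2).trans ?_
  exact toMap_ofPshMap _

theorem ofChart_congr {𝒳 : _root_.AlgSt.Cat S} {U : Over S} {x y : overCat U ⥤ᵇ 𝒳} (e : x ≅ y) (t : ↥U.left) :
    _root_.AlgSt.Points.ofChart x t = _root_.AlgSt.Points.ofChart y t :=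
  _root_.AlgSt.Points.sound ⟨
    { K := ↥(U.left.residueField t)
      str := U.left.fromSpecResidueField t ≫ U.hom
      obj := x.obj (Over.mk (Over.homMk (U.left.fromSpecResidueField t) rfl :
        Over.mk (U.left.fromSpecResidueField t ≫ U.hom) ⟶ U))
      lies := x.w_obj _ }, 𝟙 _, (app e _).hom, trivial⟩

theorem ofChart_map {𝒳 𝒴 : _root_.AlgSt.Cat S} {U : Over S} (x : overCat U ⥤ᵇ 𝒳) (f : 𝒳 ⥤ᵇ 𝒴) (t : ↥U.left) :
    _root_.AlgSt.Points.map f (_root_.AlgSt.Points.ofChart x t) =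
      _root_.AlgSt.Points.ofChart (BasedFunctor.comp x f) t := rfl

theorem ofChart_overMap {𝒳 : _root_.AlgSt.Cat S} {T U : Over S} (q : T ⟶ U) (c : overCat U ⥤ᵇ 𝒳) (t : ↥T.left) :
    _root_.AlgSt.Points.ofChart (BasedFunctor.comp (_root_.AlgSt.overMap q) c) t =
      _root_.AlgSt.Points.ofChart c (q.left t) := by
  let pt : Over.mk (T.left.fromSpecResidueField t ≫ T.hom) ⟶ Over.mk (U.left.fromSpecResidueField (q.left t) ≫ U.hom) :=
    Over.homMk (Spec.map (q.left.residueFieldMap t)) (by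
      show Spec.map (q.left.residueFieldMap t) ≫ U.left.fromSpecResidueField (q.left t) ≫ U.hom = _
      rw [Scheme.Hom.SpecMap_residueFieldMap_fromSpecResidueField_assoc, Over.w q]
      rfl)
  let a : Over U := Over.mk ((Over.homMk (T.left.fromSpecResidueField t) rfl :
    Over.mk (T.left.fromSpecResidueField t ≫ T.hom) ⟶ T) ≫ q)
  let b : Over U := Over.mk (Over.homMk (U.left.fromSpecResidueField (q.left t)) rfl :
    Over.mk (U.left.fromSpecResidueField (q.left t) ≫ U.hom) ⟶ U)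
  let m : a ⟶ b := Over.homMk pt (Over.OverMorphism.ext (by
    show Spec.map (q.left.residueFieldMap t) ≫ U.left.fromSpecResidueField (q.left t) =
      T.left.fromSpecResidueField t ≫ q.left
    exact Scheme.Hom.SpecMap_residueFieldMap_fromSpecResidueField _ _))
  exact _root_.AlgSt.Points.sound
    ⟨{ K := ↥(T.left.residueField t), str := T.left.fromSpecResidueField t ≫ T.hom, obj := c.obj a, lies := c.w_obj a },
      𝟙 _, c.map m, trivial⟩

theorem surjective_left {T U : Over S} (q : T ⟶ U) (h : AlgSp.IsSurjectiveMor ((AlgSp.yon S).map q)) :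
    Function.Surjective q.left := fun u => by
  obtain ⟨z, hz⟩ := h (AlgSp.Points.ofScheme U u)
  obtain ⟨t, rfl⟩ := AlgSpTopo.ofScheme_surjective T z
  rw [AlgSpTopo.map_ofScheme] at hz
  exact ⟨t, (AlgSp.Points.schemeEquiv U).injective hz⟩

/-- every chart is continuous -/
theorem continuous_ofChart {𝒴 : _root_.AlgSt.Cat S} (h𝒴 : _root_.AlgSt.IsAlgStack Scheme.fppfPrecoverage 𝒴)
    {U : Over S} (c : overCat U ⥤ᵇ 𝒴) : Continuous (_root_.AlgSt.Points.ofChart c) := by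
  refine ⟨fun W hW => ?_⟩
  obtain ⟨V, y, hy, hy'⟩ := h𝒴.atlas
  have hA : _root_.AlgSt.RepByAlgSp (fp c y) := rep1_of_with hy U c
  have hA' := isFibGrpd_of_rep hA
  obtain ⟨Z, e, he⟩ := hA
  obtain ⟨T, t, ht, hts⟩ := Z.property.atlas
  let x := BasedFunctor.comp (_root_.AlgSt.ofOverCat T) (BasedFunctor.comp (_root_.AlgSt.ofSpMap t) e)
  have hc := with_chart good_smooth Z e he t
    (AlgSpTopo.smooth_of_isEtaleMor (AlgSp.isEtaleMor_of_repWith t ht))
  have hc' := with_chart good_surjective Z e he t (AlgSpTopo.surjective_of_repWith hts)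
  have h1 := with_comp good_smooth comp_smooth (isFibGrpd_overCat T) hA' x _ hc (with_fpFst y c hy)
  have h2 := with_comp good_surjective comp_surjective (isFibGrpd_overCat T) hA' x _ hc' (with_fpFst y c hy')
  obtain ⟨q, ⟨iq⟩⟩ := exists_overMap (BasedFunctor.comp x (fpFst c y))
  obtain ⟨a, ⟨ia⟩⟩ := exists_overMap (BasedFunctor.comp x (fpSnd c y))
  have h1' := (with_iff (_root_.AlgSt.overMap q) (BasedFunctor.comp x (fpFst c y)) (BasedFunctor.id _)
    (BasedFunctor.id _) (equiv_id _) (equiv_id _) iq).2 h1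
  have h2' := (with_iff (_root_.AlgSt.overMap q) (BasedFunctor.comp x (fpFst c y)) (BasedFunctor.id _)
    (BasedFunctor.id _) (equiv_id _) (equiv_id _) iq).2 h2
  haveI : Smooth q.left := AlgSp.locP_yon_map (of_with_overMap good_smooth q h1')
  have hsur := surjective_left q (of_with_overMap good_surjective q h2')
  let i : BasedFunctor.comp (fpFst c y) c ≅ BasedFunctor.comp (fpSnd c y) y :=
    isoMk (fun w => w.obj.iso) (fun φ => φ.hom.w) (fun w => fp_vert w)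
  let j : BasedFunctor.comp (_root_.AlgSt.overMap q) c ≅ BasedFunctor.comp (_root_.AlgSt.overMap a) y :=
    whiskR iq.symm c ≪≫ whiskL x i ≪≫ whiskR ia y
  have key : q.left ⁻¹' (_root_.AlgSt.Points.ofChart c ⁻¹' W) = a.left ⁻¹' (_root_.AlgSt.Points.ofChart y ⁻¹' W) := by
    ext s
    show _root_.AlgSt.Points.ofChart c (q.left s) ∈ W ↔ _root_.AlgSt.Points.ofChart y (a.left s) ∈ W
    rw [← ofChart_overMap, ← ofChart_overMap, ofChart_congr j]
  have hopen : IsOpen (q.left ⁻¹' (_root_.AlgSt.Points.ofChart c ⁻¹' W)) := by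
    rw [key]
    exact (hW V y hy).preimage a.left.continuous
  rw [← Set.image_preimage_eq (_root_.AlgSt.Points.ofChart c ⁻¹' W) hsur]
  exact q.left.isOpenMap _ hopen

theorem continuous_map {𝒳 𝒴 : _root_.AlgSt.Cat S} (h𝒴 : _root_.AlgSt.IsAlgStack Scheme.fppfPrecoverage 𝒴)
    (f : 𝒳 ⥤ᵇ 𝒴) : Continuous (_root_.AlgSt.Points.map f) :=
  ⟨fun _ hW _ x _ => hW.preimage (continuous_ofChart h𝒴 (BasedFunctor.comp x f))⟩

end Groth.Agent.H7.AlgSt
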