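import Groth.Prelude.Def_AlgSt3
import Groth.Agent.H7.AlgSt.Points
import Groth.Agent.AlgSpTopo.SpProps
import Groth.Agent.S10531
import Groth.Agent.S10533
import Groth.Agent.S10534
import Groth.Agent.S10539
import Groth.Agent.S10540

/-! Compositions, base changes and diagonals for properties of morphisms of stacks. -/

set_option autoImplicit false
set_option backward.isDefEq.respectTransparency false
set_option backward.isDefEq.respectTransparency.types false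

universe w v v₂ v₃ u₂ u₃ u

open CategoryTheory CategoryTheory.Limits CategoryTheory.Functor AlgebraicGeometry FibCat Opposite
open Groth.Agent.LeadFibCat Groth.Agent.H7.Stk.Glue Groth.Agent.H7.Stk.Congr

namespace Groth.Agent.H7.AlgSt

variable {S : Scheme.{u}}

theorem good_top : Good (⊤ : MorphismProperty (AlgSp.Sp S)) where
  bc := fun _ _ _ _ _ _ _ _ _ _ _ _ _ _ => trivial
  desc := fun _ _ _ _ _ _ _ _ _ _ _ _ _ _ _ => trivial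

theorem with_mono_prop {P Q : MorphismProperty (AlgSp.Sp S)}
    (h : ∀ ⦃X Y : AlgSp.Sp S⦄, AlgSp.IsAlgSpace X → AlgSp.IsAlgSpace Y → ∀ a : X ⟶ Y, P a → Q a)
    {𝒳 𝒴 : _root_.AlgSt.Cat S} {f : 𝒳 ⥤ᵇ 𝒴} (hf : _root_.AlgSt.RepByAlgSpWith P f) :
    _root_.AlgSt.RepByAlgSpWith Q f := fun U y => by
  obtain ⟨F, e, he, hP⟩ := hf U y
  exact ⟨F, e, he, h F.property (AlgSp.IsAlgSpace.yon_obj U) _ hP⟩

theorem rep1_comp {𝒳 𝒴 𝒵 : _root_.AlgSt.Cat S} (h𝒳 : IsFibGrpd 𝒳.p) (h𝒴 : IsFibGrpd 𝒴.p) (f : 𝒳 ⥤ᵇ 𝒴) (g : 𝒴 ⥤ᵇ 𝒵)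
    (hf : _root_.AlgSt.RepByAlgSp1 f) (hg : _root_.AlgSt.RepByAlgSp1 g) :
    _root_.AlgSt.RepByAlgSp1 (BasedFunctor.comp f g) := by
  have top : ∀ {𝒜 ℬ : _root_.AlgSt.Cat S} {k : 𝒜 ⥤ᵇ ℬ}, _root_.AlgSt.RepByAlgSp1 k →
      _root_.AlgSt.RepByAlgSpWith (⊤ : MorphismProperty (AlgSp.Sp S)) k := fun h U y => by
    obtain ⟨F, e, he⟩ := h U y
    exact ⟨F, e, he, trivial⟩
  exact rep1_of_with (with_comp good_top (fun _ _ _ _ _ _ _ _ _ _ => trivial) h𝒳 h𝒴 f g (top hf) (top hg))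

/-- representable fully faithful morphisms are monomorphisms -/
theorem isMono_of_ff {𝒳 𝒴 : _root_.AlgSt.Cat S} (f : 𝒳 ⥤ᵇ 𝒴) (hf : _root_.AlgSt.RepByAlgSp1 f)
    (hfull : ∀ {a b : 𝒳.obj} (ψ : f.obj a ⟶ f.obj b), ∃ φ, f.map φ = ψ)
    (hfaith : ∀ {a b : 𝒳.obj} (φ φ' : a ⟶ b), f.map φ = f.map φ' → φ = φ') : _root_.AlgSt.IsMono f := by
  intro U y
  obtain ⟨F, e, he⟩ := hf U y
  refine ⟨F, e, he, ?_⟩
  let m := _root_.AlgSt.spMapOfOver (BasedFunctor.comp e (fpFst y f))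
  show Mono m
  haveI : ∀ T, Mono (m.hom.app T) := fun T => by
    obtain ⟨T⟩ := T
    refine (mono_iff_injective _).2 fun s s' h => ?_
    let a : (_root_.AlgSt.ofSp F.obj).obj := ⟨T, s⟩
    let b : (_root_.AlgSt.ofSp F.obj).obj := ⟨T, s'⟩
    have h0 : _root_.AlgSt.secHom (BasedFunctor.comp e (fpFst y f)) a =
        _root_.AlgSt.secHom (BasedFunctor.comp e (fpFst y f)) b := congrArg ULift.down h
    let A := e.obj a
    let B := e.obj b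
    have hbase : A.obj.fst.left = B.obj.fst.left := (pobj e a).trans (pobj e b).symm
    let i : A.obj.fst ≅ B.obj.fst := Over.isoMk (CategoryTheory.eqToIso (C := Over S) hbase) (by
      have h1 : CategoryTheory.eqToHom (C := Over S) (pobj e a).symm ≫ A.obj.fst.hom =
          CategoryTheory.eqToHom (C := Over S) (pobj e b).symm ≫ B.obj.fst.hom := h0
      show CategoryTheory.eqToHom (C := Over S) hbase ≫ B.obj.fst.hom = A.obj.fst.hom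
      rw [← cancel_epi (CategoryTheory.eqToHom (C := Over S) (pobj e a).symm), h1]
      simp)
    obtain ⟨θ, hθ⟩ := hfull (A.obj.iso.inv ≫ y.map i.hom ≫ B.obj.iso.hom)
    let ψ : A ⟶ B := fpHom i.hom θ (by rw [hθ, Iso.hom_inv_id_assoc])
    obtain ⟨φ, hφ⟩ := (equiv_props he).1 ψ
    have hv : Vert (fp y f).p (e.map φ) := by
      rw [hφ]
      exact ⟨hbase, rfl⟩
    have hvφ : Vert (_root_.AlgSt.ofSp F.obj).p φ := Vert.reflect hv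
    have hh : φ.hom = 𝟙 T := hvφ.map_eq
    have hs := φ.map_sec
    rw [hh] at hs
    exact hs.symm.trans (show F.obj.obj.map (𝟙 T).op s' = s' by simp)
  haveI : Mono m.hom := NatTrans.mono_of_mono_app _
  exact (sheafToPresheaf (AlgSp.J S) _).mono_of_mono_map (f := m) ‹Mono m.hom›

theorem isMono_comp {𝒳 𝒴 𝒵 : _root_.AlgSt.Cat S} (h𝒳 : IsFibGrpd 𝒳.p) (h𝒴 : IsFibGrpd 𝒴.p) (h𝒵 : IsFibGrpd 𝒵.p)
    (f : 𝒳 ⥤ᵇ 𝒴) (g : 𝒴 ⥤ᵇ 𝒵) (hf : _root_.AlgSt.IsMono f) (hg : _root_.AlgSt.IsMono g) :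
    _root_.AlgSt.IsMono (BasedFunctor.comp f g) := by
  refine isMono_of_ff _ (rep1_comp h𝒳 h𝒴 f g (rep1_of_with hf) (rep1_of_with hg)) (fun ψ => ?_) (fun φ φ' e => ?_)
  · obtain ⟨ψ', h1⟩ := mono_full h𝒴 h𝒵 g hg ψ
    obtain ⟨φ, h2⟩ := mono_full h𝒳 h𝒴 f hf ψ'
    exact ⟨φ, (congrArg g.map h2).trans h1⟩
  · exact faithful_of_rep1 h𝒳 h𝒴 f (rep1_of_with hf) _ _ (faithful_of_rep1 h𝒴 h𝒵 g (rep1_of_with hg) _ _ e)

theorem good_fpqc {P : MorphismProperty (AlgSp.Sp S)}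
    (hbc : ∀ ⦃X₁ Y₁ X₂ Y₂ : AlgSp.Sp S⦄, AlgSp.IsAlgSpace X₁ → AlgSp.IsAlgSpace Y₁ → AlgSp.IsAlgSpace X₂ →
      AlgSp.IsAlgSpace Y₂ → ∀ (a : X₁ ⟶ Y₁) (b : Y₂ ⟶ Y₁) (a' : X₂ ⟶ Y₂) (b' : X₂ ⟶ X₁),
      IsPullback b' a' a b → P a → P a')
    (hloc : AlgSp.IsLocalOnBase (AlgSp.IsFpqcCover (S := S)) P) : Good P where
  bc := hbc
  desc := fun X Y W V f t p q hX hY hW ht hts sq hp =>
    (hloc (ι := PUnit) (fun _ => (AlgSp.yon S).obj V) (fun _ => t) hY (fun _ => AlgSp.IsAlgSpace.yon_obj V)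
      (AlgSpTopo.fpqc_of_etale hY (fun _ => AlgSp.IsAlgSpace.yon_obj V) _ (fun _ => ht)
        fun y => ⟨PUnit.unit, AlgSpTopo.surjective_of_repWith hts y⟩)
      f hX (fun _ => W) (fun _ => p) (fun _ => q) (fun _ => hW) (fun _ => sq)).2 fun _ => hp

theorem repWith_good (R : MorphismProperty Scheme.{u}) [R.IsStableUnderBaseChange]
    (hloc : AlgSp.IsLocalOnBase (AlgSp.IsFpqcCover (S := S)) (AlgSp.RepWith R)) : Good (S := S) (AlgSp.RepWith R) :=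
  good_fpqc (fun _ _ _ _ _ _ _ _ a _ a' _ sq h => MorphismProperty.of_isPullback (P := AlgSp.RepWith R) sq h) hloc

/-- the shape of affine, integral and finite morphisms -/
def RelAff (Q : ∀ {W Z : Scheme.{u}}, (W ⟶ Z) → Prop) : MorphismProperty (AlgSp.Sp S) := fun F G f =>
  ∀ ⦃Z : Over S⦄, IsAffine Z.left → ∀ (g : (AlgSp.yon S).obj Z ⟶ G),
    ∃ (W : Over S) (i : W ⟶ Z) (fst : (AlgSp.yon S).obj W ⟶ F),
      IsPullback fst ((AlgSp.yon S).map i) f g ∧ Q i.left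

theorem relAff_bc (Q : ∀ {W Z : Scheme.{u}}, (W ⟶ Z) → Prop) {X₁ Y₁ X₂ Y₂ : AlgSp.Sp S} (a : X₁ ⟶ Y₁)
    (b : Y₂ ⟶ Y₁) (a' : X₂ ⟶ Y₂) (b' : X₂ ⟶ X₁) (sq : IsPullback b' a' a b) (h : RelAff @Q a) : RelAff @Q a' := by
  intro Z hZ g
  obtain ⟨W, i, fst, sqW, hQ⟩ := h hZ (g ≫ b)
  obtain ⟨l, hl1, hl2⟩ := sq.exists_lift fst ((AlgSp.yon S).map i ≫ g) (by rw [Category.assoc]; exact sqW.w)
  exact ⟨W, i, l, IsPullback.of_right (by rw [hl1]; exact sqW) hl2 sq, hQ⟩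

theorem relAff_comp (Q : ∀ {W Z : Scheme.{u}}, (W ⟶ Z) → Prop)
    (haff : ∀ {W Z : Scheme.{u}} (i : W ⟶ Z), IsAffine Z → Q i → IsAffine W)
    (hcomp : ∀ {A B C : Scheme.{u}} (i : A ⟶ B) (j : B ⟶ C), Q i → Q j → Q (i ≫ j))
    {X Y Z' : AlgSp.Sp S} (a : X ⟶ Y) (b : Y ⟶ Z') (ha : RelAff @Q a) (hb : RelAff @Q b) : RelAff @Q (a ≫ b) := by
  intro Z hZ g
  obtain ⟨W, i, fst, sqW, hQ⟩ := hb hZ g
  obtain ⟨W', i', fst', sqW', hQ'⟩ := ha (haff i.left hZ hQ) fst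
  refine ⟨W', i' ≫ i, fst', ?_, ?_⟩
  · rw [Functor.map_comp]; exact sqW'.paste_vert sqW
  · exact hcomp i'.left i.left hQ' hQ

theorem isAffineMor_eq : (AlgSp.IsAffineMor : MorphismProperty (AlgSp.Sp S)) = RelAff (fun {W _} _ => IsAffine W) := rfl

theorem isIntegralMor_eq : (AlgSp.IsIntegralMor : MorphismProperty (AlgSp.Sp S)) =
    RelAff (fun {W _} i => IsAffine W ∧ IsIntegralHom i) := rfl

theorem isFiniteMor_eq : (AlgSp.IsFiniteMor : MorphismProperty (AlgSp.Sp S)) =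
    RelAff (fun {W _} i => IsAffine W ∧ IsFinite i) := rfl

theorem good_affine : Good (S := S) AlgSp.IsAffineMor :=
  good_fpqc (fun _ _ _ _ _ _ _ _ a b a' b' sq h => relAff_bc (fun {W _} _ => IsAffine W) a b a' b' sq h)
    (Groth.Agent.S10533.result S)

theorem good_integral : Good (S := S) AlgSp.IsIntegralMor :=
  good_fpqc (fun _ _ _ _ _ _ _ _ a b a' b' sq h => relAff_bc (fun {W _} i => IsAffine W ∧ IsIntegralHom i) a b a' b' sq h)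
    (Groth.Agent.S10539.result S)

theorem good_finite : Good (S := S) AlgSp.IsFiniteMor :=
  good_fpqc (fun _ _ _ _ _ _ _ _ a b a' b' sq h => relAff_bc (fun {W _} i => IsAffine W ∧ IsFinite i) a b a' b' sq h)
    (Groth.Agent.S10540.result S)

theorem comp_affine ⦃X Y Z : AlgSp.Sp S⦄ (_ : AlgSp.IsAlgSpace X) (_ : AlgSp.IsAlgSpace Y) (_ : AlgSp.IsAlgSpace Z)
    (a : X ⟶ Y) (b : Y ⟶ Z) (ha : AlgSp.IsAffineMor a) (hb : AlgSp.IsAffineMor b) : AlgSp.IsAffineMor (a ≫ b) :=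
  relAff_comp (fun {W _} _ => IsAffine W) (fun _ _ h => h) (fun _ _ h _ => h) a b ha hb

theorem comp_integral ⦃X Y Z : AlgSp.Sp S⦄ (_ : AlgSp.IsAlgSpace X) (_ : AlgSp.IsAlgSpace Y) (_ : AlgSp.IsAlgSpace Z)
    (a : X ⟶ Y) (b : Y ⟶ Z) (ha : AlgSp.IsIntegralMor a) (hb : AlgSp.IsIntegralMor b) : AlgSp.IsIntegralMor (a ≫ b) :=
  relAff_comp (fun {W _} i => IsAffine W ∧ IsIntegralHom i) (fun _ _ h => h.1)
    (fun i j h h' => ⟨h.1, have := h.2; have := h'.2; inferInstance⟩) a b ha hb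

theorem comp_finite ⦃X Y Z : AlgSp.Sp S⦄ (_ : AlgSp.IsAlgSpace X) (_ : AlgSp.IsAlgSpace Y) (_ : AlgSp.IsAlgSpace Z)
    (a : X ⟶ Y) (b : Y ⟶ Z) (ha : AlgSp.IsFiniteMor a) (hb : AlgSp.IsFiniteMor b) : AlgSp.IsFiniteMor (a ≫ b) :=
  relAff_comp (fun {W _} i => IsAffine W ∧ IsFinite i) (fun _ _ h => h.1)
    (fun i j h h' => ⟨h.1, have := h.2; have := h'.2; inferInstance⟩) a b ha hb

/-- the map of double fibre products induced by a base change -/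
noncomputable def diagBC {𝒳 𝒴 𝒴' : _root_.AlgSt.Cat S} (f : 𝒳 ⥤ᵇ 𝒴) (g : 𝒴' ⥤ᵇ 𝒴) :
    fp (fpFst g f) (fpFst g f) ⥤ᵇ fp f f :=
    lift' (BasedFunctor.comp (fpFst (fpFst g f) (fpFst g f)) (fpSnd g f)) (BasedFunctor.comp (fpSnd (fpFst g f) (fpFst g f)) (fpSnd g f))
      (fun w => w.obj.fst.obj.iso.symm ≪≫ g.toFunctor.mapIso w.obj.iso ≪≫ w.obj.snd.obj.iso)
      (fun {w w'} φ => by
        have h1 : g.map φ.hom.fst.hom.fst ≫ w'.obj.fst.obj.iso.hom =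
            w.obj.fst.obj.iso.hom ≫ f.map φ.hom.fst.hom.snd := φ.hom.fst.hom.w
        have h2 : g.map φ.hom.snd.hom.fst ≫ w'.obj.snd.obj.iso.hom =
            w.obj.snd.obj.iso.hom ≫ f.map φ.hom.snd.hom.snd := φ.hom.snd.hom.w
        have h3 : g.map φ.hom.fst.hom.fst ≫ g.map w'.obj.iso.hom = g.map w.obj.iso.hom ≫ g.map φ.hom.snd.hom.fst := by
          rw [← g.toFunctor.map_comp, ← g.toFunctor.map_comp]; exact congrArg g.map φ.hom.w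
        show f.map φ.hom.fst.hom.snd ≫ w'.obj.fst.obj.iso.inv ≫ g.map w'.obj.iso.hom ≫ w'.obj.snd.obj.iso.hom =
          (w.obj.fst.obj.iso.inv ≫ g.map w.obj.iso.hom ≫ w.obj.snd.obj.iso.hom) ≫ f.map φ.hom.snd.hom.snd
        have h1' : f.map φ.hom.fst.hom.snd ≫ w'.obj.fst.obj.iso.inv =
            w.obj.fst.obj.iso.inv ≫ g.map φ.hom.fst.hom.fst := by
          rw [Iso.eq_inv_comp, ← Category.assoc, Iso.comp_inv_eq]; exact h1.symm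
        rw [reassoc_of% h1', reassoc_of% h3, h2]
        simp only [Category.assoc])
      (fun w => (fp_vert w.obj.fst).symm.comp ((fp_vert w).map.comp (fp_vert w.obj.snd)))

theorem diag_fpFst_fp {𝒳 𝒴 𝒴' : _root_.AlgSt.Cat S} (f : 𝒳 ⥤ᵇ 𝒴) (g : 𝒴' ⥤ᵇ 𝒴) {U : Over S}
    (y : overCat U ⥤ᵇ fp (fpFst g f) (fpFst g f)) :
    ∃ Φ : fp y (diag (fpFst g f)) ⥤ᵇ fp (BasedFunctor.comp y (diagBC f g)) (diag f),
      IsEquivOver Φ ∧ Nonempty (BasedFunctor.comp Φ (fpFst (BasedFunctor.comp y (diagBC f g)) (diag f)) ≅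
        fpFst y (diag (fpFst g f))) := by
  let p := fpFst g f
  let q := diagBC f g
  let i1 : ∀ w : (fp y (diag p)).obj, (y.obj w.obj.fst).obj.fst ≅ w.obj.snd := fun w =>
    (CategoricalPullback.π₁ _ _).mapIso ((fpProp _ _).ι.mapIso w.obj.iso)
  let i2 : ∀ w : (fp y (diag p)).obj, (y.obj w.obj.fst).obj.snd ≅ w.obj.snd := fun w =>
    (CategoricalPullback.π₂ _ _).mapIso ((fpProp _ _).ι.mapIso w.obj.iso)
  let Φ : fp y (diag p) ⥤ᵇ fp (BasedFunctor.comp y q) (diag f) :=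
    lift' (fpFst y (diag p)) (BasedFunctor.comp (fpSnd y (diag p)) (fpSnd g f))
      (fun w => q.toFunctor.mapIso w.obj.iso ≪≫ fpIsoMk (Iso.refl _) (Iso.refl _) (by
        show f.map (𝟙 _) ≫ 𝟙 _ = (w.obj.snd.obj.iso.inv ≫ g.map (𝟙 _) ≫ w.obj.snd.obj.iso.hom) ≫ f.map (𝟙 _)
        rw [f.toFunctor.map_id, g.toFunctor.map_id]
        simp))
      (fun {w w'} φ => by
        refine fp_ext ?_ ?_
        · show (y.map φ.hom.fst).hom.fst.hom.snd ≫ (i1 w').hom.hom.snd ≫ 𝟙 _ =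
            ((i1 w).hom.hom.snd ≫ 𝟙 _) ≫ φ.hom.snd.hom.snd
          have h : (y.map φ.hom.fst).hom.fst.hom.snd ≫ (i1 w').hom.hom.snd = (i1 w).hom.hom.snd ≫ φ.hom.snd.hom.snd :=
            congrArg (fun m => m.hom.fst.hom.snd) φ.hom.w
          simpa using h
        · show (y.map φ.hom.fst).hom.snd.hom.snd ≫ (i2 w').hom.hom.snd ≫ 𝟙 _ =
            ((i2 w).hom.hom.snd ≫ 𝟙 _) ≫ φ.hom.snd.hom.snd
          have h : (y.map φ.hom.fst).hom.snd.hom.snd ≫ (i2 w').hom.hom.snd = (i2 w).hom.hom.snd ≫ φ.hom.snd.hom.snd :=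
            congrArg (fun m => m.hom.snd.hom.snd) φ.hom.w
          simpa using h)
      (fun w => (Vert.map (F := q) (fp_vert w)).comp (Vert.id (p := (fp f f).p) _))
  refine ⟨Φ, isEquivOver_mk Φ (fun {w w'} ψ => ?_) (fun {w w'} φ φ' e => ?_) fun η => ?_, ⟨Iso.refl _⟩⟩
  · let m : w.obj.fst ⟶ w'.obj.fst := ψ.hom.fst
    have c1 : (y.map m).hom.fst.hom.snd ≫ (i1 w').hom.hom.snd = (i1 w).hom.hom.snd ≫ ψ.hom.snd := by
      have h : (y.map m).hom.fst.hom.snd ≫ (i1 w').hom.hom.snd ≫ 𝟙 _ = ((i1 w).hom.hom.snd ≫ 𝟙 _) ≫ ψ.hom.snd :=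
        congrArg (fun k => k.hom.fst) ψ.hom.w
      simpa using h
    have c2 : (y.map m).hom.snd.hom.snd ≫ (i2 w').hom.hom.snd = (i2 w).hom.hom.snd ≫ ψ.hom.snd := by
      have h : (y.map m).hom.snd.hom.snd ≫ (i2 w').hom.hom.snd ≫ 𝟙 _ = ((i2 w).hom.hom.snd ≫ 𝟙 _) ≫ ψ.hom.snd :=
        congrArg (fun k => k.hom.snd) ψ.hom.w
      simpa using h
    let n : w.obj.snd ⟶ w'.obj.snd := (i1 w).inv ≫ (y.map m).hom.fst ≫ (i1 w').hom
    have hn : n.hom.snd = ψ.hom.snd := by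
      show (i1 w).inv.hom.snd ≫ (y.map m).hom.fst.hom.snd ≫ (i1 w').hom.hom.snd = ψ.hom.snd
      rw [c1, ← Category.assoc]
      rw [show (i1 w).inv.hom.snd ≫ (i1 w).hom.hom.snd = 𝟙 _ from
        ((fpSnd g f).toFunctor.mapIso (i1 w)).inv_hom_id]
      exact Category.id_comp _
    have hf1 : (y.map m).hom.fst ≫ (i1 w').hom = (i1 w).hom ≫ n := by simp [n]
    refine ⟨fpHom m n (fp_ext hf1 (fp_ext ?_ ?_)), fp_ext rfl hn⟩
    · show (y.map m).hom.snd.hom.fst ≫ (i2 w').hom.hom.fst = (i2 w).hom.hom.fst ≫ n.hom.fst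
      have k : ∀ v : (fp y (diag p)).obj, (i1 v).hom.hom.fst ≫ 𝟙 _ = (y.obj v.obj.fst).obj.iso.hom ≫ (i2 v).hom.hom.fst :=
        fun v => v.obj.iso.hom.hom.w
      have hy : (y.map m).hom.fst.hom.fst ≫ (y.obj w'.obj.fst).obj.iso.hom =
          (y.obj w.obj.fst).obj.iso.hom ≫ (y.map m).hom.snd.hom.fst := (y.map m).hom.w
      rw [← cancel_epi (y.obj w.obj.fst).obj.iso.hom, ← reassoc_of% hy, ← k, Category.comp_id,
        ← Category.assoc (y.obj w.obj.fst).obj.iso.hom, ← k, Category.comp_id]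
      exact congrArg (fun t => t.hom.fst) hf1
    · show (y.map m).hom.snd.hom.snd ≫ (i2 w').hom.hom.snd = (i2 w).hom.hom.snd ≫ n.hom.snd
      rw [hn]; exact c2
  · have hm : φ.hom.fst = φ'.hom.fst := congrArg (fun k => k.hom.fst) e
    refine fp_ext hm ((cancel_epi (i1 w).hom).1 ?_)
    have a1 : (y.map φ.hom.fst).hom.fst ≫ (i1 w').hom = (i1 w).hom ≫ φ.hom.snd :=
      congrArg (fun k => k.hom.fst) φ.hom.w
    have a2 : (y.map φ'.hom.fst).hom.fst ≫ (i1 w').hom = (i1 w).hom ≫ φ'.hom.snd :=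
      congrArg (fun k => k.hom.fst) φ'.hom.w
    rw [← a1, ← a2, hm]
  · let u := η.obj.fst
    let N := y.obj u
    let z1 := N.obj.fst.obj.fst
    let a : N.obj.fst.obj.snd ≅ η.obj.snd := (CategoricalPullback.π₁ _ _).mapIso ((fpProp _ _).ι.mapIso η.obj.iso)
    let b : N.obj.snd.obj.snd ≅ η.obj.snd := (CategoricalPullback.π₂ _ _).mapIso ((fpProp _ _).ι.mapIso η.obj.iso)
    have ha : Vert 𝒳.p a.hom := (fp_vert η).map (F := fpFst f f)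
    have hb : Vert 𝒳.p b.hom := (fp_vert η).map (F := fpSnd f f)
    have hw : f.map a.hom ≫ 𝟙 _ =
        (N.obj.fst.obj.iso.inv ≫ g.map N.obj.iso.hom ≫ N.obj.snd.obj.iso.hom) ≫ f.map b.hom := η.obj.iso.hom.hom.w
    let n : (fp g f).obj :=
      fpMk z1 η.obj.snd (N.obj.fst.obj.iso ≪≫ f.toFunctor.mapIso a) ((fp_vert N.obj.fst).comp ha.map)
    let j1 : N.obj.fst ≅ n := fpIsoMk (Iso.refl z1) a (by
      show g.map (𝟙 _) ≫ N.obj.fst.obj.iso.hom ≫ f.map a.hom = N.obj.fst.obj.iso.hom ≫ f.map a.hom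
      rw [g.toFunctor.map_id]; exact Category.id_comp _)
    let j2 : N.obj.snd ≅ n := fpIsoMk N.obj.iso.symm b (by
      show g.map N.obj.iso.inv ≫ N.obj.fst.obj.iso.hom ≫ f.map a.hom = N.obj.snd.obj.iso.hom ≫ f.map b.hom
      rw [Category.comp_id] at hw
      rw [hw]
      simp only [Category.assoc, Iso.hom_inv_id_assoc]
      rw [← Category.assoc (g.map N.obj.iso.inv), ← g.toFunctor.map_comp, N.obj.iso.inv_hom_id, g.toFunctor.map_id,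
        Category.id_comp])
    refine ⟨fpMk u n (fpIsoMk j1 j2 (by
        show 𝟙 z1 ≫ 𝟙 _ = N.obj.iso.hom ≫ N.obj.iso.inv
        rw [Iso.hom_inv_id]; exact Category.comp_id _)) (Vert.id (p := 𝒴'.p) z1),
      fpIsoMk (Iso.refl u) (Iso.refl η.obj.snd) (fp_ext ?_ ?_), Vert.id (p := (overCat U).p) u⟩
    · show (y.map (𝟙 u)).hom.fst.hom.snd ≫ a.hom = (a.hom ≫ 𝟙 _) ≫ 𝟙 _
      rw [y.toFunctor.map_id]
      exact (Category.id_comp _).trans ((Category.comp_id _).symm.trans (congrArg (· ≫ 𝟙 _) (Category.comp_id _).symm))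
    · show (y.map (𝟙 u)).hom.snd.hom.snd ≫ b.hom = (b.hom ≫ 𝟙 _) ≫ 𝟙 _
      rw [y.toFunctor.map_id]
      exact (Category.id_comp _).trans ((Category.comp_id _).symm.trans (congrArg (· ≫ 𝟙 _) (Category.comp_id _).symm))

theorem with_diag_fpFst {P : MorphismProperty (AlgSp.Sp S)} {𝒳 𝒴 𝒴' : _root_.AlgSt.Cat S} (f : 𝒳 ⥤ᵇ 𝒴) (g : 𝒴' ⥤ᵇ 𝒴)
    (h : _root_.AlgSt.RepByAlgSpWith P (diag f)) : _root_.AlgSt.RepByAlgSpWith P (diag (fpFst g f)) := by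
  intro U y
  obtain ⟨Φ, hΦ, ⟨ε⟩⟩ := diag_fpFst_fp f g y
  exact Data.pull hΦ ε (h U (BasedFunctor.comp y (diagBC f g)))

theorem points_surjective_of_equiv {𝒳 𝒴 : _root_.AlgSt.Cat S} {Φ : 𝒳 ⥤ᵇ 𝒴} (h : IsEquivOver Φ) :
    Function.Surjective (_root_.AlgSt.Points.map Φ) := fun z => by
  obtain ⟨q, rfl⟩ := _root_.AlgSt.Points.mk_surjective z
  obtain ⟨ξ, e, he⟩ := (equiv_props h).2.2 q.obj
  let p : _root_.AlgSt.FPt 𝒳 :=
    { K := q.K, str := q.str, obj := ξ, lies := ((pobj Φ ξ).symm.trans he.1).trans q.lies }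
  exact ⟨_root_.AlgSt.Points.mk p, _root_.AlgSt.Points.sound ⟨p.map Φ, 𝟙 _, e.hom, trivial⟩⟩

theorem univInj_fpFst {𝒳 𝒴 𝒵 : _root_.AlgSt.Cat S} (f : 𝒳 ⥤ᵇ 𝒴) (g : 𝒵 ⥤ᵇ 𝒴)
    (hf : _root_.AlgSt.IsUnivInjective Scheme.fppfPrecoverage f) :
    _root_.AlgSt.IsUnivInjective Scheme.fppfPrecoverage (fpFst g f) := by
  intro 𝒲 h𝒲 h
  obtain ⟨Φ, hΦ, h1⟩ := paste_fst' h g f
  intro z z' e
  obtain ⟨a, rfl⟩ := points_surjective_of_equiv hΦ z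
  obtain ⟨b, rfl⟩ := points_surjective_of_equiv hΦ z'
  have hc : ∀ c, _root_.AlgSt.Points.map (fpFst h (fpFst g f)) (_root_.AlgSt.Points.map Φ c) =
      _root_.AlgSt.Points.map (fpFst (BasedFunctor.comp h g) f) c := fun c => by
    obtain ⟨c, rfl⟩ := _root_.AlgSt.Points.mk_surjective c
    rw [← h1]; rfl
  rw [hc, hc] at e
  rw [hf 𝒲 h𝒲 (BasedFunctor.comp h g) e]

theorem univInj_comp {𝒳 𝒴 𝒵 : _root_.AlgSt.Cat S} (h𝒴 : _root_.AlgSt.IsAlgStack Scheme.fppfPrecoverage 𝒴)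
    (h𝒵 : _root_.AlgSt.IsAlgStack Scheme.fppfPrecoverage 𝒵) (f : 𝒳 ⥤ᵇ 𝒴) (g : 𝒴 ⥤ᵇ 𝒵)
    (hf : _root_.AlgSt.IsUnivInjective Scheme.fppfPrecoverage f)
    (hg : _root_.AlgSt.IsUnivInjective Scheme.fppfPrecoverage g) :
    _root_.AlgSt.IsUnivInjective Scheme.fppfPrecoverage (BasedFunctor.comp f g) := by
  intro 𝒲 h𝒲 h
  obtain ⟨Φ, hΦ, h1⟩ := fp_of_comp f g h (BasedFunctor.id _) (equiv_id _)
  have hM : _root_.AlgSt.IsAlgStack Scheme.fppfPrecoverage (fp h g) := algStack_fp h𝒵.isStack h𝒵.diag h𝒲 h𝒴 h g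
  intro z z' e
  obtain ⟨a, rfl⟩ := points_surjective_of_equiv hΦ z
  obtain ⟨b, rfl⟩ := points_surjective_of_equiv hΦ z'
  have hc : ∀ c, _root_.AlgSt.Points.map (fpFst h (BasedFunctor.comp f g)) (_root_.AlgSt.Points.map Φ c) =
      _root_.AlgSt.Points.map (fpFst h g) (_root_.AlgSt.Points.map (fpFst (fpSnd h g) f) c) := fun c => by
    obtain ⟨c, rfl⟩ := _root_.AlgSt.Points.mk_surjective c
    show _root_.AlgSt.Points.mk (c.map (BasedFunctor.comp Φ (fpFst h (BasedFunctor.comp f g)))) = _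
    rw [h1]; rfl
  rw [hc, hc] at e
  exact congrArg _ (hf _ hM (fpSnd h g) (hg 𝒲 h𝒲 h e))

theorem points_injective_of_mono {𝒳 𝒴 : _root_.AlgSt.Cat S} (h𝒳 : IsFibGrpd 𝒳.p) (h𝒴 : IsFibGrpd 𝒴.p)
    (f : 𝒳 ⥤ᵇ 𝒴) (hf : _root_.AlgSt.IsMono f) : Function.Injective (_root_.AlgSt.Points.map f) := by
  intro x x' e
  obtain ⟨p, rfl⟩ := _root_.AlgSt.Points.mk_surjective x
  obtain ⟨q, rfl⟩ := _root_.AlgSt.Points.mk_surjective x'
  obtain ⟨r, a, b, -⟩ := mk_eq_iff h𝒴 e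
  let dp : Over.mk r.str ⟶ Over.mk p.str := homOf (q := p.map f) a
  let dq : Over.mk r.str ⟶ Over.mk q.str := homOf (q := q.map f) b
  obtain ⟨p', ep', φ, hφ⟩ := exists_pullPt h𝒳 p dp
  obtain ⟨q', eq', ψ, hψ⟩ := exists_pullPt h𝒳 q dq
  obtain ⟨θ₁, -, -⟩ := sc_iso (h𝒴.isStronglyCartesian (f.map φ)) (h𝒴.isStronglyCartesian a)
    ((pobj f p').trans (ep'.trans r.lies.symm)) (by rw [pmap f, hφ]; simp [dp, homOf, _root_.AlgSt.FPt.map])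
  obtain ⟨θ₂, -, -⟩ := sc_iso (h𝒴.isStronglyCartesian (f.map ψ)) (h𝒴.isStronglyCartesian b)
    ((pobj f q').trans (eq'.trans r.lies.symm)) (by rw [pmap f, hψ]; simp [dq, homOf, _root_.AlgSt.FPt.map])
  obtain ⟨χ, -⟩ := mono_full h𝒳 h𝒴 f hf (θ₁.hom ≫ θ₂.inv)
  exact _root_.AlgSt.Points.sound
    ⟨{ K := r.K, str := r.str, obj := p', lies := ep' }, φ, χ ≫ ψ, trivial⟩

theorem with_iff_space {𝒳 𝒴 : _root_.AlgSt.Cat S} (h𝒳 : IsFibGrpd 𝒳.p) (h𝒴 : IsFibGrpd 𝒴.p)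
    {P : MorphismProperty (AlgSp.Sp S)} (hP : Good P) (f : 𝒳 ⥤ᵇ 𝒴) (hf : _root_.AlgSt.RepByAlgSp1 f) :
    _root_.AlgSt.RepByAlgSpWith P f ↔
      ∀ (Z : AlgSp.Space S) (z : _root_.AlgSt.ofSp Z.obj ⥤ᵇ 𝒴),
        ∃ (V : AlgSp.Space S) (a : V ⟶ Z) (e : _root_.AlgSt.ofSp V.obj ⥤ᵇ fp z f),
          IsEquivOver e ∧ Nonempty (BasedFunctor.comp e (fpFst z f) ≅ _root_.AlgSt.ofSpMap a.hom) ∧ P a.hom := by
  constructor
  · intro h Z z
    obtain ⟨V, e, he⟩ := rep_fp h𝒳 h𝒴 f z hf ⟨Z, BasedFunctor.id _, equiv_id _⟩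
    let π : V.obj ⟶ Z.obj := ObjectProperty.homMk (toMap (BasedFunctor.comp e (fpFst z f)))
    exact ⟨V, ObjectProperty.homMk π, e, he, ⟨isoToMap _⟩, with_sp hP h Z V z e he π rfl⟩
  · intro h U y
    obtain ⟨V, a, e, he, ⟨i⟩, ha⟩ :=
      h ⟨_, AlgSp.IsAlgSpace.yon_obj U⟩ (BasedFunctor.comp (_root_.AlgSt.toOverCat U) y)
    obtain ⟨Φ, hΦ, h1, -⟩ := change_fst y f (_root_.AlgSt.toOverCat U) (toOver_equiv U)
    refine ⟨V, BasedFunctor.comp e Φ, equiv_comp he hΦ, ?_⟩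
    rw [spMap_congr (eqToIso (congrArg (BasedFunctor.comp e) h1) ≪≫ whiskR i (_root_.AlgSt.toOverCat U) :
      BasedFunctor.comp (BasedFunctor.comp e Φ) (fpFst y f) ≅
        BasedFunctor.comp (_root_.AlgSt.ofSpMap a.hom) (_root_.AlgSt.toOverCat U)), spMap_ofMap]
    exact ha

end Groth.Agent.H7.AlgSt
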