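import Groth.Agent.H7.AlgSt.Qc

/-! The inertia is the fibre square of the diagonal. -/

set_option autoImplicit false
set_option backward.isDefEq.respectTransparency false
set_option backward.isDefEq.respectTransparency.types false

universe w v v₂ v₃ u₂ u₃ u

open CategoryTheory CategoryTheory.Limits CategoryTheory.Functor AlgebraicGeometry FibCat Opposite
open Groth.Agent.LeadFibCat Groth.Agent.H7.Stk.Glue Groth.Agent.H7.Stk.Congr

namespace Groth.Agent.H7.AlgSt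

variable {S : Scheme.{u}} {P : MorphismProperty (AlgSp.Sp S)}

theorem inertia_equiv {𝒳 𝒴 : _root_.AlgSt.Cat S} (f : 𝒳 ⥤ᵇ 𝒴) :
    ∃ K : inertia f ⥤ᵇ fp (diag f) (diag f), IsEquivOver K ∧
      Nonempty (BasedFunctor.comp K (fpFst (diag f) (diag f)) ≅ inertiaToBase f) ∧
      Nonempty (BasedFunctor.comp (inertiaNeutral f) K ≅ diag (diag f)) := by
  have hv : ∀ ξ : InertiaObj f, Vert 𝒳.p ξ.aut.hom := fun ξ => ⟨rfl, by
    have h := congrArg 𝒴.p.map ξ.map_aut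
    rw [pmap f ξ.aut.hom, 𝒴.p.map_id] at h
    have h2 := congrArg (fun k => CategoryTheory.eqToHom (pobj f ξ.pt).symm ≫ k ≫ CategoryTheory.eqToHom (pobj f ξ.pt)) h
    simpa using h2⟩
  let K : inertia f ⥤ᵇ fp (diag f) (diag f) :=
    lift' (inertiaToBase f) (inertiaToBase f)
      (fun ξ => fpIsoMk ξ.aut (Iso.refl ξ.pt) (by
        show f.map ξ.aut.hom ≫ 𝟙 _ = 𝟙 _ ≫ f.map (𝟙 ξ.pt)
        rw [ξ.map_aut, f.toFunctor.map_id]))
      (fun {ξ ξ'} φ => fp_ext φ.comm.symm ((Category.comp_id _).trans (Category.id_comp _).symm))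
      (fun ξ => hv ξ)
  refine ⟨K, isEquivOver_mk K (fun {ξ ξ'} ψ => ?_) (fun φ φ' h => InertiaObj.hom_ext (congrArg (fun k => k.hom.fst) h :)) ?_,
    ⟨Iso.refl _⟩, ?_⟩
  · have h1 : ψ.hom.fst ≫ ξ'.aut.hom = ξ.aut.hom ≫ ψ.hom.snd := congrArg (fun k => k.hom.fst) ψ.hom.w
    have h2 : ψ.hom.fst ≫ 𝟙 _ = 𝟙 _ ≫ ψ.hom.snd := congrArg (fun k => k.hom.snd) ψ.hom.w
    rw [Category.comp_id, Category.id_comp] at h2
    exact ⟨⟨ψ.hom.fst, (h1.trans (by rw [h2])).symm⟩, fp_ext rfl h2⟩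
  · intro η
    let a : η.obj.fst ≅ η.obj.snd := (CategoricalPullback.π₁ _ _).mapIso ((fpProp _ _).ι.mapIso η.obj.iso)
    let b : η.obj.fst ≅ η.obj.snd := (CategoricalPullback.π₂ _ _).mapIso ((fpProp _ _).ι.mapIso η.obj.iso)
    have hw : f.map a.hom ≫ 𝟙 _ = 𝟙 _ ≫ f.map b.hom := η.obj.iso.hom.hom.w
    rw [Category.comp_id, Category.id_comp] at hw
    let ξ : InertiaObj f := ⟨η.obj.fst, a ≪≫ b.symm, by
      show f.map (a.hom ≫ b.inv) = 𝟙 _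
      rw [f.toFunctor.map_comp, hw, ← f.toFunctor.map_comp, b.hom_inv_id]
      exact f.toFunctor.map_id _⟩
    refine ⟨ξ, fpIsoMk (Iso.refl η.obj.fst) b (fp_ext ?_ ?_), Vert.id (p := 𝒳.p) η.obj.fst⟩
    · show 𝟙 _ ≫ a.hom = (a.hom ≫ b.inv) ≫ b.hom
      simp
    · show 𝟙 _ ≫ b.hom = 𝟙 _ ≫ b.hom
      rfl
  · exact ⟨isoMk (fun x => fpIsoMk (Iso.refl x) (Iso.refl x) (fp_ext
      ((Category.id_comp _).trans (Category.id_comp _).symm) ((Category.id_comp _).trans (Category.id_comp _).symm)))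
      (fun φ => fp_ext ((Category.comp_id _).trans (Category.id_comp _).symm)
        ((Category.comp_id _).trans (Category.id_comp _).symm))
      (fun x => Vert.id (p := 𝒳.p) x)⟩

theorem with_inertia_iff {𝒳 𝒴 : _root_.AlgSt.Cat S} (f : 𝒳 ⥤ᵇ 𝒴) :
    _root_.AlgSt.RepByAlgSpWith P (inertiaToBase f) ↔ _root_.AlgSt.RepByAlgSpWith P (fpFst (diag f) (diag f)) := by
  obtain ⟨K, hK, ⟨e⟩, -⟩ := inertia_equiv f
  exact (with_iff (fpFst (diag f) (diag f)) (inertiaToBase f) K (BasedFunctor.id _) hK (equiv_id _) e.symm).symm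

theorem with_neutral_iff {𝒳 𝒴 : _root_.AlgSt.Cat S} (f : 𝒳 ⥤ᵇ 𝒴) :
    _root_.AlgSt.RepByAlgSpWith P (inertiaNeutral f) ↔ _root_.AlgSt.RepByAlgSpWith P (diag (diag f)) := by
  obtain ⟨K, hK, -, ⟨e⟩⟩ := inertia_equiv f
  exact (with_iff (diag (diag f)) (inertiaNeutral f) (BasedFunctor.id _) K (equiv_id _) hK e).symm

theorem inertia_section {𝒳 𝒴 : _root_.AlgSt.Cat S} (f : 𝒳 ⥤ᵇ 𝒴)
    (h : _root_.AlgSt.RepByAlgSpWith P (diag (fpFst (diag f) (diag f)))) :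
    _root_.AlgSt.RepByAlgSpWith P (inertiaNeutral f) :=
  (with_neutral_iff f).2 (with_section (fpFst (diag f) (diag f)) (diag (diag f)) (Iso.refl _) h)

end Groth.Agent.H7.AlgSt

namespace Groth.Agent.H7.AlgSt

variable {S : Scheme.{u}}

theorem qcMor_cancel {𝒳 𝒴 𝒵 : _root_.AlgSt.Cat S} (h𝒳 : _root_.AlgSt.IsAlgStack Scheme.fppfPrecoverage 𝒳)
    (h𝒴 : _root_.AlgSt.IsAlgStack Scheme.fppfPrecoverage 𝒴) (h𝒵 : _root_.AlgSt.IsAlgStack Scheme.fppfPrecoverage 𝒵)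
    (f : 𝒳 ⥤ᵇ 𝒴) (g : 𝒴 ⥤ᵇ 𝒵)
    (h : _root_.AlgSt.IsQuasiCompactMor Scheme.fppfPrecoverage (BasedFunctor.comp f g))
    (hg : _root_.AlgSt.RepByAlgSpWith AlgSp.IsQuasiCompactMor (diag g)) :
    _root_.AlgSt.IsQuasiCompactMor Scheme.fppfPrecoverage f := by
  let fg := BasedFunctor.comp f g
  let Γ := fpLift (F := fg) (G := g) (BasedFunctor.id 𝒳) f (eqToIso rfl)
  have hA := algStack_fp h𝒵.isStack h𝒵.diag h𝒳 h𝒴 fg g
  have hΓ := qcMor_of_with hA.isStack.1 h𝒳.isStack.1 Γ (with_graph fg g f (eqToIso rfl) hg)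
  have hp : _root_.AlgSt.IsQuasiCompactMor Scheme.fppfPrecoverage (fpSnd fg g) := by
    intro 𝒲 h𝒲 hq y
    have hqc := qcMor_fpFst fg g h 𝒲 h𝒲 hq y
    obtain ⟨Φ, hΦ, -, h1⟩ := swap fg g
    obtain ⟨Θ, hΘ, -, -⟩ := transport_fst y (fpSnd fg g) y (fpFst g fg) (BasedFunctor.id _) Φ (BasedFunctor.id _)
      (equiv_id _) hΦ (id_ff _).1 (id_ff _).2 (Iso.refl _) (eqToIso h1.symm)
    exact isQuasiCompact_of_equiv Θ hΘ hqc
  exact qcMor_comp hA h𝒴 Γ (fpSnd fg g) hΓ hp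

end Groth.Agent.H7.AlgSt
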