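import Groth.Agent.H7.AlgSt.DiagDesc
import Groth.Agent.AlgSpTopo.SourceScheme

/-! Diagonals are locally of finite type. -/

set_option autoImplicit false
set_option backward.isDefEq.respectTransparency false
set_option backward.isDefEq.respectTransparency.types false

universe w v v₂ v₃ u₂ u₃ u

open CategoryTheory CategoryTheory.Limits CategoryTheory.Functor AlgebraicGeometry FibCat Opposite
open Groth.Agent.LeadFibCat Groth.Agent.H7.Stk.Glue Groth.Agent.H7.Stk.Congr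

namespace Groth.Agent.H7.AlgSt

variable {S : Scheme.{u}} {P : MorphismProperty (AlgSp.Sp S)}

theorem good_lft : Good (S := S) (AlgSp.LocP @LocallyOfFiniteType) :=
  good_locP AlgSpTopo.etaleLocal_locallyOfFiniteType
    (AlgSpTopo.isLocalOnBase_fpqc AlgSpTopo.etaleLocal_locallyOfFiniteType)

theorem lft_of_comp {X Y Z : AlgSp.Sp S} (hX : AlgSp.IsAlgSpace X) (hY : AlgSp.IsAlgSpace Y) (hZ : AlgSp.IsAlgSpace Z)
    (f : X ⟶ Y) (g : Y ⟶ Z) (h : AlgSp.LocP @LocallyOfFiniteType (f ≫ g)) : AlgSp.LocP @LocallyOfFiniteType f :=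
  AlgSpTopo.locP_of_comp AlgSpTopo.etaleLocal_locallyOfFiniteType
    (fun A B C a b hab => by haveI := hab; exact locallyOfFiniteType_of_comp a b) hX hY hZ f g h

/-- lifting a pair of objects along a cover -/
theorem exists_pair_lift {𝒳 𝒴 : _root_.AlgSt.Cat S} (f : 𝒳 ⥤ᵇ 𝒴) {V : Over S} (p : overCat V ⥤ᵇ 𝒳)
    (h1 : _root_.AlgSt.RepByAlgSpWith (AlgSp.LocP @Flat) p)
    (h2 : _root_.AlgSt.RepByAlgSpWith (AlgSp.LocP @LocallyOfFinitePresentation) p)
    (h3 : _root_.AlgSt.RepByAlgSpWith AlgSp.IsSurjectiveMor p) (U : Over S) (y : overCat U ⥤ᵇ fp f f) :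
    ∃ R ∈ (QuotSh.J Scheme.fppfPrecoverage S) U, ∀ ⦃W : Over S⦄ (h : W ⟶ U), R.arrows h →
      ∃ z : overCat W ⥤ᵇ fp (BasedFunctor.comp p f) (BasedFunctor.comp p f),
        Nonempty (BasedFunctor.comp z (compK p p f) ≅ BasedFunctor.comp (_root_.AlgSt.overMap h) y) := by
  obtain ⟨R, hR, hR'⟩ := exists_cover_lift p h1 h2 h3 U (BasedFunctor.comp y (fpFst f f))
  choose R2 hR2 hR2' using fun {W : Over S} {h : W ⟶ U} (_ : R.arrows h) =>
    exists_cover_lift p h1 h2 h3 W (BasedFunctor.comp (_root_.AlgSt.overMap h) (BasedFunctor.comp y (fpSnd f f)))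
  refine ⟨Sieve.bind R.arrows (fun _ _ hh => R2 hh), GrothendieckTopology.bind_covering _ hR (fun _ _ hh => hR2 hh),
    fun W h hh => ?_⟩
  obtain ⟨W1, a, b, hb, ha, rfl⟩ := hh
  obtain ⟨w1, ⟨i1⟩⟩ := hR' b hb
  obtain ⟨w2, ⟨i2⟩⟩ := hR2' hb a ha
  let oa := _root_.AlgSt.overMap a
  let ob := _root_.AlgSt.overMap b
  let m : BasedFunctor.comp oa ob ≅ _root_.AlgSt.overMap (a ≫ b) :=
    isoMk (fun u => Over.isoMk (Iso.refl _) (by
        show 𝟙 _ ≫ u.hom ≫ a ≫ b = (u.hom ≫ a) ≫ b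
        rw [Category.id_comp, Category.assoc]))
      (fun φ => Over.OverMorphism.ext ((Category.comp_id _).trans (Category.id_comp _).symm))
      (fun u => ⟨rfl, rfl⟩)
  let j1 : BasedFunctor.comp (BasedFunctor.comp oa w1) p ≅
      BasedFunctor.comp (BasedFunctor.comp oa ob) (BasedFunctor.comp y (fpFst f f)) := whiskL oa i1
  let j2 : BasedFunctor.comp w2 p ≅ BasedFunctor.comp (BasedFunctor.comp oa ob) (BasedFunctor.comp y (fpSnd f f)) := i2
  let yy := BasedFunctor.comp (BasedFunctor.comp oa ob) y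
  let z : overCat W ⥤ᵇ fp (BasedFunctor.comp p f) (BasedFunctor.comp p f) :=
    lift' (BasedFunctor.comp oa w1) w2
      (fun v => f.toFunctor.mapIso (app j1 v) ≪≫ (yy.obj v).obj.iso ≪≫ (f.toFunctor.mapIso (app j2 v)).symm)
      (fun {v v'} φ => by
        have a1 : p.map (w1.map (oa.map φ)) ≫ (app j1 v').hom = (app j1 v).hom ≫ (yy.map φ).hom.fst :=
          app_naturality j1 φ
        have a2 : p.map (w2.map φ) ≫ (app j2 v').hom = (app j2 v).hom ≫ (yy.map φ).hom.snd := app_naturality j2 φ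
        have a3 : f.map (yy.map φ).hom.fst ≫ (yy.obj v').obj.iso.hom = (yy.obj v).obj.iso.hom ≫ f.map (yy.map φ).hom.snd :=
          (yy.map φ).hom.w
        have a2' : (yy.map φ).hom.snd ≫ (app j2 v').inv = (app j2 v).inv ≫ p.map (w2.map φ) := by
          rw [Iso.eq_inv_comp, ← Category.assoc, Iso.comp_inv_eq]; exact a2.symm
        show f.map (p.map (w1.map (oa.map φ))) ≫ f.map (app j1 v').hom ≫ (yy.obj v').obj.iso.hom ≫ f.map (app j2 v').inv =
          (f.map (app j1 v).hom ≫ (yy.obj v).obj.iso.hom ≫ f.map (app j2 v).inv) ≫ f.map (p.map (w2.map φ))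
        rw [← Category.assoc, ← f.toFunctor.map_comp, a1, f.toFunctor.map_comp]
        simp only [Category.assoc]
        rw [reassoc_of% a3, ← f.toFunctor.map_comp, a2', f.toFunctor.map_comp])
      (fun v => (vert_app j1 v).map.comp ((fp_vert (yy.obj v)).comp (vert_app j2 v).symm.map))
  let ε : BasedFunctor.comp z (compK p p f) ≅ yy :=
    isoMk (fun v => fpIsoMk (app j1 v) (app j2 v) (by
        show f.map (app j1 v).hom ≫ (yy.obj v).obj.iso.hom =
          (f.map (app j1 v).hom ≫ (yy.obj v).obj.iso.hom ≫ f.map (app j2 v).inv) ≫ f.map (app j2 v).hom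
        rw [Category.assoc, Category.assoc, ← f.toFunctor.map_comp, Iso.inv_hom_id, f.toFunctor.map_id]
        erw [Category.comp_id]))
      (fun φ => fp_ext (app_naturality j1 φ) (app_naturality j2 φ)) (fun v => vert_app j1 v)
  exact ⟨z, ⟨ε ≪≫ whiskR m y⟩⟩

/-- properties of a chart pass to the diagonal -/
theorem with_diag_of_chart {Q : MorphismProperty Scheme.{u}} (hR0 : AlgSpTopo.EtaleLocal Q)
    (hg : Good (S := S) (AlgSp.LocP Q))
    (hloc : AlgSp.IsLocalOnBase AlgSp.IsFppfCover (AlgSp.LocP (S := S) Q))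
    (hc0 : ∀ ⦃A B C : Scheme.{u}⦄ (f : A ⟶ B) (g : B ⟶ C), Q (f ≫ g) → Q f)
    {𝒳 𝒴 : _root_.AlgSt.Cat S} (h𝒳 : _root_.AlgSt.IsAlgStack Scheme.fppfPrecoverage 𝒳)
    (h𝒴 : _root_.AlgSt.IsAlgStack Scheme.fppfPrecoverage 𝒴) (f : 𝒳 ⥤ᵇ 𝒴) {V : Over S} (p : overCat V ⥤ᵇ 𝒳)
    (hfl : _root_.AlgSt.RepByAlgSpWith (AlgSp.LocP @Flat) p)
    (hlp : _root_.AlgSt.RepByAlgSpWith (AlgSp.LocP @LocallyOfFinitePresentation) p)
    (hps : _root_.AlgSt.RepByAlgSpWith AlgSp.IsSurjectiveMor p)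
    (hlt : _root_.AlgSt.RepByAlgSpWith (AlgSp.LocP Q) p) :
    _root_.AlgSt.RepByAlgSpWith (AlgSp.LocP Q) (diag f) := by
  refine with_of_locally h𝒳.isStack.1 (algStack_fp h𝒴.isStack h𝒴.diag h𝒳 h𝒳 f f).isStack.1 hg hloc (diag f)
    (rep1_diag h𝒳 h𝒴 f) (compK p p f) (exists_pair_lift f p hfl hlp hps) ?_
  let c := BasedFunctor.comp p f
  obtain ⟨T, eT, heT⟩ := rep_of_diag h𝒴.diag V c V c
  obtain ⟨R, eR, heR, hR⟩ := hlt V p
  let e : BasedFunctor.comp (fpFst p p) c ≅ BasedFunctor.comp (fpSnd p p) c :=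
    isoMk (fun w => f.toFunctor.mapIso w.obj.iso)
      (fun {w w'} φ => by
        show f.map (p.map φ.hom.fst) ≫ f.map w'.obj.iso.hom = f.map w.obj.iso.hom ≫ f.map (p.map φ.hom.snd)
        rw [← f.toFunctor.map_comp, ← f.toFunctor.map_comp]
        exact congrArg f.map φ.hom.w)
      (fun w => (fp_vert w).map)
  obtain ⟨E, hE, hh⟩ := comparison_equiv p p f e (fun _ => rfl)
  refine (with_iff (fpFst (compK p p f) (diag f)) (fpLift (fpFst p p) (fpSnd p p) e) E (BasedFunctor.id _) hE (equiv_id _)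
    (eqToIso hh.symm : fpLift (fpFst p p) (fpSnd p p) e ≅ BasedFunctor.comp E (fpFst (compK p p f) (diag f)))).2 ?_
  let C := fpLift (fpFst p p) (fpSnd p p) e
  obtain ⟨G, hG, ⟨cG⟩⟩ := equiv_inv heT
  let K := BasedFunctor.comp eR (BasedFunctor.comp C G)
  let m : R.obj ⟶ T.obj := ObjectProperty.homMk (toMap K)
  let εm : BasedFunctor.comp (_root_.AlgSt.ofSpMap m) eT ≅ BasedFunctor.comp eR C :=
    whiskR (isoToMap K).symm eT ≪≫ whiskL (BasedFunctor.comp eR C) cG
  refine (with_iff C (_root_.AlgSt.ofSpMap m) eR eT heR heT εm).2 (with_spMap hg R T m ?_)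
  have hs : _root_.AlgSt.spMapOfOver (BasedFunctor.comp eR (fpFst p p)) =
      m ≫ _root_.AlgSt.spMapOfOver (BasedFunctor.comp eT (fpFst c c)) :=
    spMap_after K (BasedFunctor.comp eT (fpFst c c)) _
      (whiskR (whiskL (BasedFunctor.comp eR C) cG.symm) (fpFst c c) ≪≫ eqToIso rfl)
  rw [hs] at hR
  exact AlgSpTopo.locP_of_comp hR0 hc0 R.property T.property (AlgSp.IsAlgSpace.yon_obj V) m _ hR

/-- every diagonal is locally of finite type -/
theorem with_diag_lft {𝒳 𝒴 : _root_.AlgSt.Cat S} (h𝒳 : _root_.AlgSt.IsAlgStack Scheme.fppfPrecoverage 𝒳)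
    (h𝒴 : _root_.AlgSt.IsAlgStack Scheme.fppfPrecoverage 𝒴) (f : 𝒳 ⥤ᵇ 𝒴) :
    _root_.AlgSt.RepByAlgSpWith (AlgSp.LocP @LocallyOfFiniteType) (diag f) := by
  obtain ⟨V, p, hp, hps⟩ := h𝒳.atlas
  have hfl := with_mono_prop (fun X Y _ _ a ha => AlgSpTopo.locP_mono (A := @Smooth) (B := @Flat)
    (fun _ _ g hg => by haveI := hg; infer_instance) ha) hp
  have hlp := with_mono_prop (fun X Y _ _ a ha => AlgSpTopo.locP_mono (A := @Smooth) (B := @LocallyOfFinitePresentation)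
    (fun _ _ g hg => by haveI := hg; infer_instance) ha) hp
  have hlt := with_mono_prop (fun X Y _ _ a ha => AlgSpTopo.locP_mono (A := @Smooth) (B := @LocallyOfFiniteType)
    (fun _ _ g hg => by haveI := hg; infer_instance) ha) hp
  exact with_diag_of_chart AlgSpTopo.etaleLocal_locallyOfFiniteType good_lft
    (fppf_of_fpqc (AlgSpTopo.isLocalOnBase_fpqc AlgSpTopo.etaleLocal_locallyOfFiniteType))
    (fun A B C a b hab => by haveI := hab; exact locallyOfFiniteType_of_comp a b) h𝒳 h𝒴 f p hfl hlp hps hlt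

theorem selfOver_equiv : IsEquivOver (toSelf (overCat (Over.mk (𝟙 S)))) := by
  refine isEquivOver_mk _ (fun {a b} ψ => ⟨Over.homMk ψ ?_, rfl⟩) (fun φ φ' h => Over.OverMorphism.ext h)
    fun η => ⟨Over.mk (Over.homMk η.hom : η ⟶ Over.mk (𝟙 S)), Iso.refl _, Vert.id (p := (selfOver (Over S)).p) η⟩
  refine Over.OverMorphism.ext ?_
  have h : ∀ {X : Over S} (k k' : X ⟶ Over.mk (𝟙 S)), k.left = k'.left := fun k k' => by
    have e1 := Over.w k
    have e2 := Over.w k'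
    simp only [Over.mk_hom] at e1 e2
    exact (Category.comp_id _).symm.trans ((e1.trans e2.symm).trans (Category.comp_id _))
  exact h _ _

theorem selfOver_algStack : _root_.AlgSt.IsAlgStack Scheme.fppfPrecoverage (selfOver (Over S)) :=
  algStack_transfer _ selfOver_equiv (isDM_of_rep (rep_overCat _)).1

end Groth.Agent.H7.AlgSt
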