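import Groth.Agent.H7.AlgSt.QcSurj

/-! Charts are open on points. -/

set_option autoImplicit false
set_option backward.isDefEq.respectTransparency false
set_option backward.isDefEq.respectTransparency.types false

universe w v v₂ v₃ u₂ u₃ u

open CategoryTheory CategoryTheory.Limits CategoryTheory.Functor AlgebraicGeometry FibCat Opposite
open Groth.Agent.LeadFibCat Groth.Agent.H7.Stk.Glue Groth.Agent.H7.Stk.Congr

namespace Groth.Agent.H7.AlgSt

variable {S : Scheme.{u}}

theorem exists_eq_ofChart {U : Over S} (z : _root_.AlgSt.Points (overCat U)) :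
    ∃ u, _root_.AlgSt.Points.ofChart (BasedFunctor.id _) u = z := by
  obtain ⟨p, rfl⟩ := _root_.AlgSt.Points.mk_surjective z
  letI := p.field
  let l : p.obj.left ≅ Over.mk p.str := CategoryTheory.eqToIso p.lies
  let g : Over.mk p.str ⟶ U := l.inv ≫ p.obj.hom
  let g' : Spec (CommRingCat.of p.K) ⟶ U.left := g.left
  let u := g' (IsLocalRing.closedPoint p.K)
  let φ := Scheme.descResidueField (Scheme.stalkClosedPointTo g')
  have hφ : Spec.map φ ≫ U.left.fromSpecResidueField u = g' :=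
    Scheme.descResidueField_stalkClosedPointTo_fromSpecResidueField _ U.left g'
  refine ⟨u, ?_⟩
  let b : Over U := Over.mk (Over.homMk (U.left.fromSpecResidueField u) rfl :
    Over.mk (U.left.fromSpecResidueField u ≫ U.hom) ⟶ U)
  let k : Over.mk p.str ⟶ Over.mk (U.left.fromSpecResidueField u ≫ U.hom) := Over.homMk (Spec.map φ) (by
    show Spec.map φ ≫ U.left.fromSpecResidueField u ≫ U.hom = p.str
    rw [← Category.assoc, hφ]
    exact Over.w g)
  let m : p.obj ⟶ b := Over.homMk (l.hom ≫ k) (by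
    have hk : k ≫ b.hom = g := Over.OverMorphism.ext hφ
    show (l.hom ≫ k) ≫ b.hom = p.obj.hom
    rw [Category.assoc, hk]
    exact l.hom_inv_id_assoc _)
  exact (_root_.AlgSt.Points.sound ⟨p, 𝟙 _, m, trivial⟩).symm

theorem ofChart_eq_of_val {T : Over S} (s : ↥T.left) :
    valSet ({ K := ↥(T.left.residueField s), str := T.left.fromSpecResidueField s ≫ T.hom,
              obj := Over.mk (Over.homMk (T.left.fromSpecResidueField s) rfl : Over.mk (T.left.fromSpecResidueField s ≫ T.hom) ⟶ T),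
              lies := rfl } : _root_.AlgSt.FPt (overCat T)) = {s} := Scheme.range_fromSpecResidueField s

theorem ofChart_id_injective {T : Over S} {s s' : ↥T.left}
    (h : _root_.AlgSt.Points.ofChart (BasedFunctor.id (overCat T)) s = _root_.AlgSt.Points.ofChart (BasedFunctor.id (overCat T)) s') :
    s = s' := by
  have h0 := congrArg (Quot.lift valSet fun _ _ hr => valSet_rel hr) h
  have h1 : ({s} : Set ↥T.left) = {s'} := (ofChart_eq_of_val s).symm.trans (h0.trans (ofChart_eq_of_val s'))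
  exact Set.singleton_eq_singleton_iff.1 h1

theorem isOpenMap_ofChart {𝒳 : _root_.AlgSt.Cat S} (h𝒳 : _root_.AlgSt.IsAlgStack Scheme.fppfPrecoverage 𝒳) {U : Over S}
    (x : overCat U ⥤ᵇ 𝒳) (h1 : _root_.AlgSt.RepByAlgSpWith (AlgSp.LocP @Flat) x)
    (h2 : _root_.AlgSt.RepByAlgSpWith (AlgSp.LocP @LocallyOfFinitePresentation) x) :
    IsOpenMap (_root_.AlgSt.Points.ofChart x) := by
  intro O hO U' x' _
  have hA : _root_.AlgSt.RepByAlgSp (fp x' x) := rep1_of_with h1 U' x'
  have hA' := isFibGrpd_of_rep hA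
  obtain ⟨Z, e, he⟩ := hA
  obtain ⟨T, t, ht, hts⟩ := Z.property.atlas
  let c := BasedFunctor.comp (_root_.AlgSt.ofOverCat T) (BasedFunctor.comp (_root_.AlgSt.ofSpMap t) e)
  have het := AlgSpTopo.locP_etale_of_isEtaleMor t (AlgSp.isEtaleMor_of_repWith t ht)
  have g1 := with_comp good_flat (fun _ _ _ hX hY hZ a b ha hb => AlgSpTopo.locP_comp AlgSpTopo.etaleLocal_flat hX hY hZ a b ha hb)
    (isFibGrpd_overCat T) hA' c _ (with_chart good_flat Z e he t (AlgSpTopo.locP_mono AlgSpTopo.etaleLocal_flat.of_etale het))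
    (with_fpFst x x' h1)
  have g2 := with_comp good_lfp
    (fun _ _ _ hX hY hZ a b ha hb => AlgSpTopo.locP_comp AlgSpTopo.etaleLocal_locallyOfFinitePresentation hX hY hZ a b ha hb)
    (isFibGrpd_overCat T) hA' c _
    (with_chart good_lfp Z e he t (AlgSpTopo.locP_mono AlgSpTopo.etaleLocal_locallyOfFinitePresentation.of_etale het))
    (with_fpFst x x' h2)
  have hc := with_chart good_surjective Z e he t (AlgSpTopo.surjective_of_repWith hts)
  obtain ⟨q, ⟨iq⟩⟩ := exists_overMap (BasedFunctor.comp c (fpFst x' x))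
  obtain ⟨a, ⟨ia⟩⟩ := exists_overMap (BasedFunctor.comp c (fpSnd x' x))
  have conv : ∀ {Q : MorphismProperty (AlgSp.Sp S)}, Good Q →
      _root_.AlgSt.RepByAlgSpWith Q (BasedFunctor.comp c (fpFst x' x)) → Q ((AlgSp.yon S).map q) := fun hQ h =>
    of_with_overMap hQ q ((with_iff (_root_.AlgSt.overMap q) (BasedFunctor.comp c (fpFst x' x)) (BasedFunctor.id _)
      (BasedFunctor.id _) (equiv_id _) (equiv_id _) iq).2 h)
  haveI : Flat q.left := AlgSp.locP_yon_map (conv good_flat g1)
  haveI : LocallyOfFinitePresentation q.left := AlgSp.locP_yon_map (conv good_lfp g2)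
  let i : BasedFunctor.comp (fpFst x' x) x' ≅ BasedFunctor.comp (fpSnd x' x) x :=
    isoMk (fun w => w.obj.iso) (fun φ => φ.hom.w) (fun w => fp_vert w)
  let j : BasedFunctor.comp (_root_.AlgSt.overMap q) x' ≅ BasedFunctor.comp (_root_.AlgSt.overMap a) x :=
    whiskR iq.symm x' ≪≫ whiskL c i ≪≫ whiskR ia x
  have key : _root_.AlgSt.Points.ofChart x' ⁻¹' (_root_.AlgSt.Points.ofChart x '' O) = q.left '' (a.left ⁻¹' O) := by
    ext u
    constructor
    · rintro ⟨o, ho, e1⟩
      obtain ⟨w, hw1, hw2⟩ := exists_fp_point (isFibGrpd_overCat U) h𝒳.isStack.1 (isFibGrpd_overCat U') x x'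
        (_root_.AlgSt.Points.ofChart (BasedFunctor.id _) u) (_root_.AlgSt.Points.ofChart (BasedFunctor.id _) o) e1.symm
      obtain ⟨z, rfl⟩ := points_surjective_of_with hA' c hc w
      obtain ⟨s, rfl⟩ := exists_eq_ofChart z
      have e2 : _root_.AlgSt.Points.ofChart (BasedFunctor.comp c (fpFst x' x)) s =
          _root_.AlgSt.Points.ofChart (BasedFunctor.id _) u := hw1
      have e3 : _root_.AlgSt.Points.ofChart (BasedFunctor.comp c (fpSnd x' x)) s =
          _root_.AlgSt.Points.ofChart (BasedFunctor.id _) o := hw2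
      rw [ofChart_congr iq] at e2
      rw [ofChart_congr ia] at e3
      have e2' := ofChart_id_injective ((ofChart_overMap q (BasedFunctor.id _) s).symm.trans e2)
      have e3' := ofChart_id_injective ((ofChart_overMap a (BasedFunctor.id _) s).symm.trans e3)
      exact ⟨s, show a.left s ∈ O from e3' ▸ ho, e2'⟩
    · rintro ⟨s, hs, rfl⟩
      refine ⟨a.left s, hs, ?_⟩
      rw [← ofChart_overMap, ← ofChart_overMap, ofChart_congr j]
  rw [key]
  exact q.left.isOpenMap _ (hO.preimage a.left.continuous)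

theorem qc_iff_compactSpace {𝒳 : _root_.AlgSt.Cat S} (h𝒳 : _root_.AlgSt.IsAlgStack Scheme.fppfPrecoverage 𝒳) :
    _root_.AlgSt.IsQuasiCompact 𝒳 ↔ CompactSpace (_root_.AlgSt.Points 𝒳) := by
  have hsur : ∀ {U : Over S} (x : overCat U ⥤ᵇ 𝒳), _root_.AlgSt.RepByAlgSpWith AlgSp.IsSurjectiveMor x →
      Function.Surjective (_root_.AlgSt.Points.ofChart x) := fun x hx z => by
    obtain ⟨z', rfl⟩ := points_surjective_of_with h𝒳.isStack.1 x hx z
    obtain ⟨u, rfl⟩ := exists_eq_ofChart z'
    exact ⟨u, rfl⟩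
  constructor
  · rintro ⟨U, x, hU, -, hxs⟩
    haveI := hU
    exact ⟨by rw [← (hsur x hxs).range_eq]; exact isCompact_range (continuous_ofChart h𝒳 x)⟩
  · intro hc
    obtain ⟨V, v, hv, hvs⟩ := h𝒳.atlas
    have hfl := with_mono_prop (fun X Y _ _ a ha => AlgSpTopo.locP_mono (A := @Smooth) (B := @Flat)
      (fun _ _ g hg => by haveI := hg; infer_instance) ha) hv
    have hlp := with_mono_prop (fun X Y _ _ a ha => AlgSpTopo.locP_mono (A := @Smooth) (B := @LocallyOfFinitePresentation)
      (fun _ _ g hg => by haveI := hg; infer_instance) ha) hv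
    obtain ⟨K, hK⟩ := hc.isCompact_univ.elim_finite_subcover
      (fun O : V.left.affineOpens => _root_.AlgSt.Points.ofChart v '' (O.1 : Set ↥V.left))
      (fun O => isOpenMap_ofChart h𝒳 v hfl hlp _ O.1.2) (by
        intro z _
        obtain ⟨u, rfl⟩ := hsur v hvs z
        obtain ⟨O, hO, hu, -⟩ := exists_isAffineOpen_mem_and_subset (U := (⊤ : V.left.Opens)) (x := u) trivial
        exact Set.mem_iUnion.2 ⟨⟨O, hO⟩, u, hu, rfl⟩)
    let W : V.left.Opens := ⟨⋃ O ∈ K, (O.1 : Set ↥V.left), isOpen_biUnion fun O _ => O.1.2⟩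
    have hW : CompactSpace ↥W.toScheme :=
      isCompact_iff_compactSpace.1 (K.isCompact_biUnion fun O _ => O.2.isCompact)
    let V' : Over S := Over.mk (W.ι ≫ V.hom)
    let ι : V' ⟶ V := Over.homMk W.ι rfl
    have hι : AlgSp.LocP @Smooth ((AlgSp.yon S).map ι) :=
      (AlgSpTopo.locP_iff_repWith AlgSpTopo.etaleLocal_smooth (AlgSp.IsAlgSpace.yon_obj _) (AlgSp.IsAlgSpace.yon_obj _) _
        (AlgSp.representable_yon_map ι)).2 ((AlgSp.repWith_yon_map_iff @Smooth ι).2 (inferInstanceAs (Smooth W.ι)))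
    have hv' := with_comp good_smooth comp_smooth (isFibGrpd_overCat V') (isFibGrpd_overCat V) _ v
      (with_overMap good_smooth ι hι) hv
    refine qc_iff_compact_chart.2 ⟨V', _, hW, hv', with_surjective_of_points (isFibGrpd_overCat V') h𝒳.isStack.1 _
      (rep1_of_with hv') fun z => ?_⟩
    obtain ⟨O, hO, u, hu, rfl⟩ := Set.mem_iUnion₂.1 (hK (Set.mem_univ z))
    exact ⟨_root_.AlgSt.Points.ofChart (BasedFunctor.id _) ⟨u, Set.mem_iUnion₂.2 ⟨O, hO, hu⟩⟩,
      ofChart_overMap ι v _⟩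

end Groth.Agent.H7.AlgSt
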