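import Groth.Agent.H7.AlgSt.OpenPts

/-! Topology of the points. -/

set_option autoImplicit false
set_option backward.isDefEq.respectTransparency false
set_option backward.isDefEq.respectTransparency.types false

universe w v v₂ v₃ u₂ u₃ u

open CategoryTheory CategoryTheory.Limits CategoryTheory.Functor AlgebraicGeometry FibCat Opposite
open Groth.Agent.LeadFibCat Groth.Agent.H7.Stk.Glue Groth.Agent.H7.Stk.Congr

namespace Groth.Agent.H7.AlgSt

variable {S : Scheme.{u}}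

theorem ofChart_surjective {𝒳 : _root_.AlgSt.Cat S} (h𝒳 : IsFibGrpd 𝒳.p) {U : Over S} (x : overCat U ⥤ᵇ 𝒳)
    (hx : _root_.AlgSt.RepByAlgSpWith AlgSp.IsSurjectiveMor x) :
    Function.Surjective (_root_.AlgSt.Points.ofChart x) := fun z => by
  obtain ⟨z', rfl⟩ := points_surjective_of_with h𝒳 x hx z
  obtain ⟨u, rfl⟩ := exists_eq_ofChart z'
  exact ⟨u, rfl⟩

theorem flat_of_smooth {𝒳 𝒴 : _root_.AlgSt.Cat S} {v : 𝒳 ⥤ᵇ 𝒴} (hv : _root_.AlgSt.RepByAlgSpWith (AlgSp.LocP @Smooth) v) :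
    _root_.AlgSt.RepByAlgSpWith (AlgSp.LocP @Flat) v :=
  with_mono_prop (fun X Y _ _ a ha => AlgSpTopo.locP_mono (A := @Smooth) (B := @Flat)
      (fun _ _ g hg => by haveI := hg; infer_instance) ha) hv

theorem lfp_of_smooth {𝒳 𝒴 : _root_.AlgSt.Cat S} {v : 𝒳 ⥤ᵇ 𝒴} (hv : _root_.AlgSt.RepByAlgSpWith (AlgSp.LocP @Smooth) v) :
    _root_.AlgSt.RepByAlgSpWith (AlgSp.LocP @LocallyOfFinitePresentation) v :=
  with_mono_prop (fun X Y _ _ a ha => AlgSpTopo.locP_mono (A := @Smooth) (B := @LocallyOfFinitePresentation)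
      (fun _ _ g hg => by haveI := hg; infer_instance) ha) hv

theorem exists_nhd {𝒳 : _root_.AlgSt.Cat S} (h𝒳 : _root_.AlgSt.IsAlgStack Scheme.fppfPrecoverage 𝒳)
    (x : _root_.AlgSt.Points 𝒳) (W : Set (_root_.AlgSt.Points 𝒳)) (hW : IsOpen W) (hx : x ∈ W) :
    ∃ V : Set (_root_.AlgSt.Points 𝒳), IsOpen V ∧ IsCompact V ∧ x ∈ V ∧ V ⊆ W := by
  obtain ⟨U, v, hv, hvs⟩ := h𝒳.atlas
  obtain ⟨u, rfl⟩ := ofChart_surjective h𝒳.isStack.1 v hvs x
  obtain ⟨O, hO, hu, hsub⟩ := exists_isAffineOpen_mem_and_subset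
    (U := (⟨_root_.AlgSt.Points.ofChart v ⁻¹' W, hW.preimage (continuous_ofChart h𝒳 v)⟩ : U.left.Opens)) (x := u) hx
  exact ⟨_root_.AlgSt.Points.ofChart v '' (O : Set ↥U.left),
    isOpenMap_ofChart h𝒳 v (flat_of_smooth hv) (lfp_of_smooth hv) _ O.2,
    hO.isCompact.image (continuous_ofChart h𝒳 v), ⟨u, hu, rfl⟩, Set.image_subset_iff.2 hsub⟩

theorem isOpenMap_space {𝒳 : _root_.AlgSt.Cat S} (h𝒳 : _root_.AlgSt.IsAlgStack Scheme.fppfPrecoverage 𝒳)
    (Z : AlgSp.Space S) (u : _root_.AlgSt.ofSp Z.obj ⥤ᵇ 𝒳)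
    (h1 : _root_.AlgSt.RepByAlgSpWith (AlgSp.LocP @Flat) u)
    (h2 : _root_.AlgSt.RepByAlgSpWith (AlgSp.LocP @LocallyOfFinitePresentation) u) :
    IsOpenMap (_root_.AlgSt.Points.map u) := by
  intro W hW
  have hZ := (isDM_of_rep ⟨Z, BasedFunctor.id (_root_.AlgSt.ofSp Z.obj), equiv_id _⟩).1
  obtain ⟨T, t, ht, hts⟩ := Z.property.atlas
  let c := BasedFunctor.comp (_root_.AlgSt.ofOverCat T) (_root_.AlgSt.ofSpMap t)
  have het := AlgSpTopo.locP_etale_of_isEtaleMor t (AlgSp.isEtaleMor_of_repWith t ht)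
  have hc : ∀ {P : MorphismProperty (AlgSp.Sp S)}, Good P → P t → _root_.AlgSt.RepByAlgSpWith P c :=
    fun hP hp => with_chart hP Z (BasedFunctor.id _) (equiv_id _) t hp
  have g1 := with_comp good_flat (fun _ _ _ hX hY hZ a b ha hb => AlgSpTopo.locP_comp AlgSpTopo.etaleLocal_flat hX hY hZ a b ha hb)
    (isFibGrpd_overCat T) hZ.isStack.1 c u (hc good_flat (AlgSpTopo.locP_mono AlgSpTopo.etaleLocal_flat.of_etale het)) h1
  have g2 := with_comp good_lfp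
    (fun _ _ _ hX hY hZ a b ha hb => AlgSpTopo.locP_comp AlgSpTopo.etaleLocal_locallyOfFinitePresentation hX hY hZ a b ha hb)
    (isFibGrpd_overCat T) hZ.isStack.1 c u
    (hc good_lfp (AlgSpTopo.locP_mono AlgSpTopo.etaleLocal_locallyOfFinitePresentation.of_etale het)) h2
  have hs := ofChart_surjective hZ.isStack.1 c (hc good_surjective (AlgSpTopo.surjective_of_repWith hts))
  have key : _root_.AlgSt.Points.map u '' W =
      _root_.AlgSt.Points.ofChart (BasedFunctor.comp c u) '' (_root_.AlgSt.Points.ofChart c ⁻¹' W) := by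
    conv_lhs => rw [← Set.image_preimage_eq W hs]
    rw [Set.image_image]
    rfl
  rw [key]
  exact isOpenMap_ofChart h𝒳 _ g1 g2 _ (hW.preimage (continuous_ofChart hZ c))

theorem isOpen_iff_space {𝒳 : _root_.AlgSt.Cat S} (h𝒳 : _root_.AlgSt.IsAlgStack Scheme.fppfPrecoverage 𝒳)
    (Z : AlgSp.Space S) (u : _root_.AlgSt.ofSp Z.obj ⥤ᵇ 𝒳)
    (h1 : _root_.AlgSt.RepByAlgSpWith (AlgSp.LocP @Flat) u)
    (h2 : _root_.AlgSt.RepByAlgSpWith (AlgSp.LocP @LocallyOfFinitePresentation) u)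
    (h3 : _root_.AlgSt.RepByAlgSpWith AlgSp.IsSurjectiveMor u) (W : Set (_root_.AlgSt.Points 𝒳)) :
    IsOpen W ↔ IsOpen (_root_.AlgSt.Points.map u ⁻¹' W) := by
  refine ⟨fun h => h.preimage (continuous_map h𝒳 u), fun h => ?_⟩
  rw [← Set.image_preimage_eq W (points_surjective_of_with h𝒳.isStack.1 u h3)]
  exact isOpenMap_space h𝒳 Z u h1 h2 _ h

theorem noetherian_points {𝒳 : _root_.AlgSt.Cat S} (h𝒳 : _root_.AlgSt.IsAlgStack Scheme.fppfPrecoverage 𝒳)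
    (h : _root_.AlgSt.IsQuasiCompact 𝒳) (hN : _root_.AlgSt.SmoothLocally (fun T ↦ IsLocallyNoetherian T) 𝒳) :
    TopologicalSpace.NoetherianSpace (_root_.AlgSt.Points 𝒳) := by
  obtain ⟨U, x, hU, hx, hxs⟩ := h
  haveI := hU
  haveI : IsLocallyNoetherian U.left := hN U x hx
  haveI : IsNoetherian U.left := {}
  exact TopologicalSpace.noetherianSpace_of_surjective _ (continuous_ofChart h𝒳 x) (ofChart_surjective h𝒳.isStack.1 x hxs)

theorem locNoetherian_points {𝒳 : _root_.AlgSt.Cat S} (h𝒳 : _root_.AlgSt.IsAlgStack Scheme.fppfPrecoverage 𝒳)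
    (hN : _root_.AlgSt.SmoothLocally (fun T ↦ IsLocallyNoetherian T) 𝒳) (z : _root_.AlgSt.Points 𝒳) :
    ∃ W : Set (_root_.AlgSt.Points 𝒳), IsOpen W ∧ z ∈ W ∧ TopologicalSpace.NoetherianSpace W := by
  obtain ⟨U, v, hv, hvs⟩ := h𝒳.atlas
  obtain ⟨u, rfl⟩ := ofChart_surjective h𝒳.isStack.1 v hvs z
  obtain ⟨O, hO, hu, -⟩ := exists_isAffineOpen_mem_and_subset (U := (⊤ : U.left.Opens)) (x := u) trivial
  haveI : IsLocallyNoetherian U.left := hN U v hv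
  haveI : IsLocallyNoetherian O.toScheme := isLocallyNoetherian_of_isOpenImmersion O.ι
  haveI : IsAffine O.toScheme := hO
  haveI : IsNoetherian O.toScheme := {}
  refine ⟨_root_.AlgSt.Points.ofChart v '' (O : Set ↥U.left),
    isOpenMap_ofChart h𝒳 v (flat_of_smooth hv) (lfp_of_smooth hv) _ O.2, ⟨u, hu, rfl⟩, ?_⟩
  let g : ↥O.toScheme → ↥(_root_.AlgSt.Points.ofChart v '' (O : Set ↥U.left)) := fun s => ⟨_, s.1, s.2, rfl⟩
  refine TopologicalSpace.noetherianSpace_of_surjective g ?_ ?_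
  · exact Continuous.subtype_mk ((continuous_ofChart h𝒳 v).comp continuous_subtype_val) _
  · rintro ⟨_, s, hs, rfl⟩
    exact ⟨⟨s, hs⟩, rfl⟩

end Groth.Agent.H7.AlgSt
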