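import Groth.Agent.H7.AlgSt.Sep
import Groth.Agent.AlgSpTopo.Chart

/-! Quasi-compact representable morphisms of stacks. -/

set_option autoImplicit false
set_option backward.isDefEq.respectTransparency false
set_option backward.isDefEq.respectTransparency.types false

universe w v v₂ v₃ u₂ u₃ u

open CategoryTheory CategoryTheory.Limits CategoryTheory.Functor AlgebraicGeometry FibCat Opposite
open Groth.Agent.LeadFibCat Groth.Agent.H7.Stk.Glue Groth.Agent.H7.Stk.Congr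

namespace Groth.Agent.H7.AlgSt

variable {S : Scheme.{u}} {P Q : MorphismProperty (AlgSp.Sp S)}

theorem exists_affine_chart {Z : AlgSp.Sp S} (h : AlgSp.IsQuasiCompactSp Z) :
    ∃ (T : Over S) (t : (AlgSp.yon S).obj T ⟶ Z), AlgSp.RepWith @Etale t ∧ AlgSp.RepWith @Surjective t ∧
      IsAffine T.left := by
  obtain ⟨M, v, hv, hvs, hM⟩ := h
  obtain ⟨t, ht⟩ := hM.isCompact_univ.elim_finite_subcover
    (fun W : M.left.affineOpens => (W.1 : Set ↥M.left)) (fun W => W.1.2) (by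
      intro u _
      obtain ⟨W, hW, huW, -⟩ := exists_isAffineOpen_mem_and_subset (U := (⊤ : M.left.Opens)) (x := u) trivial
      exact Set.mem_iUnion.2 ⟨⟨W, hW⟩, huW⟩)
  let J := ULift.{u} (Fin t.card)
  let w : J → M.left.affineOpens := fun j => (t.equivFin.symm j.down).1
  let W' : J → Scheme.{u} := fun j => (w j).1.toScheme
  have : ∀ j, IsAffine (W' j) := fun j => (w j).2
  let c : (∐ W') ⟶ M.left := Sigma.desc fun j => (w j).1.ι
  let U : Over S := Over.mk (c ≫ M.hom)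
  let cU : U ⟶ M := Over.homMk c rfl
  have hce : Etale c := IsZariskiLocalAtSource.sigmaDesc fun j => inferInstance
  have hcs : Surjective c := ⟨fun m => by
    obtain ⟨W, hW, hm⟩ := Set.mem_iUnion₂.1 (ht (Set.mem_univ m))
    have hw : w ⟨t.equivFin ⟨W, hW⟩⟩ = W := by simp [w]
    refine ⟨Sigma.ι W' ⟨t.equivFin ⟨W, hW⟩⟩ ⟨m, by rw [hw]; exact hm⟩, ?_⟩
    change c (Sigma.ι W' _ _) = m
    rw [← Scheme.Hom.comp_apply, Sigma.ι_desc]
    rfl⟩
  exact ⟨U, (AlgSp.yon S).map cU ≫ v,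
    MorphismProperty.comp_mem _ _ _ ((AlgSp.repWith_yon_map_iff _ _).2 hce) hv,
    MorphismProperty.comp_mem _ _ _ ((AlgSp.repWith_yon_map_iff _ _).2 hcs) hvs,
    inferInstanceAs (IsAffine (∐ W'))⟩

theorem qc_of_etale {Z : AlgSp.Space S} (h : AlgSp.IsQuasiCompactSp Z.obj) :
    _root_.AlgSt.IsQuasiCompact (_root_.AlgSt.ofSp Z.obj) := by
  obtain ⟨T, q, hq, hqs, hT⟩ := exists_affine_chart h
  exact ⟨T, BasedFunctor.comp (_root_.AlgSt.ofOverCat T) (_root_.AlgSt.ofSpMap q), hT,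
    with_chart good_smooth Z (BasedFunctor.id _) (equiv_id _) q
      (AlgSpTopo.smooth_of_isEtaleMor (AlgSp.isEtaleMor_of_repWith q hq)),
    with_chart good_surjective Z (BasedFunctor.id _) (equiv_id _) q (AlgSpTopo.surjective_of_repWith hqs)⟩

theorem space_qc_of_qc {Z : AlgSp.Space S} (h : _root_.AlgSt.IsQuasiCompact (_root_.AlgSt.ofSp Z.obj)) :
    AlgSp.IsQuasiCompactSp Z.obj := by
  obtain ⟨V, x, hV, -, hs⟩ := h
  let K := BasedFunctor.comp (_root_.AlgSt.toOverCat V) x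
  let m : (AlgSp.yon S).obj V ⟶ Z.obj := ObjectProperty.homMk (toMap K)
  have hm : AlgSp.IsSurjectiveMor m := of_with_spMap good_surjective ⟨_, AlgSp.IsAlgSpace.yon_obj V⟩ Z m
    ((with_iff x (_root_.AlgSt.ofSpMap m) (_root_.AlgSt.toOverCat V) (BasedFunctor.id _) (toOver_equiv V) (equiv_id _)
      (isoToMap K).symm).1 hs)
  haveI := hV
  have hc : CompactSpace (AlgSp.Points Z.obj) :=
    AlgSpTopo.compactSpace_of_surjective (AlgSpTopo.compactSpace_points (AlgSpTopo.isQuasiCompactSp_yon V)) hm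
  obtain ⟨M, v, hv, hvs⟩ := Z.property.atlas
  exact AlgSpTopo.isQuasiCompactSp_of_compact hv (AlgSpTopo.surjective_of_repWith hvs) hc

theorem qcMor_of_with {𝒳 𝒴 : _root_.AlgSt.Cat S} (h𝒴 : IsFibGrpd 𝒴.p) (h𝒳 : IsFibGrpd 𝒳.p) (f : 𝒳 ⥤ᵇ 𝒴)
    (hf : _root_.AlgSt.RepByAlgSpWith AlgSp.IsQuasiCompactMor f) :
    _root_.AlgSt.IsQuasiCompactMor Scheme.fppfPrecoverage f := by
  intro 𝒲 h𝒲 hq g
  obtain ⟨U, x, hU, hx, hxs⟩ := hq
  obtain ⟨F, e, he, hπ⟩ := hf U (BasedFunctor.comp x g)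
  haveI := hU
  let π := _root_.AlgSt.spMapOfOver (BasedFunctor.comp e (fpFst (BasedFunctor.comp x g) f))
  have hF : AlgSp.IsQuasiCompactSp F.obj := hπ (AlgSp.IsAlgSpace.yon_obj U) (AlgSpTopo.isQuasiCompactSp_yon U)
    (𝟙 _) (𝟙 _) π (IsPullback.of_horiz_isIso ⟨by rw [Category.id_comp, Category.comp_id]⟩)
  obtain ⟨T, t, ht, hts, hT⟩ := exists_affine_chart hF
  obtain ⟨Φ, hΦ, -⟩ := paste_fst' x g f
  let e' := BasedFunctor.comp e Φ
  have he' : IsEquivOver e' := equiv_comp he hΦ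
  have hA : IsFibGrpd (fp x (fpFst g f)).p := isFibGrpd_of_rep ⟨F, e', he'⟩
  let c := BasedFunctor.comp (_root_.AlgSt.ofOverCat T) (BasedFunctor.comp (_root_.AlgSt.ofSpMap t) e')
  have hc := with_chart good_smooth F e' he' t
    (AlgSpTopo.smooth_of_isEtaleMor (AlgSp.isEtaleMor_of_repWith t ht))
  have hc' := with_chart good_surjective F e' he' t (AlgSpTopo.surjective_of_repWith hts)
  exact ⟨T, BasedFunctor.comp c (fpSnd x (fpFst g f)), hT,
    with_comp good_smooth comp_smooth (isFibGrpd_overCat T) hA c _ hc (with_fpSnd x (fpFst g f) hx),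
    with_comp good_surjective comp_surjective (isFibGrpd_overCat T) hA c _ hc' (with_fpSnd x (fpFst g f) hxs)⟩

theorem with_of_qcMor {𝒳 𝒴 : _root_.AlgSt.Cat S} (f : 𝒳 ⥤ᵇ 𝒴) (hf : _root_.AlgSt.RepByAlgSp1 f)
    (h : _root_.AlgSt.IsQuasiCompactMor Scheme.fppfPrecoverage f) :
    _root_.AlgSt.RepByAlgSpWith AlgSp.IsQuasiCompactMor f := fun U y => by
  obtain ⟨F, e, he⟩ := hf U y
  refine ⟨F, e, he, fun Z Z' hZ hq k fst snd sq => ?_⟩
  let π := _root_.AlgSt.spMapOfOver (BasedFunctor.comp e (fpFst y f))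
  have hZ' : AlgSp.IsAlgSpace Z' := (AlgSpTopo.isAlgSpace_pullback F.property (AlgSp.IsAlgSpace.yon_obj U) hZ π k).of_iso
    sq.isoPullback.symm
  let 𝒵 : AlgSp.Space S := ⟨Z, hZ⟩
  let K := BasedFunctor.comp (_root_.AlgSt.ofSpMap k) (_root_.AlgSt.toOverCat U)
  have hqc := h (_root_.AlgSt.ofSp Z) (isDM_of_rep ⟨𝒵, BasedFunctor.id _, equiv_id _⟩).1 (qc_of_etale (Z := 𝒵) hq)
    (BasedFunctor.comp K y)
  obtain ⟨Φ, hΦ, -⟩ := paste_fst' K y f
  have h1 := isQuasiCompact_of_equiv Φ hΦ hqc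
  obtain ⟨E, hE, -⟩ := fp_ofPsh (sq.flip.map (sheafToPresheaf (AlgSp.J S) _))
  obtain ⟨q1, q2, -⟩ := equiv_props (toOver_equiv U)
  obtain ⟨i0⟩ := spMap_iso (BasedFunctor.comp e (fpFst y f))
  obtain ⟨Θ, hΘ, -, -⟩ := transport_fst K (fpFst y f) (_root_.AlgSt.ofSpMap k) (_root_.AlgSt.ofSpMap π)
    (BasedFunctor.id _) e (_root_.AlgSt.toOverCat U) (equiv_id _) he q1 q2 (eqToIso rfl) i0
  obtain ⟨G, hG, -⟩ := equiv_inv (equiv_comp hE hΘ)
  exact space_qc_of_qc (Z := ⟨Z', hZ'⟩) (isQuasiCompact_of_equiv G hG h1)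

theorem with_and (hP : Good Q) {𝒳 𝒴 : _root_.AlgSt.Cat S} (f : 𝒳 ⥤ᵇ 𝒴) (h : _root_.AlgSt.RepByAlgSpWith P f)
    (h' : _root_.AlgSt.RepByAlgSpWith Q f) : _root_.AlgSt.RepByAlgSpWith (P ⊓ Q) f := fun U y => by
  obtain ⟨F, e, he, hPe⟩ := h U y
  obtain ⟨F', e', he', hQe⟩ := h' U y
  obtain ⟨G, hG, ⟨c⟩⟩ := equiv_inv he'
  let K := BasedFunctor.comp e G
  have hm : IsIso (ObjectProperty.homMk (toMap K) : F.obj ⟶ F'.obj) := by
    haveI : IsIso ((sheafToPresheaf (AlgSp.J S) _).map (ObjectProperty.homMk (toMap K) : F.obj ⟶ F'.obj)) :=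
      isIso_toMap (equiv_comp he hG)
    exact isIso_of_reflects_iso _ (sheafToPresheaf (AlgSp.J S) _)
  refine ⟨F, e, he, hPe, ?_⟩
  rw [spMap_after K (BasedFunctor.comp e' (fpFst y f)) (BasedFunctor.comp e (fpFst y f))
    (whiskR (whiskL e c.symm) (fpFst y f) ≪≫ eqToIso rfl)]
  exact hP.iso_left F'.property (AlgSp.IsAlgSpace.yon_obj U) _ _ hQe

end Groth.Agent.H7.AlgSt
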