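import Groth.Agent.H7.AlgSt.QcSurj

/-! Quasi-compactness descends along fppf covers. -/

set_option autoImplicit false
set_option backward.isDefEq.respectTransparency false
set_option backward.isDefEq.respectTransparency.types false

universe w v v₂ v₃ u₂ u₃ u

open CategoryTheory CategoryTheory.Limits CategoryTheory.Functor AlgebraicGeometry FibCat Opposite
open Groth.Agent.LeadFibCat Groth.Agent.H7.Stk.Glue Groth.Agent.H7.Stk.Congr

namespace Groth.Agent.H7.AlgSt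

variable {S : Scheme.{u}}

theorem qcMor_of_cover {𝒳 𝒴 : _root_.AlgSt.Cat S} (h𝒳 : _root_.AlgSt.IsAlgStack Scheme.fppfPrecoverage 𝒳)
    (h𝒴 : _root_.AlgSt.IsAlgStack Scheme.fppfPrecoverage 𝒴) (f : 𝒳 ⥤ᵇ 𝒴) (W : AlgSp.Space S)
    (w : _root_.AlgSt.ofSp W.obj ⥤ᵇ 𝒴)
    (h1 : _root_.AlgSt.RepByAlgSpWith (AlgSp.LocP @Flat) w)
    (h2 : _root_.AlgSt.RepByAlgSpWith (AlgSp.LocP @LocallyOfFinitePresentation) w)
    (h3 : _root_.AlgSt.RepByAlgSpWith AlgSp.IsSurjectiveMor w)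
    (h : _root_.AlgSt.IsQuasiCompactMor Scheme.fppfPrecoverage (fpFst w f)) :
    _root_.AlgSt.IsQuasiCompactMor Scheme.fppfPrecoverage f := by
  intro 𝒲 h𝒲 hq g
  obtain ⟨U, x, hU, hx, hxs⟩ := hq
  haveI := hU
  let xg := BasedFunctor.comp x g
  have hA : _root_.AlgSt.RepByAlgSp (fp xg w) := rep1_of_with h1 U xg
  have hA' := isFibGrpd_of_rep hA
  obtain ⟨Z, e, he⟩ := hA
  obtain ⟨T, t, ht, hts⟩ := Z.property.atlas
  let c := BasedFunctor.comp (_root_.AlgSt.ofOverCat T) (BasedFunctor.comp (_root_.AlgSt.ofSpMap t) e)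
  have het := AlgSpTopo.locP_etale_of_isEtaleMor t (AlgSp.isEtaleMor_of_repWith t ht)
  have g1 := with_comp good_flat (fun _ _ _ hX hY hZ a b ha hb => AlgSpTopo.locP_comp AlgSpTopo.etaleLocal_flat hX hY hZ a b ha hb)
    (isFibGrpd_overCat T) hA' c _ (with_chart good_flat Z e he t (AlgSpTopo.locP_mono AlgSpTopo.etaleLocal_flat.of_etale het))
    (with_fpFst w xg h1)
  have g2 := with_comp good_lfp
    (fun _ _ _ hX hY hZ a b ha hb => AlgSpTopo.locP_comp AlgSpTopo.etaleLocal_locallyOfFinitePresentation hX hY hZ a b ha hb)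
    (isFibGrpd_overCat T) hA' c _
    (with_chart good_lfp Z e he t (AlgSpTopo.locP_mono AlgSpTopo.etaleLocal_locallyOfFinitePresentation.of_etale het))
    (with_fpFst w xg h2)
  have g3 := with_comp good_surjective comp_surjective (isFibGrpd_overCat T) hA' c _
    (with_chart good_surjective Z e he t (AlgSpTopo.surjective_of_repWith hts)) (with_fpFst w xg h3)
  obtain ⟨q, ⟨iq⟩⟩ := exists_overMap (BasedFunctor.comp c (fpFst xg w))
  have conv : ∀ {Q : MorphismProperty (AlgSp.Sp S)}, Good Q →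
      _root_.AlgSt.RepByAlgSpWith Q (BasedFunctor.comp c (fpFst xg w)) → Q ((AlgSp.yon S).map q) := fun hQ h =>
    of_with_overMap hQ q ((with_iff (_root_.AlgSt.overMap q) (BasedFunctor.comp c (fpFst xg w)) (BasedFunctor.id _)
      (BasedFunctor.id _) (equiv_id _) (equiv_id _) iq).2 h)
  haveI : Flat q.left := AlgSp.locP_yon_map (conv good_flat g1)
  haveI : LocallyOfFinitePresentation q.left := AlgSp.locP_yon_map (conv good_lfp g2)
  have hs := surjective_left q (conv good_surjective g3)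
  obtain ⟨K, hK⟩ := (isCompact_univ : IsCompact (Set.univ : Set ↥U.left)).elim_finite_subcover
    (fun O : T.left.affineOpens => q.left '' (O.1 : Set ↥T.left)) (fun O => q.left.isOpenMap _ O.1.2) (by
      intro u _
      obtain ⟨s, rfl⟩ := hs u
      obtain ⟨O, hO, hs, -⟩ := exists_isAffineOpen_mem_and_subset (U := (⊤ : T.left.Opens)) (x := s) trivial
      exact Set.mem_iUnion.2 ⟨⟨O, hO⟩, s, hs, rfl⟩)
  let O' : T.left.Opens := ⟨⋃ O ∈ K, (O.1 : Set ↥T.left), isOpen_biUnion fun O _ => O.1.2⟩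
  have hO' : CompactSpace ↥O'.toScheme :=
    isCompact_iff_compactSpace.1 (K.isCompact_biUnion fun O _ => O.2.isCompact)
  let T' : Over S := Over.mk (O'.ι ≫ T.hom)
  let κ : T' ⟶ T := Over.homMk O'.ι rfl
  have hκq : AlgSp.IsSurjectiveMor ((AlgSp.yon S).map (κ ≫ q)) := fun z => by
    obtain ⟨u, rfl⟩ := AlgSpTopo.ofScheme_surjective U z
    obtain ⟨O, hO, s, hs, rfl⟩ := Set.mem_iUnion₂.1 (hK (Set.mem_univ u))
    exact ⟨AlgSp.Points.ofScheme T' ⟨s, Set.mem_iUnion₂.2 ⟨O, hO, hs⟩⟩, AlgSpTopo.map_ofScheme _ _⟩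
  haveI : CompactSpace ↥T'.left := hO'
  let o := _root_.AlgSt.overMap κ
  let o' := BasedFunctor.comp o (_root_.AlgSt.overMap q)
  let a := BasedFunctor.comp o (BasedFunctor.comp c (fpSnd xg w))
  have hqT : _root_.AlgSt.IsQuasiCompact (overCat T') :=
    isQuasiCompact_of_equiv _ (toOver_equiv T')
      (qc_of_etale (Z := ⟨_, AlgSp.IsAlgSpace.yon_obj T'⟩) (AlgSpTopo.isQuasiCompactSp_yon T'))
  have hT' := (isDM_of_rep (rep_overCat T')).1
  let i : BasedFunctor.comp (fpFst xg w) xg ≅ BasedFunctor.comp (fpSnd xg w) w :=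
    isoMk (fun p => p.obj.iso) (fun φ => φ.hom.w) (fun p => fp_vert p)
  let x' := BasedFunctor.comp o' x
  let y' := BasedFunctor.comp x' g
  let j : y' ≅ BasedFunctor.comp a w :=
    whiskL o (whiskR iq.symm xg ≪≫ whiskL c i)
  obtain ⟨Φ, hΦ, -⟩ := paste_fst' a w f
  obtain ⟨G, hG, -⟩ := equiv_inv hΦ
  have q1 := isQuasiCompact_of_equiv G hG (h (overCat T') hT' hqT a)
  obtain ⟨Θ, hΘ, -, -⟩ := transport_fst y' f (BasedFunctor.comp a w) f (BasedFunctor.id _) (BasedFunctor.id _)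
    (BasedFunctor.id _) (equiv_id _) (equiv_id _) (id_ff _).1 (id_ff _).2 j.symm (Iso.refl _)
  have q2 := isQuasiCompact_of_equiv Θ hΘ q1
  obtain ⟨Ψ, hΨ, -⟩ := paste_fst' x' g f
  have q3 := isQuasiCompact_of_equiv Ψ hΨ q2
  have hB := algStack_fp h𝒴.isStack h𝒴.diag h𝒲 h𝒳 g f
  have hC := algStack_fp h𝒲.isStack h𝒲.diag hT' hB x' (fpFst g f)
  refine qc_of_surjective hC hB (fpSnd x' (fpFst g f)) (fun z => ?_) q3
  obtain ⟨u, hu⟩ := points_surjective_of_with h𝒲.isStack.1 x hxs (_root_.AlgSt.Points.map (fpFst g f) z)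
  obtain ⟨s, rfl⟩ := points_surjective_of_with (isFibGrpd_overCat U) (_root_.AlgSt.overMap (κ ≫ q))
    (with_overMap good_surjective _ hκq) u
  let m : o' ≅ _root_.AlgSt.overMap (κ ≫ q) :=
    isoMk (fun v => Over.isoMk (Iso.refl _) (by
        show 𝟙 _ ≫ v.hom ≫ κ ≫ q = (v.hom ≫ κ) ≫ q
        rw [Category.id_comp, Category.assoc]))
      (fun φ => Over.OverMorphism.ext ((Category.comp_id _).trans (Category.id_comp _).symm))
      (fun v => ⟨rfl, rfl⟩)
  obtain ⟨p, rfl⟩ := _root_.AlgSt.Points.mk_surjective s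
  have hu' : _root_.AlgSt.Points.map x' (_root_.AlgSt.Points.mk p) = _root_.AlgSt.Points.map (fpFst g f) z :=
    (show _root_.AlgSt.Points.mk (p.map x') = _root_.AlgSt.Points.mk ((p.map (_root_.AlgSt.overMap (κ ≫ q))).map x) from
      _root_.AlgSt.Points.sound ⟨p.map x', 𝟙 _, (app (whiskR m x) p.obj).hom, trivial⟩).trans hu
  obtain ⟨v, -, hv⟩ := exists_fp_point hB.isStack.1 h𝒲.isStack.1 hT'.isStack.1 (fpFst g f) x' _ z hu'
  exact ⟨v, hv⟩

end Groth.Agent.H7.AlgSt
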