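import Groth.Agent.H7.AlgSt.Surj

/-! Quasi-compactness descends along surjections. -/

set_option autoImplicit false
set_option backward.isDefEq.respectTransparency false
set_option backward.isDefEq.respectTransparency.types false

universe w v v₂ v₃ u₂ u₃ u

open CategoryTheory CategoryTheory.Limits CategoryTheory.Functor AlgebraicGeometry FibCat Opposite
open Groth.Agent.LeadFibCat Groth.Agent.H7.Stk.Glue Groth.Agent.H7.Stk.Congr

namespace Groth.Agent.H7.AlgSt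

variable {S : Scheme.{u}}

theorem with_overMap {P : MorphismProperty (AlgSp.Sp S)} (hP : Good P) {T U : Over S} (q : T ⟶ U)
    (h : P ((AlgSp.yon S).map q)) : _root_.AlgSt.RepByAlgSpWith P (_root_.AlgSt.overMap q) :=
  (with_iff (_root_.AlgSt.overMap q) (_root_.AlgSt.ofSpMap ((AlgSp.yon S).map q)) (_root_.AlgSt.toOverCat T)
    (_root_.AlgSt.toOverCat U) (toOver_equiv T) (toOver_equiv U) (eqToIso rfl)).2
    (with_spMap hP ⟨_, AlgSp.IsAlgSpace.yon_obj T⟩ ⟨_, AlgSp.IsAlgSpace.yon_obj U⟩ _ h)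

theorem qc_of_surjective {𝒰 𝒳 : _root_.AlgSt.Cat S} (h𝒰 : _root_.AlgSt.IsAlgStack Scheme.fppfPrecoverage 𝒰)
    (h𝒳 : _root_.AlgSt.IsAlgStack Scheme.fppfPrecoverage 𝒳) (f : 𝒰 ⥤ᵇ 𝒳)
    (hf : Function.Surjective (_root_.AlgSt.Points.map f)) (h : _root_.AlgSt.IsQuasiCompact 𝒰) :
    _root_.AlgSt.IsQuasiCompact 𝒳 := by
  obtain ⟨U, x, hU, hx, hxs⟩ := h
  haveI := hU
  obtain ⟨V, v, hv, hvs⟩ := h𝒳.atlas
  let xf := BasedFunctor.comp x f
  have hA : _root_.AlgSt.RepByAlgSp (fp xf v) := rep1_of_with hv U xf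
  have hA' := isFibGrpd_of_rep hA
  obtain ⟨Z, e, he⟩ := hA
  obtain ⟨T, t, ht, hts⟩ := Z.property.atlas
  let c := BasedFunctor.comp (_root_.AlgSt.ofOverCat T) (BasedFunctor.comp (_root_.AlgSt.ofSpMap t) e)
  have h1 := with_comp good_smooth comp_smooth (isFibGrpd_overCat T) hA' c _
    (with_chart good_smooth Z e he t (AlgSpTopo.smooth_of_isEtaleMor (AlgSp.isEtaleMor_of_repWith t ht)))
    (with_fpFst v xf hv)
  have h2 := with_comp good_surjective comp_surjective (isFibGrpd_overCat T) hA' c _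
    (with_chart good_surjective Z e he t (AlgSpTopo.surjective_of_repWith hts)) (with_fpFst v xf hvs)
  obtain ⟨q, ⟨iq⟩⟩ := exists_overMap (BasedFunctor.comp c (fpFst xf v))
  obtain ⟨a, ⟨ia⟩⟩ := exists_overMap (BasedFunctor.comp c (fpSnd xf v))
  haveI : Smooth q.left := AlgSp.locP_yon_map (of_with_overMap good_smooth q
    ((with_iff (_root_.AlgSt.overMap q) (BasedFunctor.comp c (fpFst xf v)) (BasedFunctor.id _)
      (BasedFunctor.id _) (equiv_id _) (equiv_id _) iq).2 h1))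
  have hq := surjective_left q (of_with_overMap good_surjective q
    ((with_iff (_root_.AlgSt.overMap q) (BasedFunctor.comp c (fpFst xf v)) (BasedFunctor.id _)
      (BasedFunctor.id _) (equiv_id _) (equiv_id _) iq).2 h2))
  obtain ⟨K, hK⟩ := (isCompact_univ : IsCompact (Set.univ : Set ↥U.left)).elim_finite_subcover
    (fun O : T.left.affineOpens => q.left '' (O.1 : Set ↥T.left)) (fun O => q.left.isOpenMap _ O.1.2) (by
      intro u _
      obtain ⟨s, rfl⟩ := hq u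
      obtain ⟨O, hO, hs, -⟩ := exists_isAffineOpen_mem_and_subset (U := (⊤ : T.left.Opens)) (x := s) trivial
      exact Set.mem_iUnion.2 ⟨⟨O, hO⟩, s, hs, rfl⟩)
  have hC : IsCompact (a.left '' ⋃ O ∈ K, (O.1 : Set ↥T.left)) :=
    (K.isCompact_biUnion fun O _ => O.2.isCompact).image a.left.continuous
  obtain ⟨L, hL⟩ := hC.elim_finite_subcover (fun O : V.left.affineOpens => (O.1 : Set ↥V.left)) (fun O => O.1.2) (by
      intro u _
      obtain ⟨O, hO, hu, -⟩ := exists_isAffineOpen_mem_and_subset (U := (⊤ : V.left.Opens)) (x := u) trivial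
      exact Set.mem_iUnion.2 ⟨⟨O, hO⟩, hu⟩)
  let W : V.left.Opens := ⟨⋃ O ∈ L, (O.1 : Set ↥V.left), isOpen_biUnion fun O _ => O.1.2⟩
  let O' : T.left.Opens := ⟨⋃ O ∈ K, (O.1 : Set ↥T.left), isOpen_biUnion fun O _ => O.1.2⟩
  have hW : CompactSpace ↥W.toScheme :=
    isCompact_iff_compactSpace.1 (L.isCompact_biUnion fun O _ => O.2.isCompact)
  let V' : Over S := Over.mk (W.ι ≫ V.hom)
  let ι : V' ⟶ V := Over.homMk W.ι rfl
  let T' : Over S := Over.mk (O'.ι ≫ T.hom)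
  let κ : T' ⟶ T := Over.homMk O'.ι rfl
  have hrange : Set.range (O'.ι ≫ a.left) ⊆ Set.range W.ι := by
    rintro _ ⟨s, rfl⟩
    rw [Scheme.Opens.range_ι]
    exact hL ⟨s.1, s.2, rfl⟩
  let l : T' ⟶ V' := Over.homMk (IsOpenImmersion.lift W.ι (O'.ι ≫ a.left) hrange) (by
    show IsOpenImmersion.lift W.ι (O'.ι ≫ a.left) hrange ≫ W.ι ≫ V.hom = O'.ι ≫ T.hom
    rw [IsOpenImmersion.lift_fac_assoc, Category.assoc, Over.w a])
  have hl : l ≫ ι = κ ≫ a := Over.OverMorphism.ext (IsOpenImmersion.lift_fac _ _ hrange)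
  have hκq : AlgSp.IsSurjectiveMor ((AlgSp.yon S).map (κ ≫ q)) := fun z => by
    obtain ⟨u, rfl⟩ := AlgSpTopo.ofScheme_surjective U z
    obtain ⟨O, hO, s, hs, rfl⟩ := Set.mem_iUnion₂.1 (hK (Set.mem_univ u))
    exact ⟨AlgSp.Points.ofScheme T' ⟨s, Set.mem_iUnion₂.2 ⟨O, hO, hs⟩⟩, AlgSpTopo.map_ofScheme _ _⟩
  let v' := BasedFunctor.comp (_root_.AlgSt.overMap ι) v
  have hι : AlgSp.LocP @Smooth ((AlgSp.yon S).map ι) :=
    (AlgSpTopo.locP_iff_repWith AlgSpTopo.etaleLocal_smooth (AlgSp.IsAlgSpace.yon_obj _) (AlgSp.IsAlgSpace.yon_obj _) _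
      (AlgSp.representable_yon_map ι)).2 ((AlgSp.repWith_yon_map_iff @Smooth ι).2 (inferInstanceAs (Smooth W.ι)))
  have hv' := with_comp good_smooth comp_smooth (isFibGrpd_overCat V') (isFibGrpd_overCat V) _ v
    (with_overMap good_smooth ι hι) hv
  refine qc_iff_compact_chart.2 ⟨V', v', hW, hv', with_surjective_of_points (isFibGrpd_overCat V') h𝒳.isStack.1 v'
    (rep1_of_with hv') fun z => ?_⟩
  obtain ⟨z1, rfl⟩ := hf z
  obtain ⟨z2, rfl⟩ := points_surjective_of_with h𝒰.isStack.1 x hxs z1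
  obtain ⟨z3, rfl⟩ := points_surjective_of_with (isFibGrpd_overCat U) (_root_.AlgSt.overMap (κ ≫ q))
    (with_overMap good_surjective _ hκq) z2
  obtain ⟨p, rfl⟩ := _root_.AlgSt.Points.mk_surjective z3
  refine ⟨_root_.AlgSt.Points.mk (p.map (_root_.AlgSt.overMap l)), ?_⟩
  let m : ∀ {A B C : Over S} (g : A ⟶ B) (h : B ⟶ C),
      BasedFunctor.comp (_root_.AlgSt.overMap g) (_root_.AlgSt.overMap h) ≅ _root_.AlgSt.overMap (g ≫ h) := fun g h =>
    isoMk (fun u => Over.isoMk (Iso.refl _) (by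
        show 𝟙 _ ≫ u.hom ≫ g ≫ h = (u.hom ≫ g) ≫ h
        rw [Category.id_comp, Category.assoc]))
      (fun φ => Over.OverMorphism.ext ((Category.comp_id _).trans (Category.id_comp _).symm))
      (fun u => ⟨rfl, rfl⟩)
  let i : BasedFunctor.comp (fpFst xf v) xf ≅ BasedFunctor.comp (fpSnd xf v) v :=
    isoMk (fun w => w.obj.iso) (fun φ => φ.hom.w) (fun w => fp_vert w)
  let j : BasedFunctor.comp (_root_.AlgSt.overMap q) xf ≅ BasedFunctor.comp (_root_.AlgSt.overMap a) v :=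
    whiskR iq.symm xf ≪≫ whiskL c i ≪≫ whiskR ia v
  let J : BasedFunctor.comp (_root_.AlgSt.overMap l) v' ≅ BasedFunctor.comp (_root_.AlgSt.overMap (κ ≫ q)) xf :=
    whiskR (m l ι ≪≫ eqToIso (congrArg _root_.AlgSt.overMap hl) ≪≫ (m κ a).symm) v ≪≫
      whiskL (_root_.AlgSt.overMap κ) j.symm ≪≫ whiskR (m κ q) xf
  exact _root_.AlgSt.Points.sound ⟨(p.map (_root_.AlgSt.overMap l)).map v', 𝟙 _, (app J p.obj).hom, trivial⟩

theorem qcMor_of_surjective_triangle {𝒳 𝒴 𝒵 : _root_.AlgSt.Cat S}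
    (h𝒳 : _root_.AlgSt.IsAlgStack Scheme.fppfPrecoverage 𝒳) (h𝒴 : _root_.AlgSt.IsAlgStack Scheme.fppfPrecoverage 𝒴)
    (h𝒵 : _root_.AlgSt.IsAlgStack Scheme.fppfPrecoverage 𝒵) (f : 𝒳 ⥤ᵇ 𝒴) (p : 𝒳 ⥤ᵇ 𝒵) (q : 𝒴 ⥤ᵇ 𝒵)
    (e : BasedFunctor.comp f q ≅ p) (hf : Function.Surjective (_root_.AlgSt.Points.map f))
    (hp : _root_.AlgSt.IsQuasiCompactMor Scheme.fppfPrecoverage p) :
    _root_.AlgSt.IsQuasiCompactMor Scheme.fppfPrecoverage q := by
  intro 𝒲 h𝒲 hq g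
  have hA := algStack_fp h𝒵.isStack h𝒵.diag h𝒲 h𝒴 g q
  have hB := algStack_fp h𝒴.isStack h𝒴.diag hA h𝒳 (fpSnd g q) f
  obtain ⟨Φ, hΦ, -⟩ := fp_of_comp f q g (BasedFunctor.id _) (equiv_id _)
  obtain ⟨G, hG, -⟩ := equiv_inv hΦ
  obtain ⟨Θ, hΘ, -, -⟩ := transport_fst g (BasedFunctor.comp f q) g p (BasedFunctor.id _) (BasedFunctor.id _)
    (BasedFunctor.id _) (equiv_id _) (equiv_id _) (id_ff _).1 (id_ff _).2 (Iso.refl _) e.symm
  have h1 := isQuasiCompact_of_equiv Θ hΘ (hp 𝒲 h𝒲 hq g)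
  have h2 := isQuasiCompact_of_equiv G hG h1
  refine qc_of_surjective hB hA (fpFst (fpSnd g q) f) (fun z => ?_) h2
  obtain ⟨x, hx⟩ := hf (_root_.AlgSt.Points.map (fpSnd g q) z)
  obtain ⟨w, hw, -⟩ := exists_fp_point h𝒳.isStack.1 h𝒴.isStack.1 hA.isStack.1 f (fpSnd g q) z x hx.symm
  exact ⟨w, hw⟩

end Groth.Agent.H7.AlgSt
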