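import Groth.Agent.H7.AlgSt.Inertia

/-! Quasi-compactness over a quasi-separated base. -/

set_option autoImplicit false
set_option backward.isDefEq.respectTransparency false
set_option backward.isDefEq.respectTransparency.types false

universe w v v₂ v₃ u₂ u₃ u

open CategoryTheory CategoryTheory.Limits CategoryTheory.Functor AlgebraicGeometry FibCat Opposite
open Groth.Agent.LeadFibCat Groth.Agent.H7.Stk.Glue Groth.Agent.H7.Stk.Congr

namespace Groth.Agent.H7.AlgSt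

variable {S : Scheme.{u}}

theorem prod_equiv (U V : Over S) :
    ∃ E : overCat (U ⨯ V) ⥤ᵇ fp (toSelf (overCat U)) (toSelf (overCat V)), IsEquivOver E := by
  let a := Groth.Agent.LeadFibCat.overMap (Limits.prod.fst : U ⨯ V ⟶ U)
  let b := Groth.Agent.LeadFibCat.overMap (Limits.prod.snd : U ⨯ V ⟶ V)
  let E : overCat (U ⨯ V) ⥤ᵇ fp (toSelf (overCat U)) (toSelf (overCat V)) :=
    lift' a b (fun _ => Iso.refl _) (fun _ => (Category.comp_id _).trans (Category.id_comp _).symm) (fun _ => Vert.id _)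
  refine ⟨E, isEquivOver_mk E (fun {p p'} ψ => ?_) (fun {p p'} φ φ' h => ?_) fun η => ?_⟩
  · have hl : ψ.hom.snd.left = ψ.hom.fst.left := by
      have h : ψ.hom.fst.left ≫ 𝟙 p'.left = 𝟙 p.left ≫ ψ.hom.snd.left := ψ.hom.w
      exact (h.trans (Category.id_comp _)).symm.trans (Category.comp_id _)
    refine ⟨Over.homMk ψ.hom.fst.left ?_, fp_ext (Over.OverMorphism.ext rfl) (Over.OverMorphism.ext hl.symm)⟩
    apply prod.hom_ext
    · rw [Category.assoc]; exact Over.w ψ.hom.fst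
    · rw [Category.assoc, ← hl]; exact Over.w ψ.hom.snd
  · exact Over.OverMorphism.ext (congrArg (fun m => m.hom.fst.left) h :)
  · obtain ⟨e, he⟩ := fp_vert η
    let p : (overCat (U ⨯ V)).obj :=
      Over.mk (prod.lift η.obj.fst.hom (CategoryTheory.eqToHom (C := Over S) e ≫ η.obj.snd.hom))
    let ea : a.obj p ≅ η.obj.fst := Over.isoMk (Iso.refl _) (by simp [a, p, Groth.Agent.LeadFibCat.overMap])
    let eb : b.obj p ≅ η.obj.snd := Over.isoMk (CategoryTheory.eqToIso (C := Over S) e) (by simp [b, p, Groth.Agent.LeadFibCat.overMap])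
    refine ⟨p, fpIsoMk ea eb ?_, Vert.id (p := (overCat U).p) η.obj.fst |> fun _ => ⟨rfl, rfl⟩⟩
    show 𝟙 η.obj.fst.left ≫ η.obj.iso.hom = 𝟙 η.obj.fst.left ≫ eb.hom.left
    exact congrArg _ he

theorem compactSpace_prod [QuasiSeparatedSpace S] (U V : Over S) [IsAffine U.left] [IsAffine V.left] :
    CompactSpace ↥(U ⨯ V).left := by
  haveI : QuasiCompact (V.hom ≫ terminal.from S) := inferInstance
  haveI : QuasiCompact V.hom := QuasiCompact.of_comp V.hom (terminal.from S)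
  haveI : CompactSpace ↥(pullback U.hom V.hom) := QuasiCompact.compactSpace_of_compactSpace (pullback.fst U.hom V.hom)
  exact (Scheme.homeoOfIso (Over.prodLeftIsoPullback U V)).symm.compactSpace

theorem qcMor_toSelf [QuasiSeparatedSpace S] {𝒳 : _root_.AlgSt.Cat S}
    (h : _root_.AlgSt.IsQuasiCompact 𝒳) :
    _root_.AlgSt.IsQuasiCompactMor Scheme.fppfPrecoverage (toSelf 𝒳) := by
  intro 𝒲 h𝒲 hq k
  obtain ⟨U, u, hU, hu, hus⟩ := hq
  obtain ⟨V, v, hV, hv, hvs⟩ := h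
  haveI := hU
  haveI := hV
  let ik : k ≅ toSelf 𝒲 :=
    isoMk (fun w => CategoryTheory.eqToIso (C := Over S) (pobj k w))
      (fun {w w'} φ => by
        show k.map φ ≫ CategoryTheory.eqToHom (C := Over S) (pobj k w') =
          CategoryTheory.eqToHom (C := Over S) (pobj k w) ≫ 𝒲.p.map φ
        rw [show k.map φ = _ from pmap k φ]
        simp [selfOver])
      (fun w => Vert.eqToHom (p := (selfOver (Over S)).p) (pobj k w))
  let iu : BasedFunctor.comp (BasedFunctor.comp (fpFst (toSelf (overCat U)) (toSelf (overCat V))) u) (toSelf 𝒲) ≅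
      BasedFunctor.comp (BasedFunctor.comp (fpSnd (toSelf (overCat U)) (toSelf (overCat V))) v) (toSelf 𝒳) :=
    isoMk (fun w => CategoryTheory.eqToIso (C := Over S)
        ((pobj u w.obj.fst).trans ((fp_snd_obj w).symm.trans (pobj v w.obj.snd).symm)))
      (fun {w w'} φ => by
        show 𝒲.p.map (u.map φ.hom.fst) ≫ CategoryTheory.eqToHom (C := Over S)
            ((pobj u w'.obj.fst).trans ((fp_snd_obj w').symm.trans (pobj v w'.obj.snd).symm)) =
          CategoryTheory.eqToHom (C := Over S)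
            ((pobj u w.obj.fst).trans ((fp_snd_obj w).symm.trans (pobj v w.obj.snd).symm)) ≫ 𝒳.p.map (v.map φ.hom.snd)
        rw [pmap u φ.hom.fst, pmap v φ.hom.snd, fp_snd_map φ]
        simp)
      (fun w => Vert.eqToHom (p := (selfOver (Over S)).p)
        ((pobj u w.obj.fst).trans ((fp_snd_obj w).symm.trans (pobj v w.obj.snd).symm)))
  have hs := with_prod good_smooth.bc comp_smooth u v hu hv iu
  have hss := with_prod good_surjective.bc comp_surjective u v hus hvs iu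
  obtain ⟨E, hE⟩ := prod_equiv U V
  haveI := compactSpace_prod U V
  obtain ⟨T, t, ht, hts, hT⟩ := exists_affine_chart (AlgSpTopo.isQuasiCompactSp_yon (U ⨯ V))
  let e' := BasedFunctor.comp (_root_.AlgSt.toOverCat (U ⨯ V)) E
  have he' : IsEquivOver e' := equiv_comp (toOver_equiv _) hE
  let F : AlgSp.Space S := ⟨_, AlgSp.IsAlgSpace.yon_obj (U ⨯ V)⟩
  have hA : IsFibGrpd (fp (toSelf (overCat U)) (toSelf (overCat V))).p := isFibGrpd_of_rep ⟨F, e', he'⟩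
  let c := BasedFunctor.comp (_root_.AlgSt.ofOverCat T) (BasedFunctor.comp (_root_.AlgSt.ofSpMap t) e')
  have hc := with_comp good_smooth comp_smooth (isFibGrpd_overCat T) hA c _
    (with_chart good_smooth F e' he' t (AlgSpTopo.smooth_of_isEtaleMor (AlgSp.isEtaleMor_of_repWith t ht))) hs
  have hc' := with_comp good_surjective comp_surjective (isFibGrpd_overCat T) hA c _
    (with_chart good_surjective F e' he' t (AlgSpTopo.surjective_of_repWith hts)) hss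
  have hq0 : _root_.AlgSt.IsQuasiCompact (fp (toSelf 𝒲) (toSelf 𝒳)) := ⟨T, _, hT, hc, hc'⟩
  obtain ⟨Θ, hΘ, -, -⟩ := transport_fst k (toSelf 𝒳) (toSelf 𝒲) (toSelf 𝒳) (BasedFunctor.id _) (BasedFunctor.id _)
    (BasedFunctor.id _) (equiv_id _) (equiv_id _) (id_ff _).1 (id_ff _).2 ik.symm (Iso.refl _)
  exact isQuasiCompact_of_equiv Θ hΘ hq0

theorem comp_toSelf {𝒳 𝒴 : _root_.AlgSt.Cat S} (f : 𝒳 ⥤ᵇ 𝒴) : BasedFunctor.comp f (toSelf 𝒴) = toSelf 𝒳 := by
  obtain ⟨F, w⟩ := f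
  have key : ∀ (A B : 𝒳 ⥤ᵇ selfOver (Over S)), A.toFunctor = B.toFunctor → A = B := by
    rintro ⟨A, _⟩ ⟨B, _⟩ (rfl : A = B)
    rfl
  exact key _ _ w

theorem qcMor_of_qc_qs [QuasiSeparatedSpace S] {𝒳 𝒴 : _root_.AlgSt.Cat S}
    (h𝒳 : _root_.AlgSt.IsAlgStack Scheme.fppfPrecoverage 𝒳) (h𝒴 : _root_.AlgSt.IsAlgStack Scheme.fppfPrecoverage 𝒴)
    (f : 𝒳 ⥤ᵇ 𝒴) (h : _root_.AlgSt.IsQuasiCompact 𝒳) (hqs : _root_.AlgSt.IsQuasiSeparatedOver 𝒴) :
    _root_.AlgSt.IsQuasiCompactMor Scheme.fppfPrecoverage f :=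
  qcMor_cancel h𝒳 h𝒴 selfOver_algStack f (toSelf 𝒴) (by rw [comp_toSelf]; exact qcMor_toSelf h)
    (with_mono_prop (fun _ _ _ _ a ha => ha.1) hqs)

theorem qcqs_fp [QuasiSeparatedSpace S] {𝒳 𝒴 𝒵 : _root_.AlgSt.Cat S}
    (h𝒳 : _root_.AlgSt.IsAlgStack Scheme.fppfPrecoverage 𝒳) (h𝒴 : _root_.AlgSt.IsAlgStack Scheme.fppfPrecoverage 𝒴)
    (h𝒵 : _root_.AlgSt.IsAlgStack Scheme.fppfPrecoverage 𝒵) (a : 𝒳 ⥤ᵇ 𝒴) (b : 𝒵 ⥤ᵇ 𝒴)
    (hX : _root_.AlgSt.IsQuasiCompact 𝒳) (hX' : _root_.AlgSt.IsQuasiSeparatedOver 𝒳)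
    (hY' : _root_.AlgSt.IsQuasiSeparatedOver 𝒴) (hZ : _root_.AlgSt.IsQuasiCompact 𝒵)
    (hZ' : _root_.AlgSt.IsQuasiSeparatedOver 𝒵) :
    _root_.AlgSt.IsQuasiCompact (fp a b) ∧ _root_.AlgSt.IsQuasiSeparatedOver (fp a b) := by
  refine ⟨qcMor_of_qc_qs h𝒵 h𝒴 b hZ hY' 𝒳 h𝒳 hX a, ?_⟩
  have hb : _root_.AlgSt.RepByAlgSpWith (AlgSp.IsQuasiCompactMor ⊓ AlgSp.IsQuasiSeparatedMor) (diag b) :=
    with_diag_cancel good_qcqs comp_qcqs (fun _ _ hX hY a ha => qcqs_diagonal hX hY a ha)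
      h𝒵.isStack.1 h𝒴.isStack.1 selfOver_algStack.isStack.1 b (toSelf 𝒴) (by rw [comp_toSelf]; exact hZ')
      (with_mono_prop (fun _ _ _ _ a ha => ha.2) hY')
  have h1 := with_diag_fpFst b a hb
  have h2 := with_diag_comp good_qcqs comp_qcqs (isFibGrpd_fp h𝒳.isStack.1 h𝒵.isStack.1 h𝒴.isStack.1)
    h𝒳.isStack.1 (fpFst a b) (toSelf 𝒳) h1 hX'
  rw [comp_toSelf] at h2
  exact h2

theorem qc_of_space_chart {𝒳 : _root_.AlgSt.Cat S} (Z : AlgSp.Space S) (x : _root_.AlgSt.ofSp Z.obj ⥤ᵇ 𝒳)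
    (h : AlgSp.IsQuasiCompactSp Z.obj) (hs : _root_.AlgSt.RepByAlgSpWith (AlgSp.LocP @Smooth) x)
    (hss : _root_.AlgSt.RepByAlgSpWith AlgSp.IsSurjectiveMor x) : _root_.AlgSt.IsQuasiCompact 𝒳 := by
  obtain ⟨T, t, ht, hts, hT⟩ := exists_affine_chart h
  have hZ : IsFibGrpd (_root_.AlgSt.ofSp Z.obj).p := isFibGrpd_of_rep ⟨Z, BasedFunctor.id _, equiv_id _⟩
  let c := BasedFunctor.comp (_root_.AlgSt.ofOverCat T) (_root_.AlgSt.ofSpMap t)
  exact ⟨T, BasedFunctor.comp c x, hT,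
    with_comp good_smooth comp_smooth (isFibGrpd_overCat T) hZ c x (with_chart good_smooth Z (BasedFunctor.id _) (equiv_id _) t
      (AlgSpTopo.smooth_of_isEtaleMor (AlgSp.isEtaleMor_of_repWith t ht))) hs,
    with_comp good_surjective comp_surjective (isFibGrpd_overCat T) hZ c x
      (with_chart good_surjective Z (BasedFunctor.id _) (equiv_id _) t (AlgSpTopo.surjective_of_repWith hts)) hss⟩

theorem qc_iff_space_chart {𝒳 : _root_.AlgSt.Cat S} :
    _root_.AlgSt.IsQuasiCompact 𝒳 ↔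
      ∃ (U : AlgSp.Space S) (x : _root_.AlgSt.ofSp U.obj ⥤ᵇ 𝒳), AlgSp.IsQuasiCompactSp U.obj ∧
        _root_.AlgSt.RepByAlgSpWith (AlgSp.LocP @Smooth) x ∧ _root_.AlgSt.RepByAlgSpWith AlgSp.IsSurjectiveMor x := by
  refine ⟨?_, fun ⟨U, x, h, h1, h2⟩ => qc_of_space_chart U x h h1 h2⟩
  rintro ⟨U, x, hU, h1, h2⟩
  haveI := hU
  let e : BasedFunctor.comp (BasedFunctor.comp (_root_.AlgSt.toOverCat U) x) (BasedFunctor.id _) ≅
      BasedFunctor.comp (_root_.AlgSt.toOverCat U) x := eqToIso rfl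
  exact ⟨⟨_, AlgSp.IsAlgSpace.yon_obj U⟩, BasedFunctor.comp (_root_.AlgSt.toOverCat U) x,
    AlgSpTopo.isQuasiCompactSp_yon U,
    (with_iff x _ (_root_.AlgSt.toOverCat U) (BasedFunctor.id _) (toOver_equiv U) (equiv_id _) e).1 h1,
    (with_iff x _ (_root_.AlgSt.toOverCat U) (BasedFunctor.id _) (toOver_equiv U) (equiv_id _) e).1 h2⟩

theorem qc_iff_compact_chart {𝒳 : _root_.AlgSt.Cat S} :
    _root_.AlgSt.IsQuasiCompact 𝒳 ↔
      ∃ (U : Over S) (x : overCat U ⥤ᵇ 𝒳), CompactSpace ↥U.left ∧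
        _root_.AlgSt.RepByAlgSpWith (AlgSp.LocP @Smooth) x ∧ _root_.AlgSt.RepByAlgSpWith AlgSp.IsSurjectiveMor x := by
  refine ⟨fun ⟨U, x, hU, h1, h2⟩ => ⟨U, x, by haveI := hU; infer_instance, h1, h2⟩, ?_⟩
  rintro ⟨U, x, hU, h1, h2⟩
  haveI := hU
  let e : BasedFunctor.comp (BasedFunctor.comp (_root_.AlgSt.toOverCat U) x) (BasedFunctor.id _) ≅
      BasedFunctor.comp (_root_.AlgSt.toOverCat U) x := eqToIso rfl
  exact qc_of_space_chart ⟨_, AlgSp.IsAlgSpace.yon_obj U⟩ (BasedFunctor.comp (_root_.AlgSt.toOverCat U) x)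
    (AlgSpTopo.isQuasiCompactSp_yon U)
    ((with_iff x _ (_root_.AlgSt.toOverCat U) (BasedFunctor.id _) (toOver_equiv U) (equiv_id _) e).1 h1)
    ((with_iff x _ (_root_.AlgSt.toOverCat U) (BasedFunctor.id _) (toOver_equiv U) (equiv_id _) e).1 h2)

end Groth.Agent.H7.AlgSt
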