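import Groth.Agent.H7.AlgSt.Bridge
import Groth.Agent.AlgSpTopo.RepBySp
import Groth.Agent.AlgSpTopo.Pullback
import Groth.Agent.Lead.FibCat.Diag

/-! Representability by algebraic spaces: bridge to presheaves, fibre products, diagonal. -/

set_option autoImplicit false
set_option backward.isDefEq.respectTransparency false
set_option backward.isDefEq.respectTransparency.types false

universe w v v₂ v₃ u₂ u₃ u

open CategoryTheory CategoryTheory.Limits CategoryTheory.Functor AlgebraicGeometry FibCat Opposite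
open Groth.Agent.LeadFibCat Groth.Agent.H7.Stk.Glue Groth.Agent.H7.Stk.Congr

namespace Groth.Agent.H7.AlgSt

variable {S : Scheme.{u}}

theorem rep_of_equiv {𝒳 : BasedCategory.{v₂, u₂} (Over S)} {𝒴 : BasedCategory.{v₃, u₃} (Over S)} {Φ : 𝒳 ⥤ᵇ 𝒴}
    (hΦ : IsEquivOver Φ) (h : _root_.AlgSt.RepByAlgSp 𝒳) : _root_.AlgSt.RepByAlgSp 𝒴 := by
  obtain ⟨F, e, he⟩ := h
  exact ⟨F, BasedFunctor.comp e Φ, equiv_comp he hΦ⟩

theorem rep_of_equiv' {𝒳 : BasedCategory.{v₂, u₂} (Over S)} {𝒴 : BasedCategory.{v₃, u₃} (Over S)} {Φ : 𝒳 ⥤ᵇ 𝒴}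
    (hΦ : IsEquivOver Φ) (h : _root_.AlgSt.RepByAlgSp 𝒴) : _root_.AlgSt.RepByAlgSp 𝒳 := by
  obtain ⟨G, hG, -⟩ := equiv_inv hΦ
  exact rep_of_equiv hG h

theorem rep_overCat (U : Over S) : _root_.AlgSt.RepByAlgSp (overCat U) :=
  ⟨⟨(AlgSp.yon S).obj U, AlgSp.IsAlgSpace.yon_obj U⟩, _root_.AlgSt.toOverCat U, toOver_equiv U⟩

/-- the fibre product of a slice over a category of a presheaf -/
theorem fp_rep {U : Over S} {F G : AlgSp.PSp S} (y : overCat U ⥤ᵇ _root_.Stk.ofPsh G) (a : F ⟶ G)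
    (ξ : (AlgSp.pyon S).obj U ⟶ G) (α : _root_.Stk.ofPshMap ξ ≅ BasedFunctor.comp (_root_.AlgSt.toOverCat U) y)
    {W : AlgSp.PSp S} {p : W ⟶ (AlgSp.pyon S).obj U} {q : W ⟶ F} (sq : IsPullback p q ξ a) :
    ∃ E : _root_.Stk.ofPsh W ⥤ᵇ fp y (_root_.Stk.ofPshMap a), IsEquivOver E ∧
      BasedFunctor.comp E (fpFst _ _) = BasedFunctor.comp (_root_.Stk.ofPshMap p) (_root_.AlgSt.toOverCat U) := by
  obtain ⟨E, hE, h1, -⟩ := fp_ofPsh sq
  obtain ⟨Θ, hΘ, h2, -⟩ := transport_fst y (_root_.Stk.ofPshMap a) (_root_.Stk.ofPshMap ξ) (_root_.Stk.ofPshMap a)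
    (_root_.AlgSt.toOverCat U) (BasedFunctor.id _) (BasedFunctor.id _) (toOver_equiv U) (equiv_id _)
    (id_ff _).1 (id_ff _).2 α (Iso.refl _)
  refine ⟨BasedFunctor.comp E Θ, equiv_comp hE hΘ, ?_⟩
  rw [show BasedFunctor.comp (BasedFunctor.comp E Θ) (fpFst _ _) =
    BasedFunctor.comp (BasedFunctor.comp E (fpFst _ _)) (_root_.AlgSt.toOverCat U) from congrArg (BasedFunctor.comp E) h2,
    h1]

theorem repBySp_iff {F G : AlgSp.PSp S} (a : F ⟶ G) :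
    AlgSp.RepBySp a ↔ _root_.AlgSt.RepByAlgSp1 (_root_.Stk.ofPshMap a) := by
  constructor
  · intro ha U y
    let ξ : (AlgSp.pyon S).obj U ⟶ G := toMap (BasedFunctor.comp (_root_.AlgSt.toOverCat U) y)
    have sq := IsPullback.of_hasPullback ξ a
    obtain ⟨h, hA⟩ := ha ξ _ _ sq.flip
    obtain ⟨E, hE, -⟩ := fp_rep y a ξ (isoToMap _).symm sq
    exact ⟨⟨⟨_, h⟩, hA⟩, E, hE⟩
  · intro ha U ξ F' fst snd sq
    let y : overCat U ⥤ᵇ _root_.Stk.ofPsh G := BasedFunctor.comp (_root_.AlgSt.ofOverCat U) (_root_.Stk.ofPshMap ξ)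
    obtain ⟨E, hE, -⟩ := fp_rep y a ξ (eqToIso rfl) sq.flip
    obtain ⟨X, e, he⟩ := ha U y
    obtain ⟨E', hE', -⟩ := equiv_inv hE
    haveI := isIso_toMap (equiv_comp he hE')
    exact ((AlgSp.isAlgSpaceP_obj_iff _).2 X.property).of_iso (asIso (toMap (BasedFunctor.comp e E')))

theorem repBySpWith_iff (Q : MorphismProperty (AlgSp.Sp S)) [Q.RespectsIso] {F G : AlgSp.PSp S} (a : F ⟶ G) :
    AlgSp.RepBySpWith Q a ↔ _root_.AlgSt.RepByAlgSpWith Q (_root_.Stk.ofPshMap a) := by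
  constructor
  · intro ha U y
    let ξ : (AlgSp.pyon S).obj U ⟶ G := toMap (BasedFunctor.comp (_root_.AlgSt.toOverCat U) y)
    have sq := IsPullback.of_hasPullback ξ a
    obtain ⟨h, hA, hQ⟩ := ha ξ _ _ sq.flip
    obtain ⟨E, hE, h1⟩ := fp_rep y a ξ (isoToMap _).symm sq
    refine ⟨⟨⟨_, h⟩, hA⟩, E, hE, ?_⟩
    convert hQ using 1
    apply ObjectProperty.hom_ext
    refine (spMapOfOver_comp (F := ⟨_, h⟩) (BasedFunctor.id _) (pullback.fst ξ a) _ (eqToIso h1)).trans ?_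
    rw [toMap_id, Category.id_comp]
    rfl
  · intro ha U ξ F' fst snd sq
    let y : overCat U ⥤ᵇ _root_.Stk.ofPsh G := BasedFunctor.comp (_root_.AlgSt.ofOverCat U) (_root_.Stk.ofPshMap ξ)
    obtain ⟨E, hE, h1⟩ := fp_rep y a ξ (eqToIso rfl) sq.flip
    obtain ⟨X, e, he, hQ⟩ := ha U y
    obtain ⟨E', hE', ⟨c⟩⟩ := equiv_inv hE
    let K := BasedFunctor.comp e E'
    haveI := isIso_toMap (equiv_comp he hE')
    have hA := ((AlgSp.isAlgSpaceP_obj_iff _).2 X.property).of_iso (asIso (toMap K))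
    obtain ⟨h, hA⟩ := hA
    refine ⟨h, hA, ?_⟩
    let m : X.obj ⟶ (⟨F', h⟩ : AlgSp.Sp S) := ObjectProperty.homMk (toMap K)
    haveI : IsIso ((sheafToPresheaf (AlgSp.J S) _).map m) := inferInstanceAs (IsIso (toMap K))
    haveI : IsIso m := isIso_of_reflects_iso m (sheafToPresheaf (AlgSp.J S) _)
    have key : _root_.AlgSt.spMapOfOver (BasedFunctor.comp e (fpFst y (_root_.Stk.ofPshMap a))) =
        m ≫ ObjectProperty.homMk snd := by
      apply ObjectProperty.hom_ext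
      exact spMapOfOver_comp K snd _
        (whiskR (whiskL e c).symm (fpFst _ _) ≪≫ eqToIso (congrArg (BasedFunctor.comp K) h1))
    rw [key] at hQ
    exact (MorphismProperty.cancel_left_of_respectsIso Q m _).1 hQ

/-- morphisms between representable categories are representable -/
theorem rep1_of_rep {𝒳 : BasedCategory.{v₂, u₂} (Over S)} {𝒴 : BasedCategory.{v₃, u₃} (Over S)}
    (hX : _root_.AlgSt.RepByAlgSp 𝒳) (hY : _root_.AlgSt.RepByAlgSp 𝒴) (f : 𝒳 ⥤ᵇ 𝒴) :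
    _root_.AlgSt.RepByAlgSp1 f := by
  intro U y
  obtain ⟨X, eX, heX⟩ := hX
  obtain ⟨Y, eY, heY⟩ := hY
  obtain ⟨G, hG, -⟩ := equiv_inv heY
  obtain ⟨Φ, hΦ, -⟩ := transport_fst (BasedFunctor.comp y G) (BasedFunctor.comp f G) y f (BasedFunctor.id _)
    (BasedFunctor.id _) G (equiv_id _) (equiv_id _) (equiv_props hG).1 (equiv_props hG).2.1 (Iso.refl _) (Iso.refl _)
  refine rep_of_equiv' hΦ ?_
  let ξ : (AlgSp.yon S).obj U ⟶ Y.obj :=
    ObjectProperty.homMk (toMap (BasedFunctor.comp (_root_.AlgSt.toOverCat U) (BasedFunctor.comp y G)))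
  let m : X.obj ⟶ Y.obj := ObjectProperty.homMk (toMap (BasedFunctor.comp eX (BasedFunctor.comp f G)))
  have sq := (IsPullback.of_hasPullback ξ m).map (sheafToPresheaf (AlgSp.J S) _)
  obtain ⟨E, hE, -⟩ := fp_ofPsh sq
  obtain ⟨Θ, hΘ, -⟩ := transport_fst (BasedFunctor.comp y G) (BasedFunctor.comp f G) (_root_.Stk.ofPshMap ξ.hom)
    (_root_.Stk.ofPshMap m.hom) (_root_.AlgSt.toOverCat U) eX (BasedFunctor.id _) (toOver_equiv U) heX
    (id_ff _).1 (id_ff _).2 (isoToMap _).symm (isoToMap _).symm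
  exact rep_of_equiv hΘ ⟨⟨pullback ξ m,
    AlgSpTopo.isAlgSpace_pullback (AlgSp.IsAlgSpace.yon_obj U) Y.property X.property ξ m⟩, E, hE⟩

/-- the fibre product with a representable category is representable -/
theorem rep_fp {𝒳 𝒴 𝒵 : _root_.AlgSt.Cat S} (h𝒳 : IsFibGrpd 𝒳.p) (h𝒴 : IsFibGrpd 𝒴.p) (f : 𝒳 ⥤ᵇ 𝒴)
    (g : 𝒵 ⥤ᵇ 𝒴) (hf : _root_.AlgSt.RepByAlgSp1 f) (hZ : _root_.AlgSt.RepByAlgSp 𝒵) :
    _root_.AlgSt.RepByAlgSp (fp g f) := by
  obtain ⟨Z, eZ, heZ⟩ := hZ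
  obtain ⟨Φ, hΦ, -⟩ := change_fst g f eZ heZ
  refine rep_of_equiv hΦ ?_
  let g' := BasedFunctor.comp eZ g
  have hfib : IsFibGrpd (fp g' f).p := isFibGrpd_fp (_root_.Stk.isFibGrpd_ofPsh _) h𝒳 h𝒴
  obtain ⟨P, E, hE⟩ := exists_presheaf hfib
    (thin_fp g' f (thin_ofPsh _) (faithful_of_rep1 h𝒳 h𝒴 f hf))
  obtain ⟨E', hE', -⟩ := equiv_inv hE
  refine rep_of_equiv' hE ?_
  let π : P ⟶ Z.obj.obj := toMap (BasedFunctor.comp E' (fpFst g' f))
  have hπ : AlgSp.RepBySp π := by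
    rw [repBySp_iff]
    intro U y
    obtain ⟨Θ, hΘ, -⟩ := transport_fst y (fpFst g' f) y (_root_.Stk.ofPshMap π) (BasedFunctor.id _) E'
      (BasedFunctor.id _) (equiv_id _) hE' (id_ff _).1 (id_ff _).2 (Iso.refl _) (isoToMap _).symm
    obtain ⟨Ψ, hΨ, -⟩ := paste_fst' y g' f
    exact rep_of_equiv' hΘ (rep_of_equiv hΨ (hf U (BasedFunctor.comp y g')))
  obtain ⟨h, hA⟩ := AlgSpTopo.isAlgSpaceP_of_repBySp hπ ((AlgSp.isAlgSpaceP_obj_iff _).2 Z.property)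
  exact ⟨⟨⟨P, h⟩, hA⟩, BasedFunctor.id _, equiv_id _⟩

theorem rep_fp' {𝒳 𝒴 𝒵 : _root_.AlgSt.Cat S} (h𝒳 : IsFibGrpd 𝒳.p) (h𝒴 : IsFibGrpd 𝒴.p) (f : 𝒳 ⥤ᵇ 𝒴)
    (g : 𝒵 ⥤ᵇ 𝒴) (hf : _root_.AlgSt.RepByAlgSp1 f) (hZ : _root_.AlgSt.RepByAlgSp 𝒵) :
    _root_.AlgSt.RepByAlgSp (fp f g) := by
  obtain ⟨Φ, hΦ, -⟩ := swap g f
  exact rep_of_equiv' hΦ (rep_fp h𝒳 h𝒴 f g hf hZ)

theorem rep_prod (U V : Over S) :
    _root_.AlgSt.RepByAlgSp (fp (toSelf (overCat U)) (toSelf (overCat V))) := by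
  let a := overMap (Limits.prod.fst : U ⨯ V ⟶ U)
  let b := overMap (Limits.prod.snd : U ⨯ V ⟶ V)
  let E : overCat (U ⨯ V) ⥤ᵇ fp (toSelf (overCat U)) (toSelf (overCat V)) :=
    lift' a b (fun _ => Iso.refl _) (fun _ => (Category.comp_id _).trans (Category.id_comp _).symm) (fun _ => Vert.id _)
  refine rep_of_equiv (Φ := E) (isEquivOver_mk E (fun {p p'} ψ => ?_) (fun {p p'} φ φ' h => ?_) fun η => ?_)
    (rep_overCat _)
  · have hl : ψ.hom.snd.left = ψ.hom.fst.left := by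
      have h : ψ.hom.fst.left ≫ 𝟙 p'.left = 𝟙 p.left ≫ ψ.hom.snd.left := ψ.hom.w
      exact (h.trans (Category.id_comp _)).symm.trans (Category.comp_id _)
    refine ⟨Over.homMk ψ.hom.fst.left ?_, fp_ext (Over.OverMorphism.ext rfl) (Over.OverMorphism.ext hl.symm)⟩
    apply prod.hom_ext
    · rw [Category.assoc]; exact Over.w ψ.hom.fst
    · rw [Category.assoc, ← hl]; exact Over.w ψ.hom.snd
  · exact Over.OverMorphism.ext (congrArg (fun m => m.hom.fst.left) h :)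
  · obtain ⟨e, he⟩ := fp_vert η
    let p : (overCat (U ⨯ V)).obj :=
      Over.mk (prod.lift η.obj.fst.hom (CategoryTheory.eqToHom (C := Over S) e ≫ η.obj.snd.hom))
    let ea : a.obj p ≅ η.obj.fst := Over.isoMk (Iso.refl _) (by simp [a, p, overMap])
    let eb : b.obj p ≅ η.obj.snd := Over.isoMk (CategoryTheory.eqToIso (C := Over S) e) (by simp [b, p, overMap])
    refine ⟨p, fpIsoMk ea eb ?_, Vert.id (p := (overCat U).p) η.obj.fst |> fun _ => ⟨rfl, rfl⟩⟩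
    show 𝟙 η.obj.fst.left ≫ η.obj.iso.hom = 𝟙 η.obj.fst.left ≫ eb.hom.left
    exact congrArg _ he

theorem rep_diag {𝒳 : _root_.AlgSt.Cat S} (h : ∀ (U : Over S) (x : overCat U ⥤ᵇ 𝒳), _root_.AlgSt.RepByAlgSp1 x) :
    _root_.AlgSt.RepByAlgSp1 (diag (toSelf 𝒳)) := by
  intro U K
  let x : overCat U ⥤ᵇ 𝒳 := BasedFunctor.comp K (fpFst _ _)
  let y : overCat U ⥤ᵇ 𝒳 := BasedFunctor.comp K (fpSnd _ _)
  let D : overCat U ⥤ᵇ fp (toSelf (overCat U)) (toSelf (overCat U)) := diag (toSelf (overCat U))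
  let π : fp x y ⥤ᵇ fp (toSelf (overCat U)) (toSelf (overCat U)) :=
    lift' (fpFst x y) (fpSnd x y) (fun w => CategoryTheory.eqToIso (C := Over S) (fp_snd_obj w).symm)
      (fun {w w'} φ => by
        show φ.hom.fst.left ≫ CategoryTheory.eqToHom (fp_snd_obj w').symm =
          CategoryTheory.eqToHom (fp_snd_obj w).symm ≫ φ.hom.snd.left
        rw [show φ.hom.snd.left = _ from fp_snd_map φ]
        exact (eqToHom_trans_assoc (fp_snd_obj w).symm (fp_snd_obj w) _).symm ▸ (Category.id_comp _).symm)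
      (fun w => Vert.eqToHom (p := (selfOver (Over S)).p) (fp_snd_obj w).symm)
  have hM : _root_.AlgSt.RepByAlgSp (fp x y) := h U y U x
  have hP : _root_.AlgSt.RepByAlgSp (fp D π) :=
    rep_fp (isFibGrpd_of_rep hM) (isFibGrpd_of_rep (rep_prod U U)) π D (rep1_of_rep hM (rep_prod U U) π)
      (rep_overCat U)
  let i1 : ∀ w : (fp K (diag (toSelf 𝒳))).obj, x.obj w.obj.fst ≅ w.obj.snd := fun w =>
    (CategoricalPullback.π₁ _ _).mapIso ((fpProp _ _).ι.mapIso w.obj.iso)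
  let i2 : ∀ w : (fp K (diag (toSelf 𝒳))).obj, y.obj w.obj.fst ≅ w.obj.snd := fun w =>
    (CategoricalPullback.π₂ _ _).mapIso ((fpProp _ _).ι.mapIso w.obj.iso)
  have hi1 : ∀ w, Vert 𝒳.p (i1 w).hom := fun w => (fp_vert w).map (F := fpFst (toSelf 𝒳) (toSelf 𝒳))
  have hi2 : ∀ w, Vert 𝒳.p (i2 w).hom := fun w => (fp_vert w).map (F := fpSnd (toSelf 𝒳) (toSelf 𝒳))
  have hn1 : ∀ {w w' : (fp K (diag (toSelf 𝒳))).obj} (φ : w ⟶ w'),
      x.map φ.hom.fst ≫ (i1 w').hom = (i1 w).hom ≫ φ.hom.snd :=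
    fun φ => congrArg (fun q => q.hom.fst) φ.hom.w
  have hn2 : ∀ {w w' : (fp K (diag (toSelf 𝒳))).obj} (φ : w ⟶ w'),
      y.map φ.hom.fst ≫ (i2 w').hom = (i2 w).hom ≫ φ.hom.snd :=
    fun φ => congrArg (fun q => q.hom.snd) φ.hom.w
  let M : fp K (diag (toSelf 𝒳)) ⥤ᵇ fp x y :=
    lift' (fpFst _ _) (fpFst _ _) (fun w => i1 w ≪≫ (i2 w).symm)
      (fun {w w'} φ => by
        show x.map φ.hom.fst ≫ (i1 w').hom ≫ (i2 w').inv = ((i1 w).hom ≫ (i2 w).inv) ≫ y.map φ.hom.fst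
        rw [← Category.assoc, hn1, Category.assoc, Category.assoc]
        congr 1
        rw [Iso.eq_inv_comp, ← Category.assoc, Iso.comp_inv_eq]
        exact (hn2 φ).symm)
      (fun w => (hi1 w).comp (hi2 w).symm)
  let Φ : fp K (diag (toSelf 𝒳)) ⥤ᵇ fp D π :=
    lift' (fpFst _ _) M
      (fun w => fpIsoMk (Iso.refl _) (Iso.refl _) (by
        show 𝟙 w.obj.fst.left ≫ 𝟙 w.obj.fst.left = 𝟙 w.obj.fst.left ≫ 𝟙 w.obj.fst.left
        rfl))
      (fun φ => fp_ext ((Category.comp_id _).trans (Category.id_comp _).symm)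
        ((Category.comp_id _).trans (Category.id_comp _).symm))
      (fun w => Vert.id (p := (overCat U).p) w.obj.fst)
  refine rep_of_equiv' (Φ := Φ) (isEquivOver_mk Φ (fun {w w'} ψ => ?_) (fun {w w'} φ φ' e => ?_) fun η => ?_) hP
  · let m : w.obj.fst ⟶ w'.obj.fst := ψ.hom.fst
    have e1 : ψ.hom.snd.hom.fst = m := by
      have h : m ≫ 𝟙 _ = 𝟙 _ ≫ ψ.hom.snd.hom.fst := congrArg (fun q => q.hom.fst) ψ.hom.w
      exact (h.trans (Category.id_comp _)).symm.trans (Category.comp_id _)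
    have e2 : ψ.hom.snd.hom.snd = m := by
      have h : m ≫ 𝟙 _ = 𝟙 _ ≫ ψ.hom.snd.hom.snd := congrArg (fun q => q.hom.snd) ψ.hom.w
      exact (h.trans (Category.id_comp _)).symm.trans (Category.comp_id _)
    have hw : x.map m ≫ (i1 w').hom ≫ (i2 w').inv = ((i1 w).hom ≫ (i2 w).inv) ≫ y.map m := by
      have h : x.map ψ.hom.snd.hom.fst ≫ (i1 w').hom ≫ (i2 w').inv =
          ((i1 w).hom ≫ (i2 w).inv) ≫ y.map ψ.hom.snd.hom.snd := ψ.hom.snd.hom.w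
      rwa [e1, e2] at h
    refine ⟨fpHom m ((i2 w).inv ≫ y.map m ≫ (i2 w').hom) (fp_ext ?_ ?_), fp_ext rfl (fp_ext e1.symm e2.symm)⟩
    · show x.map m ≫ (i1 w').hom = (i1 w).hom ≫ (i2 w).inv ≫ y.map m ≫ (i2 w').hom
      have := congrArg (· ≫ (i2 w').hom) hw
      simpa using this
    · show y.map m ≫ (i2 w').hom = (i2 w).hom ≫ (i2 w).inv ≫ y.map m ≫ (i2 w').hom
      rw [Iso.hom_inv_id_assoc]
  · have hm : φ.hom.fst = φ'.hom.fst := congrArg (fun q => q.hom.fst) e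
    refine fp_ext hm ?_
    rw [← cancel_epi (i1 w).hom, ← hn1, ← hn1, hm]
  · let u : Over U := η.obj.fst
    let j := η.obj.snd.obj.iso
    let ia : u ≅ η.obj.snd.obj.fst := (CategoricalPullback.π₁ _ _).mapIso ((fpProp _ _).ι.mapIso η.obj.iso)
    let ib : u ≅ η.obj.snd.obj.snd := (CategoricalPullback.π₂ _ _).mapIso ((fpProp _ _).ι.mapIso η.obj.iso)
    have hia : Vert (overCat U).p ia.hom := (fp_vert η).map (F := fpFst (toSelf (overCat U)) (toSelf (overCat U)))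
    have hib : Vert (overCat U).p ib.hom := (fp_vert η).map (F := fpSnd (toSelf (overCat U)) (toSelf (overCat U)))
    let ei : x.obj u ≅ y.obj u := x.toFunctor.mapIso ia ≪≫ j ≪≫ (y.toFunctor.mapIso ib).symm
    have hei : Vert 𝒳.p ei.hom :=
      hia.map.comp ((fp_vert η.obj.snd).comp (Vert.symm (e := y.toFunctor.mapIso ib) hib.map))
    let z : (fp K (diag (toSelf 𝒳))).obj :=
      fpMk u (y.obj u) (fpIsoMk ei (Iso.refl _) (by
        show 𝒳.p.map ei.hom ≫ 𝟙 _ = (K.obj u).obj.iso.hom ≫ 𝒳.p.map (𝟙 _)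
        rw [𝒳.p.map_id, prod_iso_hom, hei.map_eq]
        exact (Category.comp_id _).trans (Category.comp_id _).symm)) hei
    refine ⟨z, fpIsoMk (Iso.refl u) (fpIsoMk ia ib ?_) ?_, Vert.id (p := (overCat U).p) u⟩
    · show x.map ia.hom ≫ j.hom = ((i1 z).hom ≫ (i2 z).inv) ≫ y.map ib.hom
      rw [show (i1 z).hom = x.map ia.hom ≫ j.hom ≫ (y.toFunctor.mapIso ib).inv from rfl,
        show (i2 z).inv = 𝟙 _ from rfl]
      simp
    · refine fp_ext ?_ ?_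
      · show 𝟙 u ≫ ia.hom = 𝟙 u ≫ ia.hom
        rfl
      · show 𝟙 u ≫ ib.hom = 𝟙 u ≫ ib.hom
        rfl

theorem rep_of_diag {𝒳 : _root_.AlgSt.Cat S} (hΔ : _root_.AlgSt.RepByAlgSp1 (diag (toSelf 𝒳))) (U : Over S)
    (G : overCat U ⥤ᵇ 𝒳) : _root_.AlgSt.RepByAlgSp1 G := by
  intro V H
  let a := overMap (Limits.prod.fst : V ⨯ U ⟶ V)
  let b := overMap (Limits.prod.snd : V ⨯ U ⟶ U)
  have hp : ∀ p : (overCat (V ⨯ U)).obj, (selfOver (Over S)).p.obj ((BasedFunctor.comp H (toSelf 𝒳)).obj (a.obj p)) =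
      (selfOver (Over S)).p.obj ((BasedFunctor.comp G (toSelf 𝒳)).obj (b.obj p)) :=
    fun p => (pobj H (a.obj p)).trans (pobj G (b.obj p)).symm
  let E : overCat (V ⨯ U) ⥤ᵇ fp (BasedFunctor.comp H (toSelf 𝒳)) (BasedFunctor.comp G (toSelf 𝒳)) :=
    lift' a b (fun p => eqToIso (hp p))
      (fun {p p'} g => by
        show 𝒳.p.map (H.map (a.map g)) ≫ eqToHom (hp p') = eqToHom (hp p) ≫ 𝒳.p.map (G.map (b.map g))
        rw [pmap H, pmap G]
        simp only [Category.assoc, eqToHom_trans, eqToHom_trans_assoc]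
        rfl)
      (fun p => Vert.eqToHom (p := (selfOver (Over S)).p) (hp p))
  have hE : IsEquivOver E := by
    refine isEquivOver_mk E (fun {p p'} ψ => ?_) (fun {p p'} φ φ' h => ?_) (fun η => ?_)
    · have hl : ψ.hom.snd.left = ψ.hom.fst.left := by
        exact (fp_snd_map ψ).trans ((Category.id_comp _).trans (Category.comp_id _))
      refine ⟨Over.homMk ψ.hom.fst.left ?_, fp_ext (Over.OverMorphism.ext rfl) (Over.OverMorphism.ext hl.symm)⟩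
      apply prod.hom_ext
      · rw [Category.assoc]; exact Over.w ψ.hom.fst
      · rw [Category.assoc, ← hl]; exact Over.w ψ.hom.snd
    · exact Over.OverMorphism.ext (congrArg (fun m => m.hom.fst.left) h :)
    · let e : η.obj.fst.left = η.obj.snd.left := (fp_snd_obj η).symm
      let p : (overCat (V ⨯ U)).obj := Over.mk (prod.lift η.obj.fst.hom (eqToHom e ≫ η.obj.snd.hom))
      let ea : a.obj p ≅ η.obj.fst := Over.isoMk (Iso.refl _) (by simp [a, p, overMap])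
      let eb : b.obj p ≅ η.obj.snd := Over.isoMk (eqToIso e) (by simp [b, p, overMap])
      refine ⟨p, fpIsoMk ea eb ?_, Vert.id (p := (overCat V).p) η.obj.fst |> fun _ => ⟨rfl, rfl⟩⟩
      show 𝒳.p.map (H.map ea.hom) ≫ η.obj.iso.hom = eqToHom (hp p) ≫ 𝒳.p.map (G.map eb.hom)
      have h0 : η.obj.iso.hom = eqToHom (fp_vert η).1 := (fp_vert η).map_eq
      rw [h0, pmap H, pmap G, show (overCat V).p.map ea.hom = 𝟙 _ from rfl, show (overCat U).p.map eb.hom = eqToHom e from rfl]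
      simp
  obtain ⟨K, Φ, hΦ⟩ := graph G (toSelf 𝒳) H E hE
  exact rep_of_equiv hΦ (hΔ _ K)

end Groth.Agent.H7.AlgSt
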