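import Groth.Agent.H7.AlgSt.Cancel
import Groth.Agent.S10521
import Groth.Agent.S10528
import Groth.Agent.S10534
import Groth.Agent.S10535

/-! Separation of representable morphisms. -/

set_option autoImplicit false
set_option backward.isDefEq.respectTransparency false
set_option backward.isDefEq.respectTransparency.types false

universe w v v₂ v₃ u₂ u₃ u

open CategoryTheory CategoryTheory.Limits CategoryTheory.Functor AlgebraicGeometry FibCat Opposite
open Groth.Agent.LeadFibCat Groth.Agent.H7.Stk.Glue Groth.Agent.H7.Stk.Congr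

namespace Groth.Agent.H7.AlgSt

variable {S : Scheme.{u}} {P : MorphismProperty (AlgSp.Sp S)}

theorem good_closedImm : Good (S := S) (AlgSp.RepWith @IsClosedImmersion) :=
  repWith_good @IsClosedImmersion (Groth.Agent.S10534.result S)

theorem good_uc : Good (S := S) AlgSp.IsUnivClosedMor :=
  good_fpqc (fun _ _ _ _ _ _ _ _ _ b _ b' sq h _ _ hA k fst snd sq' =>
    h hA (k ≫ b) (fst ≫ b') snd (sq'.paste_horiz sq)) (Groth.Agent.S10521.result S)

theorem good_ft : Good (S := S) AlgSp.IsFiniteTypeMor where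
  bc := fun _ _ _ _ h1 h2 h3 h4 a b a' b' sq h =>
    ⟨good_lft.bc h1 h2 h3 h4 a b a' b' sq h.1, good_qc.bc h1 h2 h3 h4 a b a' b' sq h.2⟩
  desc := fun _ _ _ _ f t p q h1 h2 h3 ht hts sq h =>
    ⟨good_lft.desc f t p q h1 h2 h3 ht hts sq h.1, good_qc.desc f t p q h1 h2 h3 ht hts sq h.2⟩

theorem with_sep_of_diag {𝒳 𝒴 : _root_.AlgSt.Cat S} (f : 𝒳 ⥤ᵇ 𝒴) (hf : _root_.AlgSt.RepByAlgSp1 f)
    (h : _root_.AlgSt.RepByAlgSpWith AlgSp.IsUnivClosedMor (diag f)) :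
    _root_.AlgSt.RepByAlgSpWith AlgSp.IsSeparatedMor f := fun U y => by
  obtain ⟨F, e, he⟩ := hf U y
  exact ⟨F, e, he, (AlgSpTopo.separatedMor_iff F.property _).2
    ((AlgSpTopo.diagP_closedImmersion_iff F.property _).2
    (AlgSpTopo.diagP_of_univClosed F.property _ (diag_chart_of_with good_uc f h y F e he)))⟩

theorem with_qs_of_diag {𝒳 𝒴 : _root_.AlgSt.Cat S} (f : 𝒳 ⥤ᵇ 𝒴) (hf : _root_.AlgSt.RepByAlgSp1 f)
    (h : _root_.AlgSt.RepByAlgSpWith AlgSp.IsQuasiCompactMor (diag f)) :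
    _root_.AlgSt.RepByAlgSpWith AlgSp.IsQuasiSeparatedMor f := fun U y => by
  obtain ⟨F, e, he⟩ := hf U y
  exact ⟨F, e, he, (AlgSpTopo.repWith_quasiCompact_iff F.property
    (AlgSpTopo.isAlgSpace_pullback F.property (AlgSp.IsAlgSpace.yon_obj U) F.property _ _)
    (AlgSpTopo.representable_diagonal F.property _)).2 (diag_chart_of_with good_qc f h y F e he)⟩

theorem ft_diagonal {X Y : AlgSp.Sp S} (hX : AlgSp.IsAlgSpace X) (hY : AlgSp.IsAlgSpace Y) (a : X ⟶ Y)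
    (h : AlgSp.IsQuasiSeparatedMor a) : AlgSp.IsFiniteTypeMor (pullback.diagonal a) := by
  obtain ⟨hr, h1, -, -, -⟩ := AlgSpTopo.repWith_diagonal_props hX a
  exact ⟨(AlgSpTopo.locP_iff_repWith AlgSpTopo.etaleLocal_locallyOfFiniteType hX
    (AlgSpTopo.isAlgSpace_pullback hX hY hX a a) _ hr).2 h1, (qcqs_diagonal hX hY a h).1⟩

theorem with_diag_of_space_chart {Q : MorphismProperty Scheme.{u}} (hR0 : AlgSpTopo.EtaleLocal Q)
    (hg : Good (S := S) (AlgSp.LocP Q))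
    (hloc : AlgSp.IsLocalOnBase AlgSp.IsFppfCover (AlgSp.LocP (S := S) Q))
    (hc0 : ∀ ⦃A B C : Scheme.{u}⦄ (f : A ⟶ B) (g : B ⟶ C), Q (f ≫ g) → Q f)
    {𝒳 𝒴 : _root_.AlgSt.Cat S} (h𝒳 : _root_.AlgSt.IsAlgStack Scheme.fppfPrecoverage 𝒳)
    (h𝒴 : _root_.AlgSt.IsAlgStack Scheme.fppfPrecoverage 𝒴) (f : 𝒳 ⥤ᵇ 𝒴) (W : AlgSp.Space S)
    (w : _root_.AlgSt.ofSp W.obj ⥤ᵇ 𝒳)
    (h1 : _root_.AlgSt.RepByAlgSpWith (AlgSp.LocP @Flat) w)
    (h2 : _root_.AlgSt.RepByAlgSpWith (AlgSp.LocP @LocallyOfFinitePresentation) w)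
    (h3 : _root_.AlgSt.RepByAlgSpWith AlgSp.IsSurjectiveMor w)
    (h4 : _root_.AlgSt.RepByAlgSpWith (AlgSp.LocP Q) w) : _root_.AlgSt.RepByAlgSpWith (AlgSp.LocP Q) (diag f) := by
  obtain ⟨T, t, ht, hts⟩ := W.property.atlas
  have het := AlgSpTopo.locP_etale_of_isEtaleMor t (AlgSp.isEtaleMor_of_repWith t ht)
  have hT := isFibGrpd_overCat T
  have hW : IsFibGrpd (_root_.AlgSt.ofSp W.obj).p :=
    isFibGrpd_of_rep ⟨W, BasedFunctor.id _, equiv_id _⟩
  let x := BasedFunctor.comp (_root_.AlgSt.ofOverCat T) (_root_.AlgSt.ofSpMap t)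
  have hx : ∀ {P : MorphismProperty (AlgSp.Sp S)}, Good P → P t → _root_.AlgSt.RepByAlgSpWith P x :=
    fun hP hp => with_chart hP W (BasedFunctor.id _) (equiv_id _) t hp
  exact with_diag_of_chart hR0 hg hloc hc0 h𝒳 h𝒴 f (BasedFunctor.comp x w)
    (with_comp good_flat (fun _ _ _ hX hY hZ a b ha hb => AlgSpTopo.locP_comp AlgSpTopo.etaleLocal_flat hX hY hZ a b ha hb)
      hT hW x w (hx good_flat (AlgSpTopo.locP_mono AlgSpTopo.etaleLocal_flat.of_etale het)) h1)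
    (with_comp good_lfp
      (fun _ _ _ hX hY hZ a b ha hb => AlgSpTopo.locP_comp AlgSpTopo.etaleLocal_locallyOfFinitePresentation hX hY hZ a b ha hb)
      hT hW x w (hx good_lfp (AlgSpTopo.locP_mono AlgSpTopo.etaleLocal_locallyOfFinitePresentation.of_etale het)) h2)
    (with_comp good_surjective comp_surjective hT hW x w (hx good_surjective (AlgSpTopo.surjective_of_repWith hts)) h3)
    (with_comp hg (fun _ _ _ hX hY hZ a b ha hb => AlgSpTopo.locP_comp hR0 hX hY hZ a b ha hb)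
      hT hW x w (hx hg (AlgSpTopo.locP_mono hR0.of_etale het)) h4)

end Groth.Agent.H7.AlgSt
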