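import Groth.Agent.H7.AlgSt.QsBase
import Groth.Agent.Lead.FibCat.Fibre

/-! Surjectivity of representable morphisms. -/

set_option autoImplicit false
set_option backward.isDefEq.respectTransparency false
set_option backward.isDefEq.respectTransparency.types false

universe w v v₂ v₃ u₂ u₃ u

open CategoryTheory CategoryTheory.Limits CategoryTheory.Functor AlgebraicGeometry FibCat Opposite
open Groth.Agent.LeadFibCat Groth.Agent.H7.Stk.Glue Groth.Agent.H7.Stk.Congr

namespace Groth.Agent.H7.AlgSt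

variable {S : Scheme.{u}}

theorem points_surjective_of_with {𝒳 𝒴 : _root_.AlgSt.Cat S} (h𝒴 : IsFibGrpd 𝒴.p) (f : 𝒳 ⥤ᵇ 𝒴)
    (h : _root_.AlgSt.RepByAlgSpWith AlgSp.IsSurjectiveMor f) : Function.Surjective (_root_.AlgSt.Points.map f) := fun z => by
  obtain ⟨p, rfl⟩ := _root_.AlgSt.Points.mk_surjective z
  obtain ⟨y, ey, -, -⟩ := yoneda_ess (isFibered_of_isFibGrpd h𝒴) p.obj p.lies
  have hA : _root_.AlgSt.RepByAlgSp (fp y f) := rep1_of_with h _ y
  have hA' := isFibGrpd_of_rep hA
  obtain ⟨Z, e, he⟩ := hA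
  obtain ⟨T, t, ht, hts⟩ := Z.property.atlas
  let c := BasedFunctor.comp (_root_.AlgSt.ofOverCat T) (BasedFunctor.comp (_root_.AlgSt.ofSpMap t) e)
  have h2 := with_comp good_surjective comp_surjective (isFibGrpd_overCat T) hA' c _
    (with_chart good_surjective Z e he t (AlgSpTopo.surjective_of_repWith hts)) (with_fpFst f y h)
  obtain ⟨q, ⟨iq⟩⟩ := exists_overMap (BasedFunctor.comp c (fpFst y f))
  have hsur := surjective_left q (of_with_overMap good_surjective q
    ((with_iff (_root_.AlgSt.overMap q) (BasedFunctor.comp c (fpFst y f)) (BasedFunctor.id _)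
      (BasedFunctor.id _) (equiv_id _) (equiv_id _) iq).2 h2))
  let i : BasedFunctor.comp (fpFst y f) y ≅ BasedFunctor.comp (fpSnd y f) f :=
    isoMk (fun w => w.obj.iso) (fun φ => φ.hom.w) (fun w => fp_vert w)
  let j : BasedFunctor.comp (BasedFunctor.comp c (fpSnd y f)) f ≅ BasedFunctor.comp (_root_.AlgSt.overMap q) y :=
    whiskL c i.symm ≪≫ whiskR iq y
  letI := p.field
  obtain ⟨s, hs⟩ := hsur (default : PrimeSpectrum p.K)
  refine ⟨_root_.AlgSt.Points.ofChart (BasedFunctor.comp c (fpSnd y f)) s, ?_⟩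
  rw [ofChart_map, ofChart_congr j, ofChart_overMap]
  let v := q.left s
  let a : Over (Over.mk p.str) := Over.mk (Over.homMk ((Over.mk p.str).left.fromSpecResidueField v) rfl :
    Over.mk ((Over.mk p.str).left.fromSpecResidueField v ≫ p.str) ⟶ Over.mk p.str)
  let r : _root_.AlgSt.FPt 𝒴 :=
    { K := ↥((Over.mk p.str).left.residueField v), str := (Over.mk p.str).left.fromSpecResidueField v ≫ p.str,
      obj := y.obj a, lies := y.w_obj a }
  exact _root_.AlgSt.Points.sound ⟨r, 𝟙 _, y.map (toTop a) ≫ ey.hom, trivial⟩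

/-- the point of the slice underlying a field-valued point -/
def valSet {U : Over S} (p : _root_.AlgSt.FPt (overCat U)) : Set ↥U.left := Set.range p.obj.hom.left

theorem valSet_rel {U : Over S} {p q : _root_.AlgSt.FPt (overCat U)} (h : _root_.AlgSt.FPt.Rel p q) :
    valSet p = valSet q := by
  obtain ⟨r, a, b, -⟩ := h
  have key : ∀ (p : _root_.AlgSt.FPt (overCat U)), (r.obj ⟶ p.obj) → valSet r = valSet p := fun p a => by
    letI := p.field
    have : Subsingleton ↥p.obj.left.left := by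
      rw [show p.obj.left = Over.mk p.str from p.lies]
      exact inferInstanceAs (Subsingleton (PrimeSpectrum p.K))
    letI := r.field
    have : Nonempty ↥r.obj.left.left := by
      rw [show r.obj.left = Over.mk r.str from r.lies]
      exact inferInstanceAs (Nonempty (PrimeSpectrum r.K))
    have hw : a.left.left ≫ p.obj.hom.left = r.obj.hom.left := congrArg (fun k => k.left) (Over.w a)
    unfold valSet
    rw [← hw]
    refine Set.Subset.antisymm ?_ ?_
    · rintro _ ⟨x, rfl⟩
      exact ⟨_, rfl⟩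
    · rintro _ ⟨x, rfl⟩
      exact ⟨Classical.arbitrary _, congrArg p.obj.hom.left (Subsingleton.elim _ _)⟩
  exact (key p a).symm.trans (key q b)

theorem with_surjective_of_points {𝒳 𝒴 : _root_.AlgSt.Cat S} (h𝒳 : IsFibGrpd 𝒳.p) (h𝒴 : IsFibGrpd 𝒴.p)
    (f : 𝒳 ⥤ᵇ 𝒴) (hf : _root_.AlgSt.RepByAlgSp1 f) (h : Function.Surjective (_root_.AlgSt.Points.map f)) :
    _root_.AlgSt.RepByAlgSpWith AlgSp.IsSurjectiveMor f := fun U y => by
  obtain ⟨Z, e, he⟩ := hf U y
  refine ⟨Z, e, he, fun z => ?_⟩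
  obtain ⟨u, rfl⟩ := AlgSpTopo.ofScheme_surjective U z
  obtain ⟨T, t, ht, hts⟩ := Z.property.atlas
  let c := BasedFunctor.comp (_root_.AlgSt.ofOverCat T) (BasedFunctor.comp (_root_.AlgSt.ofSpMap t) e)
  have hc := with_chart good_surjective Z e he t (AlgSpTopo.surjective_of_repWith hts)
  have hA' := isFibGrpd_of_rep (hf U y)
  let π := _root_.AlgSt.spMapOfOver (BasedFunctor.comp e (fpFst y f))
  obtain ⟨q, hq⟩ := (AlgSp.yon S).map_surjective (t ≫ π)
  obtain ⟨i0⟩ := spMap_iso (BasedFunctor.comp e (fpFst y f))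
  let iq : BasedFunctor.comp c (fpFst y f) ≅ _root_.AlgSt.overMap q :=
    whiskL (BasedFunctor.comp (_root_.AlgSt.ofOverCat T) (_root_.AlgSt.ofSpMap t)) i0.symm ≪≫
      eqToIso (congrArg (fun m => BasedFunctor.comp (BasedFunctor.comp (_root_.AlgSt.ofOverCat T)
        (_root_.AlgSt.ofSpMap m)) (_root_.AlgSt.toOverCat U)) hq.symm)
  let z0 : _root_.AlgSt.Points (overCat U) := _root_.AlgSt.Points.ofChart (BasedFunctor.id _) u
  obtain ⟨x, hx⟩ := h (_root_.AlgSt.Points.map y z0)
  obtain ⟨w, hw, -⟩ := exists_fp_point h𝒳 h𝒴 (isFibGrpd_overCat U) f y z0 x hx.symm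
  obtain ⟨a, rfl⟩ := points_surjective_of_with hA' c hc w
  obtain ⟨p, rfl⟩ := _root_.AlgSt.Points.mk_surjective a
  letI := p.field
  have : Nonempty ↥p.obj.left.left := by
    rw [show p.obj.left = Over.mk p.str from p.lies]
    exact inferInstanceAs (Nonempty (PrimeSpectrum p.K))
  let s : ↥T.left := p.obj.hom.left (Classical.arbitrary _)
  refine ⟨AlgSp.Points.map t (AlgSp.Points.ofScheme T s), ?_⟩
  rw [← AlgSp.Points.map_comp, ← hq, AlgSpTopo.map_ofScheme]
  refine congrArg (AlgSp.Points.ofScheme U) ?_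
  have hrel : valSet ((p.map c).map (fpFst y f)) = valSet (p.map (_root_.AlgSt.overMap q)) :=
    valSet_rel ⟨(p.map c).map (fpFst y f), 𝟙 _, (app iq p.obj).hom, trivial⟩
  have h0 := congrArg (Quot.lift valSet fun _ _ hr => valSet_rel hr) hw
  have h1 : valSet ((p.map c).map (fpFst y f)) = Set.range (U.left.fromSpecResidueField u) := h0
  have h2 : q.left s ∈ Set.range (U.left.fromSpecResidueField u) := by
    rw [← h1, hrel]
    exact ⟨_, rfl⟩
  rw [Scheme.range_fromSpecResidueField] at h2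
  exact h2

end Groth.Agent.H7.AlgSt
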