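import Groth.Agent.H7.AlgSt.Rep
import Groth.Agent.AlgSpTopo.LocInst
import Groth.Agent.AlgSpTopo.ProperMor
import Groth.Agent.AlgSpTopo.LocalST
import Groth.Prelude.Def_AlgSpEt

/-! Morphisms representable by algebraic spaces with a property. -/

set_option autoImplicit false
set_option backward.isDefEq.respectTransparency false
set_option backward.isDefEq.respectTransparency.types false

universe w v v₂ v₃ u₂ u₃ u

open CategoryTheory CategoryTheory.Limits CategoryTheory.Functor AlgebraicGeometry FibCat Opposite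
open Groth.Agent.LeadFibCat Groth.Agent.H7.Stk.Glue Groth.Agent.H7.Stk.Congr

namespace Groth.Agent.H7.AlgSt

variable {S : Scheme.{u}} (P : MorphismProperty (AlgSp.Sp S))

/-- representability of a category over a slice with a property of the structure map -/
def Data {𝒜 : BasedCategory.{v, w} (Over S)} {U : Over S} (p : 𝒜 ⥤ᵇ overCat U) : Prop :=
  ∃ (F : AlgSp.Space S) (e : _root_.AlgSt.ofSp F.obj ⥤ᵇ 𝒜), IsEquivOver e ∧
    P (_root_.AlgSt.spMapOfOver (BasedFunctor.comp e p))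

theorem spMap_congr {F : AlgSp.Sp S} {U : Over S} {Φ Ψ : _root_.AlgSt.ofSp F ⥤ᵇ overCat U} (e : Φ ≅ Ψ) :
    _root_.AlgSt.spMapOfOver Φ = _root_.AlgSt.spMapOfOver Ψ :=
  ObjectProperty.hom_ext _ (toMap_congr (whiskR e (_root_.AlgSt.ofOverCat U)))

theorem spMap_ofMap {F : AlgSp.Sp S} {U : Over S} (m : F ⟶ (AlgSp.yon S).obj U) :
    _root_.AlgSt.spMapOfOver (BasedFunctor.comp (_root_.AlgSt.ofSpMap m) (_root_.AlgSt.toOverCat U)) = m := by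
  apply ObjectProperty.hom_ext
  refine (spMapOfOver_comp (BasedFunctor.id _) m.hom _ (Iso.refl _)).trans ?_
  rw [toMap_id]; exact Category.id_comp _

variable {P}

theorem Data.push {𝒜 : BasedCategory.{v₂, u₂} (Over S)} {ℬ : BasedCategory.{v₃, u₃} (Over S)} {U : Over S}
    {p : 𝒜 ⥤ᵇ overCat U} {q : ℬ ⥤ᵇ overCat U} {Φ : 𝒜 ⥤ᵇ ℬ} (hΦ : IsEquivOver Φ)
    (ε : BasedFunctor.comp Φ q ≅ p) (h : Data P p) : Data P q := by
  obtain ⟨F, e, he, hP⟩ := h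
  refine ⟨F, BasedFunctor.comp e Φ, equiv_comp he hΦ, ?_⟩
  rwa [show _root_.AlgSt.spMapOfOver (BasedFunctor.comp (BasedFunctor.comp e Φ) q) =
    _root_.AlgSt.spMapOfOver (BasedFunctor.comp e p) from spMap_congr (whiskL e ε)]

theorem Data.pull {𝒜 : BasedCategory.{v₂, u₂} (Over S)} {ℬ : BasedCategory.{v₃, u₃} (Over S)} {U : Over S}
    {p : 𝒜 ⥤ᵇ overCat U} {q : ℬ ⥤ᵇ overCat U} {Φ : 𝒜 ⥤ᵇ ℬ} (hΦ : IsEquivOver Φ)
    (ε : BasedFunctor.comp Φ q ≅ p) (h : Data P q) : Data P p := by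
  obtain ⟨G, hG, ⟨c⟩⟩ := equiv_inv hΦ
  exact h.push hG (whiskL G ε.symm ≪≫ whiskR c q)

theorem Data.rep {𝒜 : BasedCategory.{v, w} (Over S)} {U : Over S} {p : 𝒜 ⥤ᵇ overCat U} (h : Data P p) :
    _root_.AlgSt.RepByAlgSp 𝒜 := by
  obtain ⟨F, e, he, -⟩ := h
  exact ⟨F, e, he⟩

theorem rep1_of_with {𝒳 : BasedCategory.{v₂, u₂} (Over S)} {𝒴 : BasedCategory.{v₃, u₃} (Over S)} {f : 𝒳 ⥤ᵇ 𝒴}
    (hf : _root_.AlgSt.RepByAlgSpWith P f) : _root_.AlgSt.RepByAlgSp1 f := fun U y => Data.rep (hf U y)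

/-- invariance under equivalences -/
theorem with_iff {𝒳 𝒴 𝒳' 𝒴' : _root_.AlgSt.Cat S} (f : 𝒳 ⥤ᵇ 𝒴) (f' : 𝒳' ⥤ᵇ 𝒴') (a : 𝒳' ⥤ᵇ 𝒳) (b : 𝒴' ⥤ᵇ 𝒴)
    (ha : IsEquivOver a) (hb : IsEquivOver b) (e : BasedFunctor.comp f' b ≅ BasedFunctor.comp a f) :
    _root_.AlgSt.RepByAlgSpWith P f ↔ _root_.AlgSt.RepByAlgSpWith P f' := by
  constructor
  · intro h U y
    obtain ⟨Φ, hΦ, h1, -⟩ := transport_fst (BasedFunctor.comp y b) f y f' (BasedFunctor.id _) a b (equiv_id _) ha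
      (equiv_props hb).1 (equiv_props hb).2.1 (Iso.refl _) e
    exact Data.pull hΦ (eqToIso h1) (h U (BasedFunctor.comp y b))
  · intro h U y
    obtain ⟨G, hG, ⟨c⟩⟩ := equiv_inv hb
    obtain ⟨Φ, hΦ, h1, -⟩ := transport_fst y f (BasedFunctor.comp y G) f' (BasedFunctor.id _) a b (equiv_id _) ha
      (equiv_props hb).1 (equiv_props hb).2.1 (whiskL y c) e
    exact Data.push hΦ (eqToIso h1) (h U (BasedFunctor.comp y G))

theorem rep1_iff {𝒳 𝒴 𝒳' 𝒴' : _root_.AlgSt.Cat S} (f : 𝒳 ⥤ᵇ 𝒴) (f' : 𝒳' ⥤ᵇ 𝒴') (a : 𝒳' ⥤ᵇ 𝒳) (b : 𝒴' ⥤ᵇ 𝒴)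
    (ha : IsEquivOver a) (hb : IsEquivOver b) (e : BasedFunctor.comp f' b ≅ BasedFunctor.comp a f) :
    _root_.AlgSt.RepByAlgSp1 f ↔ _root_.AlgSt.RepByAlgSp1 f' := by
  constructor
  · intro h U y
    obtain ⟨Φ, hΦ, -⟩ := transport_fst (BasedFunctor.comp y b) f y f' (BasedFunctor.id _) a b (equiv_id _) ha
      (equiv_props hb).1 (equiv_props hb).2.1 (Iso.refl _) e
    exact rep_of_equiv' hΦ (h U (BasedFunctor.comp y b))
  · intro h U y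
    obtain ⟨G, hG, ⟨c⟩⟩ := equiv_inv hb
    obtain ⟨Φ, hΦ, -⟩ := transport_fst y f (BasedFunctor.comp y G) f' (BasedFunctor.id _) a b (equiv_id _) ha
      (equiv_props hb).1 (equiv_props hb).2.1 (whiskL y c) e
    exact rep_of_equiv hΦ (h U (BasedFunctor.comp y G))

variable (P)

/-- stability under base change and descent along etale atlases -/
structure Good : Prop where
  bc : ∀ ⦃X₁ Y₁ X₂ Y₂ : AlgSp.Sp S⦄, AlgSp.IsAlgSpace X₁ → AlgSp.IsAlgSpace Y₁ → AlgSp.IsAlgSpace X₂ →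
    AlgSp.IsAlgSpace Y₂ → ∀ (a : X₁ ⟶ Y₁) (b : Y₂ ⟶ Y₁) (a' : X₂ ⟶ Y₂) (b' : X₂ ⟶ X₁),
      IsPullback b' a' a b → P a → P a'
  desc : ∀ ⦃X Y W : AlgSp.Sp S⦄ ⦃V : Over S⦄ (f : X ⟶ Y) (t : (AlgSp.yon S).obj V ⟶ Y) (p : W ⟶ (AlgSp.yon S).obj V)
    (q : W ⟶ X), AlgSp.IsAlgSpace X → AlgSp.IsAlgSpace Y → AlgSp.IsAlgSpace W → AlgSp.RepWith @Etale t →
      AlgSp.RepWith @Surjective t → IsPullback q p f t → P p → P f

variable {P}

theorem Good.iso_left (hP : Good P) {X X' Y : AlgSp.Sp S} (hX : AlgSp.IsAlgSpace X) (hY : AlgSp.IsAlgSpace Y)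
    (m : X' ⟶ X) [IsIso m] (a : X ⟶ Y) (h : P a) : P (m ≫ a) :=
  hP.bc hX hY (hX.of_iso (asIso m).symm) hY a (𝟙 Y) (m ≫ a) m
    (IsPullback.of_horiz_isIso ⟨(Category.comp_id _).symm⟩) h

theorem good_of_local
    (hPb : ∀ ⦃X₁ Y₁ X₂ Y₂ : AlgSp.Sp S⦄, AlgSp.IsAlgSpace X₁ → AlgSp.IsAlgSpace Y₁ → AlgSp.IsAlgSpace X₂ →
      AlgSp.IsAlgSpace Y₂ → ∀ (a : X₁ ⟶ Y₁) (b : Y₂ ⟶ Y₁) (a' : X₂ ⟶ Y₂) (b' : X₂ ⟶ X₁),
      IsPullback b' a' a b → P a → P a')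
    (hP : AlgSp.IsLocalOnBase AlgSp.IsFppfCover P) : Good P where
  bc := hPb
  desc X Y W V f t p q hX hY hW ht hts sq hp :=
    (hP (ι := PUnit) (fun _ => (AlgSp.yon S).obj V) (fun _ => t) hY (fun _ => AlgSp.IsAlgSpace.yon_obj V)
      ⟨fun _ =>
        ⟨AlgSpTopo.locP_mono AlgSpTopo.etaleLocal_flat.of_etale
            (AlgSpTopo.locP_etale_of_isEtaleMor t (AlgSp.isEtaleMor_of_repWith t ht)),
          AlgSpTopo.locP_mono AlgSpTopo.etaleLocal_locallyOfFinitePresentation.of_etale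
            (AlgSpTopo.locP_etale_of_isEtaleMor t (AlgSp.isEtaleMor_of_repWith t ht))⟩,
        fun y => ⟨PUnit.unit, AlgSpTopo.surjective_of_repWith hts y⟩⟩
      f hX (fun _ => W) (fun _ => p) (fun _ => q) (fun _ => hW) (fun _ => sq)).2 fun _ => hp

theorem good_locP {R : MorphismProperty Scheme.{u}} (hR : AlgSpTopo.EtaleLocal R)
    (hloc : AlgSp.IsLocalOnBase (AlgSp.IsFpqcCover (S := S)) (AlgSp.LocP R)) : Good (S := S) (AlgSp.LocP R) where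
  bc X₁ Y₁ X₂ Y₂ h1 h2 _ h4 a b a' b' sq h := AlgSpTopo.locP_bc hR h1 h2 h4 sq h
  desc X Y W V f t p q hX hY hW ht hts sq hp :=
    (hloc (ι := PUnit) (fun _ => (AlgSp.yon S).obj V) (fun _ => t) hY (fun _ => AlgSp.IsAlgSpace.yon_obj V)
      (AlgSpTopo.fpqc_of_etale hY (fun _ => AlgSp.IsAlgSpace.yon_obj V) _ (fun _ => ht)
        fun y => ⟨PUnit.unit, AlgSpTopo.surjective_of_repWith hts y⟩)
      f hX (fun _ => W) (fun _ => p) (fun _ => q) (fun _ => hW) (fun _ => sq)).2 fun _ => hp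

theorem good_smooth : Good (S := S) (AlgSp.LocP @Smooth) :=
  good_locP AlgSpTopo.etaleLocal_smooth (AlgSpTopo.isLocalOnBase_fpqc AlgSpTopo.etaleLocal_smooth)

theorem good_surjective : Good (S := S) AlgSp.IsSurjectiveMor where
  bc X₁ Y₁ X₂ Y₂ _ _ _ _ a b a' b' sq h := AlgSpTopo.surjective_snd sq h
  desc X Y W V f t p q _ _ _ _ hts sq hp y := by
    obtain ⟨v, rfl⟩ := AlgSpTopo.surjective_of_repWith hts y
    obtain ⟨w, rfl⟩ := hp v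
    exact ⟨AlgSp.Points.map q w, by rw [← AlgSp.Points.map_comp, sq.w, AlgSp.Points.map_comp]⟩

theorem good_etale : Good (S := S) AlgSp.IsEtaleMor where
  bc X₁ Y₁ X₂ Y₂ h1 h2 h3 h4 a b a' b' sq h :=
    (AlgSpTopo.isEtaleMor_iff_locP h3 h4 a').2
      (AlgSpTopo.locP_bc AlgSpTopo.etaleLocal_etale h1 h2 h4 sq ((AlgSpTopo.isEtaleMor_iff_locP h1 h2 a).1 h))
  desc X Y W V f t p q hX hY hW ht hts sq hp :=
    (AlgSpTopo.isLocalOnBase_isEtaleMor (ι := PUnit) (fun _ => (AlgSp.yon S).obj V) (fun _ => t) hY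
      (fun _ => AlgSp.IsAlgSpace.yon_obj V)
      (AlgSpTopo.fpqc_of_etale hY (fun _ => AlgSp.IsAlgSpace.yon_obj V) _ (fun _ => ht)
        fun y => ⟨PUnit.unit, AlgSpTopo.surjective_of_repWith hts y⟩)
      f hX (fun _ => W) (fun _ => p) (fun _ => q) (fun _ => hW) (fun _ => sq)).2 fun _ => hp

/-- the property over an algebraic space -/
theorem with_sp (hP : Good P) {𝒳 𝒴 : _root_.AlgSt.Cat S} {f : 𝒳 ⥤ᵇ 𝒴} (hf : _root_.AlgSt.RepByAlgSpWith P f)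
    (Z W : AlgSp.Space S) (g : _root_.AlgSt.ofSp Z.obj ⥤ᵇ 𝒴) (e : _root_.AlgSt.ofSp W.obj ⥤ᵇ fp g f)
    (he : IsEquivOver e) (π : W.obj ⟶ Z.obj) (hπ : π.hom = toMap (BasedFunctor.comp e (fpFst g f))) : P π := by
  obtain ⟨V, t, ht, hts⟩ := Z.property.atlas
  have sq := IsPullback.of_hasPullback π t
  have hT : AlgSp.IsAlgSpace (pullback π t) :=
    AlgSpTopo.isAlgSpace_pullback W.property Z.property (AlgSp.IsAlgSpace.yon_obj V) π t
  refine hP.desc π t _ _ W.property Z.property hT ht hts sq ?_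
  let y : overCat V ⥤ᵇ 𝒴 :=
    BasedFunctor.comp (_root_.AlgSt.ofOverCat V) (BasedFunctor.comp (_root_.AlgSt.ofSpMap t) g)
  obtain ⟨Ψ, hΨ, p1⟩ := paste_fst' (_root_.AlgSt.ofSpMap t) g f
  obtain ⟨Θ, hΘ, q1, -⟩ := transport_fst y f (BasedFunctor.comp (_root_.AlgSt.ofSpMap t) g) f
    (_root_.AlgSt.toOverCat V) (BasedFunctor.id _) (BasedFunctor.id _) (toOver_equiv V) (equiv_id _)
    (id_ff _).1 (id_ff _).2 (eqToIso rfl) (Iso.refl _)
  obtain ⟨Ξ, hΞ, r1, -⟩ := transport_fst (_root_.AlgSt.ofSpMap t) (fpFst g f) (_root_.AlgSt.ofSpMap t)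
    (_root_.AlgSt.ofSpMap π) (BasedFunctor.id _) e (BasedFunctor.id _) (equiv_id _) he (id_ff _).1 (id_ff _).2
    (Iso.refl _) ((eqToIso (congrArg _root_.Stk.ofPshMap hπ) : _root_.AlgSt.ofSpMap π ≅ _) ≪≫ (isoToMap _).symm)
  obtain ⟨E, hE, s1, -⟩ := fp_ofPsh (sq.flip.map (sheafToPresheaf (AlgSp.J S) _))
  have h1 : Data P (fpFst y f) := hf V y
  have h2 : Data P (BasedFunctor.comp (fpFst (BasedFunctor.comp (_root_.AlgSt.ofSpMap t) g) f) (_root_.AlgSt.toOverCat V)) :=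
    h1.pull hΘ (eqToIso q1)
  have h3 : Data P (BasedFunctor.comp (fpFst (_root_.AlgSt.ofSpMap t) (fpFst g f)) (_root_.AlgSt.toOverCat V)) :=
    h2.push hΨ (eqToIso (congrArg (fun k => BasedFunctor.comp k (_root_.AlgSt.toOverCat V)) p1 :))
  have h4 : Data P (BasedFunctor.comp (fpFst (_root_.AlgSt.ofSpMap t) (_root_.AlgSt.ofSpMap π)) (_root_.AlgSt.toOverCat V)) :=
    Data.pull (q := BasedFunctor.comp (fpFst (_root_.AlgSt.ofSpMap t) (fpFst g f)) (_root_.AlgSt.toOverCat V)) hΞ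
      (eqToIso (congrArg (fun k => BasedFunctor.comp k (_root_.AlgSt.toOverCat V)) r1 :)) h3
  have h5 : Data P (BasedFunctor.comp (_root_.AlgSt.ofSpMap (pullback.snd π t)) (_root_.AlgSt.toOverCat V)) :=
    Data.pull (q := BasedFunctor.comp (fpFst (_root_.AlgSt.ofSpMap t) (_root_.AlgSt.ofSpMap π)) (_root_.AlgSt.toOverCat V)) hE
      (eqToIso (congrArg (fun k => BasedFunctor.comp k (_root_.AlgSt.toOverCat V)) s1 :)) h4
  obtain ⟨F, k, hk, hPk⟩ := h5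
  let m : F.obj ⟶ pullback π t := ObjectProperty.homMk (toMap k)
  haveI : IsIso ((sheafToPresheaf (AlgSp.J S) _).map m) := isIso_toMap hk
  haveI : IsIso m := isIso_of_reflects_iso m (sheafToPresheaf (AlgSp.J S) _)
  have key : _root_.AlgSt.spMapOfOver
      (BasedFunctor.comp k (BasedFunctor.comp (_root_.AlgSt.ofSpMap (pullback.snd π t)) (_root_.AlgSt.toOverCat V))) =
      m ≫ pullback.snd π t := by
    apply ObjectProperty.hom_ext
    exact spMapOfOver_comp k (pullback.snd π t).hom _ (Iso.refl _)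
  rw [key] at hPk
  have := hP.iso_left F.property (AlgSp.IsAlgSpace.yon_obj V) (inv m) _ hPk
  rwa [IsIso.inv_hom_id_assoc] at this

theorem spMap_after {F G : AlgSp.Sp S} {U : Over S} (K : _root_.AlgSt.ofSp F ⥤ᵇ _root_.AlgSt.ofSp G)
    (M : _root_.AlgSt.ofSp G ⥤ᵇ overCat U) (Φ : _root_.AlgSt.ofSp F ⥤ᵇ overCat U) (e : Φ ≅ BasedFunctor.comp K M) :
    _root_.AlgSt.spMapOfOver Φ = (ObjectProperty.homMk (toMap K) : F ⟶ G) ≫ _root_.AlgSt.spMapOfOver M := by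
  apply ObjectProperty.hom_ext
  exact (toMap_congr (whiskR e (_root_.AlgSt.ofOverCat U))).trans
    (toMap_comp K (BasedFunctor.comp M (_root_.AlgSt.ofOverCat U)))

theorem fp_of_comp {𝒳 𝒴 𝒵 : _root_.AlgSt.Cat S} (f : 𝒳 ⥤ᵇ 𝒴) (g : 𝒴 ⥤ᵇ 𝒵) {𝒱 𝒲 : _root_.AlgSt.Cat S}
    (G : 𝒲 ⥤ᵇ 𝒵) (E : 𝒱 ⥤ᵇ fp G g) (hE : IsEquivOver E) :
    ∃ Φ : fp (BasedFunctor.comp E (fpSnd G g)) f ⥤ᵇ fp G (BasedFunctor.comp f g), IsEquivOver Φ ∧
      BasedFunctor.comp Φ (fpFst G (BasedFunctor.comp f g)) =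
        BasedFunctor.comp (fpFst (BasedFunctor.comp E (fpSnd G g)) f) (BasedFunctor.comp E (fpFst G g)) := by
  let M : fp (fpSnd G g) f ⥤ᵇ fp G (BasedFunctor.comp f g) :=
    lift' (BasedFunctor.comp (fpFst _ f) (fpFst G g)) (fpSnd _ f)
      (fun w => w.obj.fst.obj.iso ≪≫ g.toFunctor.mapIso w.obj.iso)
      (fun {w w'} φ => by
        have h1 : G.map φ.hom.fst.hom.fst ≫ w'.obj.fst.obj.iso.hom =
            w.obj.fst.obj.iso.hom ≫ g.map φ.hom.fst.hom.snd := φ.hom.fst.hom.w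
        have h3 : g.map φ.hom.fst.hom.snd ≫ g.map w'.obj.iso.hom = g.map w.obj.iso.hom ≫ g.map (f.map φ.hom.snd) := by
          rw [← g.toFunctor.map_comp, ← g.toFunctor.map_comp]; exact congrArg g.map φ.hom.w
        show G.map φ.hom.fst.hom.fst ≫ w'.obj.fst.obj.iso.hom ≫ g.map w'.obj.iso.hom =
          (w.obj.fst.obj.iso.hom ≫ g.map w.obj.iso.hom) ≫ g.map (f.map φ.hom.snd)
        rw [reassoc_of% h1, h3, Category.assoc])
      (fun w => (fp_vert w.obj.fst).comp (fp_vert w).map)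
  have hM : IsEquivOver M := by
    refine isEquivOver_mk M (fun {w w'} ψ => ?_) (fun {w w'} φ φ' h => ?_) (fun η => ?_)
    · let b : w.obj.fst.obj.snd ⟶ w'.obj.fst.obj.snd :=
        w.obj.iso.hom ≫ f.map ψ.hom.snd ≫ w'.obj.iso.inv
      have h : G.map ψ.hom.fst ≫ w'.obj.fst.obj.iso.hom ≫ g.map w'.obj.iso.hom =
          (w.obj.fst.obj.iso.hom ≫ g.map w.obj.iso.hom) ≫ g.map (f.map ψ.hom.snd) := ψ.hom.w
      have hb : G.map ψ.hom.fst ≫ w'.obj.fst.obj.iso.hom = w.obj.fst.obj.iso.hom ≫ g.map b := by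
        rw [← cancel_mono (g.toFunctor.mapIso w'.obj.iso).hom, Category.assoc]
        refine h.trans ?_
        show _ = (w.obj.fst.obj.iso.hom ≫ g.map b) ≫ g.map w'.obj.iso.hom
        rw [Category.assoc, Category.assoc, ← g.toFunctor.map_comp, ← g.toFunctor.map_comp]
        simp [b]
      refine ⟨fpHom (fpHom ψ.hom.fst b hb) ψ.hom.snd ?_, fp_ext rfl rfl⟩
      show b ≫ w'.obj.iso.hom = w.obj.iso.hom ≫ f.map ψ.hom.snd
      simp [b]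
    · have h2 : φ.hom.snd = φ'.hom.snd := congrArg (fun m => m.hom.snd) h
      refine fp_ext (fp_ext (congrArg (fun m => m.hom.fst) h :) ?_) h2
      have e1 : φ.hom.fst.hom.snd ≫ w'.obj.iso.hom = w.obj.iso.hom ≫ f.map φ.hom.snd := φ.hom.w
      have e2 : φ'.hom.fst.hom.snd ≫ w'.obj.iso.hom = w.obj.iso.hom ≫ f.map φ'.hom.snd := φ'.hom.w
      exact (cancel_mono w'.obj.iso.hom).1 (e1.trans (by rw [e2, h2]))
    · exact ⟨fpMk (fpMk η.obj.fst (f.obj η.obj.snd) η.obj.iso (fp_vert η)) η.obj.snd (Iso.refl _) (Vert.id _),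
        fpIsoMk (Iso.refl η.obj.fst) (Iso.refl η.obj.snd) (by
          show G.map (𝟙 _) ≫ η.obj.iso.hom = (η.obj.iso.hom ≫ g.map (𝟙 _)) ≫ g.map (f.map (𝟙 _))
          rw [G.toFunctor.map_id, f.toFunctor.map_id, g.toFunctor.map_id]
          exact (Category.id_comp _).trans ((Category.comp_id _).symm.trans (congrArg (· ≫ 𝟙 _) (Category.comp_id _).symm))),
        Vert.id (p := 𝒲.p) η.obj.fst⟩
  obtain ⟨Φ, hΦ, h1, -⟩ := change_fst (fpSnd G g) f E hE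
  exact ⟨BasedFunctor.comp Φ M, equiv_comp hΦ hM, congrArg (fun k => BasedFunctor.comp k (fpFst G g)) h1⟩

/-- composition -/
theorem with_comp (hP : Good P)
    (hPc : ∀ ⦃X Y Z : AlgSp.Sp S⦄, AlgSp.IsAlgSpace X → AlgSp.IsAlgSpace Y → AlgSp.IsAlgSpace Z →
      ∀ (a : X ⟶ Y) (b : Y ⟶ Z), P a → P b → P (a ≫ b))
    {𝒳 𝒴 𝒵 : _root_.AlgSt.Cat S} (h𝒳 : IsFibGrpd 𝒳.p) (h𝒴 : IsFibGrpd 𝒴.p) (f : 𝒳 ⥤ᵇ 𝒴) (g : 𝒴 ⥤ᵇ 𝒵)
    (hf : _root_.AlgSt.RepByAlgSpWith P f) (hg : _root_.AlgSt.RepByAlgSpWith P g) :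
    _root_.AlgSt.RepByAlgSpWith P (BasedFunctor.comp f g) := by
  intro U y
  obtain ⟨G, eG, heG, hπG⟩ := hg U y
  let H := BasedFunctor.comp eG (fpSnd y g)
  obtain ⟨W, eW, heW⟩ := rep_fp h𝒳 h𝒴 f H (rep1_of_with hf) ⟨G, BasedFunctor.id _, equiv_id _⟩
  let π : W.obj ⟶ G.obj := ObjectProperty.homMk (toMap (BasedFunctor.comp eW (fpFst H f)))
  have hπ : P π := with_sp hP hf G W H eW heW π rfl
  obtain ⟨Φ, hΦ, h1⟩ := fp_of_comp f g y eG heG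
  refine ⟨W, BasedFunctor.comp eW Φ, equiv_comp heW hΦ, ?_⟩
  have key : _root_.AlgSt.spMapOfOver (BasedFunctor.comp (BasedFunctor.comp eW Φ) (fpFst y (BasedFunctor.comp f g))) =
      π ≫ _root_.AlgSt.spMapOfOver (BasedFunctor.comp eG (fpFst y g)) := by
    exact spMap_after (BasedFunctor.comp eW (fpFst H f)) (BasedFunctor.comp eG (fpFst y g)) _
      (eqToIso (congrArg (BasedFunctor.comp eW) h1))
  rw [key]
  exact hPc W.property G.property (AlgSp.IsAlgSpace.yon_obj U) _ _ hπ hπG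

end Groth.Agent.H7.AlgSt
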